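import Mathlib
import Groth.Agent.FlatMorOne.FlatLocusOpen

/-!
# Syzygies of flat finitely presented modules are finitely presented
-/

set_option autoImplicit false
universe u

open TensorProduct

namespace Groth.Ega43FP2

section Ladder

variable {R A : Type u} [CommRing R] [CommRing A] [Algebra R A]
  {P P' F F' M M' : Type u} [AddCommGroup P] [AddCommGroup P'] [AddCommGroup F] [AddCommGroup F']
  [AddCommGroup M] [AddCommGroup M']
  [Module R P'] [Module R F'] [Module R M'] [Module R P] [Module R F] [Module R M]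
  [Module A P] [Module A F] [Module A M] [IsScalarTower R A P] [IsScalarTower R A F] [IsScalarTower R A M]

theorem baseChange_comm {β : P' →ₗ[R] P} (hβ : IsBaseChange A β) {γ : F' →ₗ[R] F} (hγ : IsBaseChange A γ)
    (f : P →ₗ[A] F) (f' : P' →ₗ[R] F') (h : ∀ x, f (β x) = γ (f' x)) :
    f ∘ₗ hβ.equiv.toLinearMap = hγ.equiv.toLinearMap ∘ₗ f'.baseChange A := by
  refine LinearMap.ext fun z => ?_
  induction z with
  | zero => simp
  | tmul a x =>
    simp only [LinearMap.comp_apply, LinearEquiv.coe_coe, LinearMap.baseChange_tmul, IsBaseChange.equiv_tmul,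
      map_smul, h]
  | add x y hx hy => simp only [map_add, hx, hy]

theorem exact_of_baseChange {β : P' →ₗ[R] P} (hβ : IsBaseChange A β) {γ : F' →ₗ[R] F} (hγ : IsBaseChange A γ)
    {δ : M' →ₗ[R] M} (hδ : IsBaseChange A δ) (f : P →ₗ[A] F) (f' : P' →ₗ[R] F') (hf : ∀ x, f (β x) = γ (f' x))
    (g : F →ₗ[A] M) (g' : F' →ₗ[R] M') (hg : ∀ x, g (γ x) = δ (g' x))
    (hex : Function.Exact (f'.lTensor A) (g'.lTensor A)) : Function.Exact f g :=
  Function.Exact.of_ladder_linearEquiv_of_exact (baseChange_comm hβ hγ f f' hf) (baseChange_comm hγ hδ g g' hg)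
    (by
      show Function.Exact (f'.baseChange A) (g'.baseChange A)
      exact hex)

end Ladder

set_option synthInstance.maxHeartbeats 200000 in
set_option maxHeartbeats 4000000 in
/-- A finitely presented module, flat over the base, over a finitely presented algebra has a finitely
presented module of relations. -/
theorem exists_surjective_finitePresentation_ker (A B M : Type u) [CommRing A] [CommRing B] [Algebra A B]
    [Algebra.FinitePresentation A B] [AddCommGroup M] [Module B M] [Module A M]
    [IsScalarTower A B M] [Module.FinitePresentation B M] [Module.Flat A M] :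
    ∃ (k : ℕ) (g : (Fin k → B) →ₗ[B] M), Function.Surjective g ∧ Module.FinitePresentation B (LinearMap.ker g) := by
  classical
  obtain ⟨R₀, hR₀, S₀, _, _, _, _, hS₀, hpush, M₀, _, _, _, _, _, _, f₀, hM₀, hf₀⟩ :=
    Groth.FlatMorOne.exists_models A B M
  have := hR₀
  have : IsNoetherianRing R₀ := Algebra.FiniteType.isNoetherianRing ℤ R₀
  have : Algebra.FiniteType R₀ S₀ := Algebra.FiniteType.of_finitePresentation
  have := hM₀
  have := hpush
  letI : ∀ (C : Type u) [CommRing C] [Algebra R₀ C], Algebra S₀ (C ⊗[R₀] S₀) :=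
    fun C _ _ => Algebra.TensorProduct.rightAlgebra
  obtain ⟨A', hA', hflat⟩ := Groth.FlatMorOne.exists_stage_flat_global (R₀ := R₀) (R := A) (S₀ := S₀) (S := B) hf₀
  have : IsNoetherianRing A' := isNoetherianRing_of_fg hA'
  have := hflat A' hA' le_rfl
  let B' := Groth.FlatMorOne.SOf R₀ S₀ A'
  let M' := Groth.FlatMorOne.MOf R₀ S₀ M₀ A'
  have : IsNoetherianRing B' := Algebra.FiniteType.isNoetherianRing A' _
  let β : M' →ₗ[A'] M := Groth.FlatMorOne.stageLinearMap (R₀ := R₀) (R := A) hf₀ A'
  have hβ : IsBaseChange A β := Groth.FlatMorOne.isBaseChange_stageLinearMap (R₀ := R₀) (R := A) hf₀ A'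
  let σ : B' →+* B := (Groth.FlatMorOne.stageAlgHom R₀ A S₀ B A').toRingHom
  have hσ : ∀ (a : A') (s : S₀), σ (a ⊗ₜ[R₀] s) = algebraMap A B a * algebraMap S₀ B s := fun a s => by
    show Groth.FlatMorOne.pushoutAlgEquiv R₀ A S₀ B
      (Groth.FlatMorOne.sMap R₀ S₀ (IsScalarTower.toAlgHom R₀ A' A) (a ⊗ₜ[R₀] s)) = _
    rw [Groth.FlatMorOne.sMap_tmul, Groth.FlatMorOne.pushoutAlgEquiv_tmul]
    rfl
  let σl : B' →ₗ[A'] B :=
    { toFun := σ
      map_add' := map_add σ
      map_smul' := fun a x => by
        rw [RingHom.id_apply, Algebra.smul_def, map_mul, Algebra.TensorProduct.algebraMap_apply,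
          Algebra.algebraMap_self, RingHom.id_apply, hσ, map_one, mul_one]
        exact ((algebraMap_smul A a (σ x)).symm.trans (Algebra.smul_def _ _)).symm }
  have hσl : IsBaseChange A σl := by
    refine IsBaseChange.of_comp (TensorProduct.isBaseChange R₀ S₀ A') ?_
    have e : σl.restrictScalars R₀ ∘ₗ TensorProduct.mk R₀ A' S₀ 1 = (IsScalarTower.toAlgHom R₀ S₀ B).toLinearMap :=
      LinearMap.ext fun s => by
        show σ ((1 : A') ⊗ₜ[R₀] s) = algebraMap S₀ B s
        rw [hσ, OneMemClass.coe_one, map_one, one_mul]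
    rw [e]
    exact hpush.out
  let pw : ∀ n : ℕ, (Fin n → B') →ₗ[A'] (Fin n → B) := fun n => LinearMap.pi fun i => σl ∘ₗ LinearMap.proj i
  have hpw : ∀ n, IsBaseChange A (pw n) := fun n => IsBaseChange.pi (f := fun _ => σl) fun _ => hσl
  obtain ⟨k, x, hx⟩ := Module.Finite.exists_fin (R := B') (M := M')
  let g' : (Fin k → B') →ₗ[B'] M' := Fintype.linearCombination B' x
  have hg' : Function.Surjective g' := LinearMap.range_eq_top.1 (by rw [Fintype.range_linearCombination, hx])
  obtain ⟨m, y, hy⟩ := Module.Finite.exists_fin (R := B') (M := LinearMap.ker g')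
  let π' : (Fin m → B') →ₗ[B'] LinearMap.ker g' := Fintype.linearCombination B' y
  have hπ' : Function.Surjective π' := LinearMap.range_eq_top.1 (by rw [Fintype.range_linearCombination, hy])
  let f' : (Fin m → B') →ₗ[B'] (Fin k → B') := (LinearMap.ker g').subtype ∘ₗ π'
  obtain ⟨l, z, hz⟩ := Module.Finite.exists_fin (R := B') (M := LinearMap.ker f')
  let e' : (Fin l → B') →ₗ[B'] (Fin m → B') := (LinearMap.ker f').subtype ∘ₗ Fintype.linearCombination B' z
  have hef' : Function.Exact e' π' := by
    rw [LinearMap.exact_iff]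
    have : LinearMap.ker π' = LinearMap.ker f' := (LinearMap.ker_comp_of_ker_eq_bot _ (Submodule.ker_subtype _)).symm
    rw [this, LinearMap.range_comp, Fintype.range_linearCombination, hz, Submodule.map_subtype_top]
  let g : (Fin k → B) →ₗ[B] M := Fintype.linearCombination B fun i => β (x i)
  let f : (Fin m → B) →ₗ[B] (Fin k → B) := Fintype.linearCombination B fun j => pw k (f' (Pi.single j 1))
  let e : (Fin l → B) →ₗ[B] (Fin m → B) := Fintype.linearCombination B fun j => pw m (e' (Pi.single j 1))
  have key : ∀ (n p : ℕ) (h' : (Fin n → B') →ₗ[B'] (Fin p → B')) (v : Fin n → B'),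
      Fintype.linearCombination B (fun j => pw p (h' (Pi.single j 1))) (pw n v) = pw p (h' v) := by
    intro n p h' v
    conv_rhs => rw [pi_eq_sum_univ' v, map_sum, map_sum]
    rw [Fintype.linearCombination_apply]
    refine Finset.sum_congr rfl fun j _ => ?_
    funext i
    simp [pw, σl]
  have hgc : ∀ v, g (pw k v) = β (g' v) := by
    intro v
    simp only [g, g', Fintype.linearCombination_apply, map_sum]
    refine Finset.sum_congr rfl fun i _ => ?_
    exact (Groth.FlatMorOne.stageLinearMap_smul (R₀ := R₀) (R := A) hf₀ A' (v i) (x i)).symm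
  have hker' : Function.Exact ((LinearMap.ker g').subtype.restrictScalars A') (g'.restrictScalars A') :=
    LinearMap.exact_subtype_ker_map g'
  have hfg' : Function.Exact ((f'.restrictScalars A').lTensor A) ((g'.restrictScalars A').lTensor A) := by
    refine lTensor_exact A ?_ hg'
    show Function.Exact f' g'
    rw [LinearMap.exact_iff, LinearMap.range_comp, LinearMap.range_eq_top.2 hπ', Submodule.map_subtype_top]
  have hef : Function.Exact ((e'.restrictScalars A').lTensor A) ((f'.restrictScalars A').lTensor A) := by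
    have h1 : Function.Exact ((e'.restrictScalars A').lTensor A) ((π'.restrictScalars A').lTensor A) :=
      lTensor_exact A (f := e'.restrictScalars A') (g := π'.restrictScalars A') hef' hπ'
    have h2 := LinearMap.lTensor_injective_of_exact_of_flat (g'.restrictScalars A') hg'
      ((LinearMap.ker g').subtype.restrictScalars A') Subtype.val_injective hker' A
    rw [show f'.restrictScalars A' = (LinearMap.ker g').subtype.restrictScalars A' ∘ₗ π'.restrictScalars A' from rfl,
      LinearMap.lTensor_comp, LinearMap.coe_comp]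
    exact h1.comp_injective _ h2 (map_zero _)
  have hfgB : Function.Exact f g := exact_of_baseChange (hpw m) (hpw k) hβ (f.restrictScalars A)
    (f'.restrictScalars A') (key m k f') (g.restrictScalars A) (g'.restrictScalars A') hgc hfg'
  have hefB : Function.Exact e f := exact_of_baseChange (hpw l) (hpw m) (hpw k) (e.restrictScalars A)
    (e'.restrictScalars A') (key l m e') (f.restrictScalars A) (f'.restrictScalars A') (key m k f') hef
  have hgsurj : Function.Surjective g := by
    intro w
    obtain ⟨t, rfl⟩ := hβ.equiv.surjective w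
    induction t with
    | zero => exact ⟨0, by simp⟩
    | tmul a w =>
      obtain ⟨v, rfl⟩ := hg' w
      exact ⟨a • pw k v, by rw [LinearMap.map_smul_of_tower, hgc, IsBaseChange.equiv_tmul]⟩
    | add u v hu hv =>
      obtain ⟨a, ha⟩ := hu
      obtain ⟨b, hb⟩ := hv
      exact ⟨a + b, by rw [map_add, map_add, ha, hb]⟩
  refine ⟨k, g, hgsurj, ?_⟩
  let π : (Fin m → B) →ₗ[B] LinearMap.ker g := f.codRestrict _ fun v => hfgB.apply_apply_eq_zero v
  refine Module.finitePresentation_of_surjective π (fun ⟨w, hw⟩ => ?_) ?_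
  · obtain ⟨v, hv⟩ := (hfgB w).1 hw
    exact ⟨v, Subtype.ext hv⟩
  · rw [show LinearMap.ker π = LinearMap.ker f from LinearMap.ker_codRestrict _ f _, hefB.linearMap_ker_eq, LinearMap.range_eq_map]
    exact Module.Finite.fg_top.map e

end Groth.Ega43FP2
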