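import Mathlib
import Groth.Agent.Ega43FP2.Syzygy
import Groth.Agent.Syntomic.BaseChange

/-!
# Finite free resolutions of flat finitely presented modules
-/

set_option autoImplicit false
universe u

open CategoryTheory Limits

namespace Groth.Ega43FP2

variable (A B : Type u) [CommRing A] [CommRing B] [Algebra A B]

/-- A finitely presented `B`-module, flat over `A`. -/
structure FPFlat where
  carrier : Type u
  [grp : AddCommGroup carrier]
  [modB : Module B carrier]
  [modA : Module A carrier]
  [tower : IsScalarTower A B carrier]
  [fp : Module.FinitePresentation B carrier]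
  [flat : Module.Flat A carrier]

attribute [instance] FPFlat.grp FPFlat.modB FPFlat.modA FPFlat.tower FPFlat.fp FPFlat.flat

variable [Algebra.FinitePresentation A B] [Module.Flat A B]
variable {A B}

namespace FPFlat

/-- The rank of the free module covering `N`. -/
noncomputable def rk (N : FPFlat A B) : ℕ :=
  (exists_surjective_finitePresentation_ker A B N.carrier).choose

/-- The free cover of `N`. -/
noncomputable def cover (N : FPFlat A B) : (Fin N.rk → B) →ₗ[B] N.carrier :=
  (exists_surjective_finitePresentation_ker A B N.carrier).choose_spec.choose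

theorem cover_surjective (N : FPFlat A B) : Function.Surjective N.cover :=
  (exists_surjective_finitePresentation_ker A B N.carrier).choose_spec.choose_spec.1

/-- The module of relations. -/
noncomputable def next (N : FPFlat A B) : FPFlat A B :=
  haveI : Module.FinitePresentation B (LinearMap.ker N.cover) :=
    (exists_surjective_finitePresentation_ker A B N.carrier).choose_spec.choose_spec.2
  haveI : Module.Flat A (Fin N.rk → B) :=
    Module.Flat.trans A B (Fin N.rk → B)
  haveI : Module.Flat A (LinearMap.ker N.cover) :=
    Groth.Syntomic.flat_ker (N.cover.restrictScalars A) N.cover_surjective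
  ⟨LinearMap.ker N.cover⟩

/-- The inclusion of the relations. -/
noncomputable def incl (N : FPFlat A B) : N.next.carrier →ₗ[B] (Fin N.rk → B) :=
  (LinearMap.ker N.cover).subtype

theorem incl_injective (N : FPFlat A B) : Function.Injective N.incl := Subtype.val_injective

theorem range_incl (N : FPFlat A B) : LinearMap.range N.incl = LinearMap.ker N.cover :=
  Submodule.range_subtype (LinearMap.ker N.cover)

end FPFlat

variable (A B)
variable (M : Type u) [AddCommGroup M] [Module B M] [Module A M] [IsScalarTower A B M]
  [Module.FinitePresentation B M] [Module.Flat A M]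

/-- The iterated modules of relations of `M`. -/
noncomputable def syz : ℕ → FPFlat A B
  | 0 => ⟨M⟩
  | n + 1 => (syz n).next

/-- The differential. -/
noncomputable def syzD (n : ℕ) : (Fin (syz A B M (n + 1)).rk → B) →ₗ[B] (Fin (syz A B M n).rk → B) :=
  (syz A B M n).incl ∘ₗ (syz A B M (n + 1)).cover

theorem range_syzD (n : ℕ) : LinearMap.range (syzD A B M n) = LinearMap.ker (syz A B M n).cover := by
  rw [syzD]
  refine (LinearMap.range_comp_of_range_eq_top _ ?_).trans (FPFlat.range_incl (syz A B M n))
  exact LinearMap.range_eq_top.2 (FPFlat.cover_surjective (syz A B M (n + 1)))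

theorem ker_syzD (n : ℕ) : LinearMap.ker (syzD A B M n) = LinearMap.ker (syz A B M (n + 1)).cover :=
  LinearMap.ker_comp_of_ker_eq_bot _ (LinearMap.ker_eq_bot.2 (FPFlat.incl_injective (syz A B M n)))

/-- The complex of iterated free covers. -/
noncomputable def cx : ChainComplex (ModuleCat.{u} B) ℕ :=
  ChainComplex.of (fun i => ModuleCat.of B (Fin (syz A B M i).rk → B))
    (fun i => ModuleCat.ofHom (syzD A B M i)) fun i => by
      rw [← ModuleCat.ofHom_comp]
      refine ModuleCat.hom_ext (LinearMap.ext fun v => ?_)
      show syzD A B M i (syzD A B M (i + 1) v) = 0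
      rw [← LinearMap.mem_ker, ker_syzD, ← range_syzD]
      exact ⟨v, rfl⟩

theorem cx_d (i : ℕ) : (cx A B M).d (i + 1) i = ModuleCat.ofHom (syzD A B M i) :=
  ChainComplex.of_d (fun i => ModuleCat.of B (Fin (syz A B M i).rk → B))
    (fun i => ModuleCat.ofHom (syzD A B M i)) i

theorem cx_d_aug : (cx A B M).d 1 0 ≫ ModuleCat.ofHom (syz A B M 0).cover = 0 := by
  rw [cx_d A B M 0]
  refine ModuleCat.hom_ext (LinearMap.ext fun v => ?_)
  exact (range_syzD A B M 0).le ⟨v, rfl⟩

/-- The augmentation. -/
noncomputable def cxπ : cx A B M ⟶ (ChainComplex.single₀ _).obj (ModuleCat.of B M) :=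
  ((cx A B M).toSingle₀Equiv _).symm ⟨ModuleCat.ofHom (syz A B M 0).cover, cx_d_aug A B M⟩

theorem cxπ_f_zero : (cxπ A B M).f 0 = ModuleCat.ofHom (syz A B M 0).cover :=
  ChainComplex.toSingle₀Equiv_symm_apply_f_zero _ _

theorem quasiIso_cxπ : QuasiIso (cxπ A B M) where
  quasiIsoAt m := by
    cases m with
    | zero =>
      rw [ChainComplex.quasiIsoAt₀_iff, ShortComplex.quasiIso_iff_of_zeros' _
        ((cx A B M).shape _ _ (by simp)) (HomologicalComplex.single_obj_d (ComplexShape.down ℕ) _ _ _ _)
        (HomologicalComplex.single_obj_d (ComplexShape.down ℕ) _ _ _ _)]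
      constructor
      · rw [ShortComplex.moduleCat_exact_iff_range_eq_ker]
        show LinearMap.range ((cx A B M).d 1 0).hom = LinearMap.ker ((cxπ A B M).f 0).hom
        rw [cxπ_f_zero, cx_d A B M 0]
        exact range_syzD A B M 0
      · show Epi ((cxπ A B M).f 0)
        rw [cxπ_f_zero]
        exact (ModuleCat.epi_iff_surjective _).2 (FPFlat.cover_surjective (syz A B M 0))
    | succ m =>
      rw [quasiIsoAt_iff_exactAt' (hL := ChainComplex.exactAt_succ_single_obj ..),
        HomologicalComplex.exactAt_iff' _ (m + 2) (m + 1) m (by simp) (by simp),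
        ShortComplex.moduleCat_exact_iff_range_eq_ker]
      show LinearMap.range ((cx A B M).d (m + 2) (m + 1)).hom = LinearMap.ker ((cx A B M).d (m + 1) m).hom
      rw [cx_d A B M (m + 1), cx_d A B M m]
      exact (range_syzD A B M (m + 1)).trans (ker_syzD A B M m).symm

/-- A resolution by finite free modules. -/
noncomputable def freeRes : ProjectiveResolution (ModuleCat.of B M) where
  complex := cx A B M
  projective i := (IsProjective.iff_projective _).1
    (inferInstanceAs (Module.Projective B (Fin (syz A B M i).rk → B)))
  π := cxπ A B M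
  quasiIso := quasiIso_cxπ A B M

theorem freeRes_finite_free (n : ℕ) :
    Module.Finite B ((freeRes A B M).complex.X n) ∧ Module.Free B ((freeRes A B M).complex.X n) :=
  ⟨inferInstanceAs (Module.Finite B (Fin (syz A B M n).rk → B)),
    inferInstanceAs (Module.Free B (Fin (syz A B M n).rk → B))⟩

end Groth.Ega43FP2
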