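import Mathlib
import Groth.Agent.Ega43FP2.Resolution
import Groth.Agent.SGA7.TorSeq
import Groth.Agent.Calg6.TorBridge

/-!
# Projective dimension and Tor dimension of flat finitely presented modules
-/

set_option autoImplicit false
universe u

open CategoryTheory Limits MonoidalCategory

namespace Groth.Ega43FP2

variable {R : Type u} [CommRing R]

/-- All `Tor_j(M, -)`, `j ≥ i`, vanish. -/
def TorVanishesFrom (M : ModuleCat.{u} R) (i : ℕ) : Prop :=
  ∀ j : ℕ, i ≤ j → ∀ N : ModuleCat.{u} R, IsZero (((Tor (ModuleCat.{u} R) j).obj M).obj N)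

theorem isZero_tor_X₃ {S : ShortComplex (ModuleCat.{u} R)} (hS : S.ShortExact) (Y : ModuleCat.{u} R) (i : ℕ)
    (h₂ : IsZero (((Tor (ModuleCat.{u} R) (i + 1)).obj S.X₂).obj Y))
    (h₁ : IsZero (((Tor (ModuleCat.{u} R) i).obj S.X₁).obj Y)) :
    IsZero (((Tor (ModuleCat.{u} R) (i + 1)).obj S.X₃).obj Y) := by
  obtain ⟨P⟩ := (inferInstance : HasProjectiveResolution Y).out
  rw [SGA7.TorSeq.isZero_tor_iff _ Y P] at h₁ h₂ ⊢
  exact ((SGA7.TorSeq.shortExact_tsc hS P).homology_exact₃ (i + 1) i rfl).isZero_of_both_zeros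
    (h₂.eq_of_src _ _) (h₁.eq_of_tgt _ _)

theorem isZero_tor_of_isZero {M : ModuleCat.{u} R} (hM : IsZero M) (Y : ModuleCat.{u} R) (i : ℕ) :
    IsZero (((Tor (ModuleCat.{u} R) i).obj M).obj Y) := by
  obtain ⟨P⟩ := (inferInstance : HasProjectiveResolution Y).out
  rw [SGA7.TorSeq.isZero_tor_iff _ Y P, ← HomologicalComplex.exactAt_iff_isZero_homology,
    HomologicalComplex.exactAt_iff]
  refine ShortComplex.exact_of_isZero_X₂ _ ?_
  exact (tensorRight (P.complex.X i)).map_isZero hM

theorem isZero_of_torVanishesFrom_zero {M : ModuleCat.{u} R} (h : TorVanishesFrom M 0) : IsZero M := by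
  have h0 : IsZero ((((tensoringLeft (ModuleCat.{u} R)).obj M).leftDerived 0).obj (𝟙_ (ModuleCat.{u} R))) :=
    h 0 le_rfl _
  have e : (((tensoringLeft (ModuleCat.{u} R)).obj M).leftDerived 0).obj (𝟙_ (ModuleCat.{u} R)) ≅ M :=
    (((tensoringLeft (ModuleCat.{u} R)).obj M).leftDerivedZeroIsoSelf.app _) ≪≫ ρ_ M
  exact h0.of_iso e.symm

theorem flat_of_torVanishesFrom_one {M : ModuleCat.{u} R} (h : TorVanishesFrom M 1) : Module.Flat R M := by
  rw [Module.Flat.iff_lTensor_injective]
  intro I hI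
  have h1 := (Groth.Calg6.isZero_tor_one_iff (R := R) M (R ⧸ I)).1 (h 1 le_rfl _)
  have h2 := (Groth.Calg6.torZero_iff_of_presentation M (R ⧸ I) I.mkQ I.mkQ_surjective).1 h1
  have e : ((LinearMap.ker I.mkQ).subtype).lTensor M =
      I.subtype.lTensor M ∘ₗ (LinearEquiv.ofEq _ _ I.ker_mkQ).toLinearMap.lTensor M := by
    rw [← LinearMap.lTensor_comp]
    rfl
  rw [e, LinearMap.coe_comp] at h2
  exact h2.of_comp_right (LinearEquiv.lTensor M (LinearEquiv.ofEq _ _ I.ker_mkQ)).surjective

variable {A B : Type u} [CommRing A] [CommRing B] [Algebra A B]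
variable [Algebra.FinitePresentation A B] [Module.Flat A B]

/-- The sequence of a free cover. -/
noncomputable def coverSeq (N : FPFlat A B) : ShortComplex (ModuleCat.{u} B) where
  X₁ := ModuleCat.of B N.next.carrier
  X₂ := ModuleCat.of B (Fin N.rk → B)
  X₃ := ModuleCat.of B N.carrier
  f := ModuleCat.ofHom N.incl
  g := ModuleCat.ofHom N.cover
  zero := ModuleCat.hom_ext (LinearMap.ext fun v => N.range_incl.le ⟨v, rfl⟩)

theorem coverSeq_shortExact (N : FPFlat A B) : (coverSeq N).ShortExact := by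
  refine ShortComplex.ShortExact.mk' ?_ ?_ ?_
  · rw [ShortComplex.moduleCat_exact_iff_range_eq_ker]
    exact N.range_incl
  · exact (ModuleCat.mono_iff_injective _).2 N.incl_injective
  · exact (ModuleCat.epi_iff_surjective _).2 N.cover_surjective

theorem projective_coverSeq_X₂ (N : FPFlat A B) : Projective (coverSeq N).X₂ :=
  (IsProjective.iff_projective _).1 (inferInstanceAs (Module.Projective B (Fin N.rk → B)))

theorem isZero_tor_coverSeq_X₂ (N : FPFlat A B) (Y : ModuleCat.{u} B) (j : ℕ) :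
    IsZero (((Tor (ModuleCat.{u} B) (j + 1)).obj (coverSeq N).X₂).obj Y) := by
  have : Module.Flat B (coverSeq N).X₂ := inferInstanceAs (Module.Flat B (Fin N.rk → B))
  exact SGA7.TorSeq.isZero_tor_of_flat _ Y _ j.succ_pos

/-- `pd < i` iff `Tor_j` vanishes for `j ≥ i`. -/
theorem hasProjectiveDimensionLT_iff_torVanishesFrom (i : ℕ) : ∀ N : FPFlat A B,
    HasProjectiveDimensionLT (ModuleCat.of B N.carrier) i ↔ TorVanishesFrom (ModuleCat.of B N.carrier) i := by
  match i with
  | 0 =>
    intro N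
    rw [hasProjectiveDimensionLT_zero_iff_isZero]
    exact ⟨fun h j _ Y => isZero_tor_of_isZero h Y j, isZero_of_torVanishesFrom_zero⟩
  | 1 =>
    intro N
    rw [← projective_iff_hasProjectiveDimensionLT_one, ← IsProjective.iff_projective]
    constructor
    · intro h j hj Y
      exact SGA7.TorSeq.isZero_tor_of_flat _ Y j hj
    · intro h
      have : Module.Flat B N.carrier := flat_of_torVanishesFrom_one h
      exact Module.Flat.projective_of_finitePresentation
  | n + 2 =>
    intro N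
    refine ((coverSeq_shortExact N).hasProjectiveDimensionLT_X₃_iff n (projective_coverSeq_X₂ N)).trans ?_
    refine (hasProjectiveDimensionLT_iff_torVanishesFrom (n + 1) N.next).trans ⟨fun h j hj Y => ?_, fun h j hj Y => ?_⟩
    · obtain ⟨k, rfl⟩ : ∃ k, j = k + 1 := ⟨j - 1, by omega⟩
      exact isZero_tor_X₃ (coverSeq_shortExact N) Y k (isZero_tor_coverSeq_X₂ N Y k) (h k (by omega) Y)
    · obtain ⟨k, rfl⟩ : ∃ k, j = k + 1 := ⟨j - 1, by omega⟩
      exact SGA7.TorSeq.isZero_tor_X₁ (coverSeq_shortExact N) Y (k + 1) (h (k + 2) (by omega) Y)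
        (isZero_tor_coverSeq_X₂ N Y k)

end Groth.Ega43FP2
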