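import Mathlib
import Groth.Agent.Ega43FP2.PdTor
import Groth.Agent.FlatMor2.FibCrit.Projective

/-!
# Projective dimension is computed on the fibres
-/

set_option autoImplicit false
universe u

open CategoryTheory Limits
open scoped TensorProduct

namespace Groth.Ega43FP2

variable {A B : Type u} [CommRing A] [CommRing B] [Algebra A B]
variable [Algebra.FinitePresentation A B] [Module.Flat A B]

/-- The fibre of a module over `p`. -/
noncomputable abbrev fib (N : FPFlat A B) (p : Ideal A) [p.IsPrime] : ModuleCat.{u} (B ⊗[A] p.ResidueField) :=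
  ModuleCat.of (B ⊗[A] p.ResidueField) ((B ⊗[A] p.ResidueField) ⊗[B] N.carrier)

section Seq

variable (N : FPFlat A B) (p : Ideal A) [p.IsPrime]

/-- `(B ⊗ κ) ⊗_B X = X ⊗ κ`. -/
noncomputable def fibSwap (X : Type u) [AddCommGroup X] [Module B X] [Module A X] [IsScalarTower A B X] :
    (B ⊗[A] p.ResidueField) ⊗[B] X ≃ₗ[B] X ⊗[A] p.ResidueField :=
  (TensorProduct.comm B (B ⊗[A] p.ResidueField) X).trans
    (TensorProduct.AlgebraTensorModule.cancelBaseChange A B B X p.ResidueField)

theorem fibSwap_natural {X Y : Type u} [AddCommGroup X] [Module B X] [Module A X] [IsScalarTower A B X]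
    [AddCommGroup Y] [Module B Y] [Module A Y] [IsScalarTower A B Y] (g : X →ₗ[B] Y)
    (z : (B ⊗[A] p.ResidueField) ⊗[B] X) :
    fibSwap p Y (g.baseChange (B ⊗[A] p.ResidueField) z) = (g.restrictScalars A).rTensor p.ResidueField (fibSwap p X z) := by
  induction z with
  | zero => simp
  | add x y hx hy => simp only [map_add, hx, hy]
  | tmul t x =>
    induction t with
    | zero => simp
    | add a b ha hb => simp only [TensorProduct.add_tmul, map_add, ha, hb]
    | tmul b c => simp [fibSwap]

theorem fib_incl_injective : Function.Injective (N.incl.baseChange (B ⊗[A] p.ResidueField)) := by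
  have h : Function.Injective ((N.incl.restrictScalars A).lTensor p.ResidueField) :=
    LinearMap.lTensor_injective_of_exact_of_flat (N.cover.restrictScalars A) N.cover_surjective
      (N.incl.restrictScalars A) N.incl_injective
      (by
        show Function.Exact N.incl N.cover
        exact LinearMap.exact_iff.2 N.range_incl.symm) p.ResidueField
  rw [LinearMap.lTensor_inj_iff_rTensor_inj] at h
  intro x y hxy
  apply (fibSwap p _).injective
  apply h
  exact (fibSwap_natural p N.incl x).symm.trans ((congrArg _ hxy).trans (fibSwap_natural p N.incl y))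

/-- The fibre of the sequence of a free cover. -/
noncomputable def fibSeq : ShortComplex (ModuleCat.{u} (B ⊗[A] p.ResidueField)) where
  X₁ := fib N.next p
  X₂ := ModuleCat.of (B ⊗[A] p.ResidueField) ((B ⊗[A] p.ResidueField) ⊗[B] (Fin N.rk → B))
  X₃ := fib N p
  f := ModuleCat.ofHom (N.incl.baseChange _)
  g := ModuleCat.ofHom (N.cover.baseChange _)
  zero := by
    refine ModuleCat.hom_ext ?_
    show N.cover.baseChange (B ⊗[A] p.ResidueField) ∘ₗ N.incl.baseChange _ = 0
    rw [← LinearMap.baseChange_comp,
      show N.cover ∘ₗ N.incl = 0 from LinearMap.ext fun v => N.range_incl.le ⟨v, rfl⟩, LinearMap.baseChange_zero]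

theorem fibSeq_shortExact : (fibSeq N p).ShortExact := by
  refine ShortComplex.ShortExact.mk' ?_ ?_ ?_
  · rw [ShortComplex.ShortExact.moduleCat_exact_iff_function_exact]
    exact lTensor_exact (B ⊗[A] p.ResidueField) (LinearMap.exact_iff.2 N.range_incl.symm) N.cover_surjective
  · exact (ModuleCat.mono_iff_injective _).2 (fib_incl_injective N p)
  · exact (ModuleCat.epi_iff_surjective _).2 (LinearMap.lTensor_surjective _ N.cover_surjective)

theorem hasProjectiveDimensionLT_fib_next (n : ℕ) :
    HasProjectiveDimensionLT (fib N p) (n + 2) ↔ HasProjectiveDimensionLT (fib N.next p) (n + 1) :=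
  (fibSeq_shortExact N p).hasProjectiveDimensionLT_X₃_iff n ((IsProjective.iff_projective _).1
    (inferInstanceAs (Module.Projective (B ⊗[A] p.ResidueField)
      ((B ⊗[A] p.ResidueField) ⊗[B] (Fin N.rk → B)))))

end Seq

/-- `pd < i` iff this holds on all fibres. -/
theorem hasProjectiveDimensionLT_iff_fib (i : ℕ) : ∀ N : FPFlat A B,
    HasProjectiveDimensionLT (ModuleCat.of B N.carrier) i ↔
      ∀ (p : Ideal A) [p.IsPrime], HasProjectiveDimensionLT (fib N p) i := by
  match i with
  | 0 =>
    intro N
    simp only [hasProjectiveDimensionLT_zero_iff_isZero, ModuleCat.isZero_iff_subsingleton]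
    constructor
    · intro h p _
      have : Subsingleton N.carrier := h
      infer_instance
    · intro h
      rw [← Module.support_eq_empty_iff (R := B), Set.eq_empty_iff_forall_notMem]
      intro q hq
      rw [Module.mem_support_iff_nontrivial_residueField_tensorProduct] at hq
      let p : Ideal A := q.asIdeal.comap (algebraMap A B)
      let φ : (B ⊗[A] p.ResidueField) →ₐ[B] q.asIdeal.ResidueField :=
        Algebra.TensorProduct.lift (Algebra.ofId B _)
          (Ideal.ResidueField.mapₐ p q.asIdeal (Algebra.ofId A B) rfl) (fun _ _ => Commute.all _ _)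
      let := φ.toRingHom.toAlgebra
      have : IsScalarTower B (B ⊗[A] p.ResidueField) q.asIdeal.ResidueField :=
        IsScalarTower.of_algebraMap_eq fun b => (φ.commutes b).symm
      have : Subsingleton ((B ⊗[A] p.ResidueField) ⊗[B] N.carrier) := h p
      have hs : Subsingleton (q.asIdeal.ResidueField ⊗[B] N.carrier) :=
        (TensorProduct.AlgebraTensorModule.cancelBaseChange B (B ⊗[A] p.ResidueField)
          (B ⊗[A] p.ResidueField) q.asIdeal.ResidueField N.carrier).symm.toEquiv.subsingleton
      exact not_nontrivial_iff_subsingleton.2 hs hq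
  | 1 =>
    intro N
    simp only [← projective_iff_hasProjectiveDimensionLT_one, ← IsProjective.iff_projective]
    constructor
    · intro h p _
      have : Module.Projective B N.carrier := h
      infer_instance
    · intro h
      have : Module.Flat B N.carrier := (Groth.FlatMor2.FibCrit.flat_iff_forall_projective A B N.carrier).2 h
      exact Module.Flat.projective_of_finitePresentation
  | n + 2 =>
    intro N
    refine ((coverSeq_shortExact N).hasProjectiveDimensionLT_X₃_iff n (projective_coverSeq_X₂ N)).trans ?_
    refine (hasProjectiveDimensionLT_iff_fib (n + 1) N.next).trans ?_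
    exact forall₂_congr fun p hp => (@hasProjectiveDimensionLT_fib_next _ _ _ _ _ _ _ N p hp n).symm

end Groth.Ega43FP2
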