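import Mathlib
import Groth.Agent.Ega43FP2.PdFibre
import Groth.Agent.FlatMor2.FibCrit.Projective
import Groth.Agent.Flatmor4.FlatModAffine

/-!
# Projective dimension at a point is computed on the local ring of the fibre
-/

set_option autoImplicit false
universe u

open CategoryTheory Limits
open scoped TensorProduct

set_option synthInstance.maxHeartbeats 400000
set_option maxHeartbeats 1600000
set_option linter.unusedSectionVars false

namespace Groth.Ega43FP2

variable {A B : Type u} [CommRing A] [CommRing B] [Algebra A B]

section Swap

variable {C : Type u} [CommRing C] [Algebra A C]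

/-- `(B ⊗ C) ⊗_B X = X ⊗ C`. -/
noncomputable def bcSwap (X : Type u) [AddCommGroup X] [Module B X] [Module A X] [IsScalarTower A B X] :
    (B ⊗[A] C) ⊗[B] X ≃ₗ[B] X ⊗[A] C :=
  (TensorProduct.comm B (B ⊗[A] C) X).trans (TensorProduct.AlgebraTensorModule.cancelBaseChange A B B X C)

theorem bcSwap_natural {X Y : Type u} [AddCommGroup X] [Module B X] [Module A X] [IsScalarTower A B X]
    [AddCommGroup Y] [Module B Y] [Module A Y] [IsScalarTower A B Y] (g : X →ₗ[B] Y)
    (z : (B ⊗[A] C) ⊗[B] X) :
    bcSwap Y (g.lTensor (B ⊗[A] C) z) = (g.restrictScalars A).rTensor C (bcSwap X z) := by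
  induction z with
  | zero => simp
  | add x y hx hy => simp only [map_add, hx, hy]
  | tmul t x =>
    induction t with
    | zero => simp
    | add a b ha hb => simp only [TensorProduct.add_tmul, map_add, ha, hb]
    | tmul b c => simp [bcSwap]

end Swap

/-- A map with flat cokernel stays injective on the quotient by an ideal of the base. -/
theorem lTensor_quot_injective {X Y Z : Type u} [AddCommGroup X] [Module B X] [Module A X] [IsScalarTower A B X]
    [AddCommGroup Y] [Module B Y] [Module A Y] [IsScalarTower A B Y]
    [AddCommGroup Z] [Module B Z] [Module A Z] [IsScalarTower A B Z] [Module.Flat A Z]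
    (f : X →ₗ[B] Y) (g : Y →ₗ[B] Z) (hf : Function.Injective f) (hfg : Function.Exact f g)
    (hg : Function.Surjective g) (p : Ideal A) :
    Function.Injective (f.lTensor (B ⧸ p.map (algebraMap A B))) := by
  have h : Function.Injective ((f.restrictScalars A).lTensor (A ⧸ p)) :=
    LinearMap.lTensor_injective_of_exact_of_flat (g.restrictScalars A) hg (f.restrictScalars A) hf hfg (A ⧸ p)
  rw [LinearMap.lTensor_inj_iff_rTensor_inj] at h
  have h' : Function.Injective (f.lTensor (B ⊗[A] (A ⧸ p))) := by
    intro x y hxy
    apply (bcSwap X).injective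
    apply h
    exact (bcSwap_natural f x).symm.trans ((congrArg _ hxy).trans (bcSwap_natural f y))
  let e := (Algebra.TensorProduct.quotIdealMapEquivTensorQuot B p).toLinearEquiv
  intro x y hxy
  apply (LinearEquiv.rTensor X e).injective
  apply h'
  have key : ∀ z, f.lTensor (B ⊗[A] (A ⧸ p)) (e.toLinearMap.rTensor X z) =
      e.toLinearMap.rTensor Y (f.lTensor _ z) := fun z => by
    rw [← LinearMap.comp_apply, LinearMap.lTensor_comp_rTensor, ← LinearMap.comp_apply,
      LinearMap.rTensor_comp_lTensor]
  exact (key x).trans ((congrArg _ hxy).trans (key y).symm)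

variable [Algebra.FinitePresentation A B] [Module.Flat A B]
variable (P : PrimeSpectrum B)

/-- The local ring at `P` of the fibre through `P`. -/
abbrev FibRing (A : Type u) [CommRing A] [Algebra A B] : Type u :=
  Localization.AtPrime P.asIdeal ⧸ (P.asIdeal.under A).map (algebraMap A (Localization.AtPrime P.asIdeal))

/-- The stalk at `P`. -/
noncomputable abbrev stk (N : FPFlat A B) : ModuleCat.{u} (Localization.AtPrime P.asIdeal) :=
  ModuleCat.of (Localization.AtPrime P.asIdeal) (Localization.AtPrime P.asIdeal ⊗[B] N.carrier)

/-- The fibre stalk at `P`. -/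
noncomputable abbrev fibStk (N : FPFlat A B) : ModuleCat.{u} (FibRing P A) :=
  ModuleCat.of (FibRing P A) (FibRing P A ⊗[B] N.carrier)

theorem flat_stk (N : FPFlat A B) : Module.Flat A (Localization.AtPrime P.asIdeal ⊗[B] N.carrier) :=
  Groth.Flatmor4.flat_of_isLocalizedModule_tower P.asIdeal.primeCompl
    (TensorProduct.mk B (Localization.AtPrime P.asIdeal) N.carrier 1)

theorem fibStk_incl_injective (N : FPFlat A B) :
    Function.Injective (N.incl.baseChange (FibRing P A)) := by
  let Br := Localization.AtPrime P.asIdeal
  have := flat_stk P N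
  have h := lTensor_quot_injective (A := A) (B := Br) (N.incl.baseChange Br) (N.cover.baseChange Br)
    (Module.Flat.lTensor_preserves_injective_linearMap (M := Br) N.incl N.incl_injective)
    (lTensor_exact Br (LinearMap.exact_iff.2 N.range_incl.symm) N.cover_surjective)
    (LinearMap.lTensor_surjective Br N.cover_surjective) (P.asIdeal.under A)
  intro x y hxy
  apply (TensorProduct.AlgebraTensorModule.cancelBaseChange B Br Br (FibRing P A) N.next.carrier).symm.injective
  apply h
  have key : ∀ z, (N.incl.baseChange Br).lTensor (FibRing P A)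
      ((TensorProduct.AlgebraTensorModule.cancelBaseChange B Br Br (FibRing P A) N.next.carrier).symm z) =
      (TensorProduct.AlgebraTensorModule.cancelBaseChange B Br Br (FibRing P A) (Fin N.rk → B)).symm
        (N.incl.baseChange (FibRing P A) z) := by
    intro z
    induction z with
    | zero => simp
    | add x y hx hy => simp only [map_add, hx, hy]
    | tmul t x => simp
  rw [key, key, hxy]

/-- The base change of the sequence of a free cover. -/
noncomputable def bcSeq (N : FPFlat A B) (R : Type u) [CommRing R] [Algebra B R] : ShortComplex (ModuleCat.{u} R) where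
  X₁ := ModuleCat.of R (R ⊗[B] N.next.carrier)
  X₂ := ModuleCat.of R (R ⊗[B] (Fin N.rk → B))
  X₃ := ModuleCat.of R (R ⊗[B] N.carrier)
  f := ModuleCat.ofHom (N.incl.baseChange _)
  g := ModuleCat.ofHom (N.cover.baseChange _)
  zero := by
    refine ModuleCat.hom_ext ?_
    show N.cover.baseChange R ∘ₗ N.incl.baseChange R = 0
    rw [← LinearMap.baseChange_comp,
      show N.cover ∘ₗ N.incl = 0 from LinearMap.ext fun v => N.range_incl.le ⟨v, rfl⟩, LinearMap.baseChange_zero]

theorem bcSeq_iff (N : FPFlat A B) (R : Type u) [CommRing R] [Algebra B R]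
    (hinj : Function.Injective (N.incl.baseChange R)) (n : ℕ) :
    HasProjectiveDimensionLT (ModuleCat.of R (R ⊗[B] N.carrier)) (n + 2) ↔
      HasProjectiveDimensionLT (ModuleCat.of R (R ⊗[B] N.next.carrier)) (n + 1) := by
  have hS : (bcSeq N R).ShortExact := by
    refine ShortComplex.ShortExact.mk' ?_ ?_ ?_
    · rw [ShortComplex.ShortExact.moduleCat_exact_iff_function_exact]
      exact lTensor_exact R (LinearMap.exact_iff.2 N.range_incl.symm) N.cover_surjective
    · exact (ModuleCat.mono_iff_injective _).2 hinj
    · exact (ModuleCat.epi_iff_surjective _).2 (LinearMap.lTensor_surjective _ N.cover_surjective)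
  exact hS.hasProjectiveDimensionLT_X₃_iff n ((IsProjective.iff_projective _).1
    (inferInstanceAs (Module.Projective R (R ⊗[B] (Fin N.rk → B)))))

theorem subsingleton_stk_of_fibStk (N : FPFlat A B) [Subsingleton (FibRing P A ⊗[B] N.carrier)] :
    P ∉ Module.support B N.carrier := by
  rw [Module.mem_support_iff_nontrivial_residueField_tensorProduct, not_nontrivial_iff_subsingleton]
  let φ : FibRing P A →ₐ[B] P.asIdeal.ResidueField :=
    Ideal.Quotient.liftₐ _ (IsScalarTower.toAlgHom B (Localization.AtPrime P.asIdeal) P.asIdeal.ResidueField) (by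
      intro a ha
      refine Ideal.Quotient.eq_zero_iff_mem.2 ?_
      refine Ideal.map_le_iff_le_comap.2 (fun r hr => ?_) ha
      rw [Ideal.mem_comap, IsScalarTower.algebraMap_apply A B (Localization.AtPrime P.asIdeal)]
      exact (IsLocalization.AtPrime.to_map_mem_maximal_iff _ P.asIdeal _).2 hr)
  let := φ.toRingHom.toAlgebra
  have : IsScalarTower B (FibRing P A) P.asIdeal.ResidueField :=
    IsScalarTower.of_algebraMap_eq fun b => (φ.commutes b).symm
  exact (TensorProduct.AlgebraTensorModule.cancelBaseChange B (FibRing P A)
    (FibRing P A) P.asIdeal.ResidueField N.carrier).symm.toEquiv.subsingleton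

theorem free_stk_of_projective_fibStk (N : FPFlat A B) [Module.Projective (FibRing P A) (FibRing P A ⊗[B] N.carrier)] :
    Module.Free (Localization.AtPrime P.asIdeal) (Localization.AtPrime P.asIdeal ⊗[B] N.carrier) := by
  let Br := Localization.AtPrime P.asIdeal
  let J := (P.asIdeal.under A).map (algebraMap A Br)
  cases subsingleton_or_nontrivial (Br ⊗[B] N.carrier)
  · exact Module.Free.of_subsingleton Br _
  have := flat_stk P N
  let ec := (TensorProduct.AlgebraTensorModule.cancelBaseChange B Br (Br ⧸ J) (Br ⧸ J) N.carrier)
  have : Module.Projective (Br ⧸ J) ((Br ⧸ J) ⊗[Br] (Br ⊗[B] N.carrier)) := Module.Projective.of_equiv ec.symm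
  have hfib : Module.Flat (Br ⧸ J) ((Br ⊗[B] N.carrier) ⧸ (J • ⊤ : Submodule Br (Br ⊗[B] N.carrier))) := by
    let e' := TensorProduct.quotTensorEquivQuotSMul (Br ⊗[B] N.carrier) J
    refine Groth.FlatMor2.FibCrit.flat_of_addEquiv e'.toAddEquiv fun z m => ?_
    obtain ⟨z, rfl⟩ := Ideal.Quotient.mk_surjective z
    rw [← Ideal.Quotient.algebraMap_eq, algebraMap_smul, algebraMap_smul]
    exact map_smul e' z m
  have : IsLocalization.AtPrime Br (P.asIdeal.under B) :=
    inferInstanceAs (IsLocalization.AtPrime (Localization.AtPrime P.asIdeal) P.asIdeal)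
  have hflat : Module.Flat B (Br ⊗[B] N.carrier) :=
    (Groth.FlatMor2.FibCrit.criterion (A := A) (B := B) (C := B) (M := N.carrier) P.asIdeal (Br := Br) (Cq := Br)
      (Mq := Br ⊗[B] N.carrier) (TensorProduct.mk B Br N.carrier 1) hfib).2
  have : Module.Flat Br (Br ⊗[B] N.carrier) :=
    (Module.flat_iff_of_isLocalization Br P.asIdeal.primeCompl (Br ⊗[B] N.carrier)).2 hflat
  have : Module.FinitePresentation Br (Br ⊗[B] N.carrier) := inferInstance
  exact Module.free_of_flat_of_isLocalRing

/-- The points where the fibre stalk has `pd < i` form an open set, and there it equals the stalk. -/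
theorem hasProjectiveDimensionLT_stk_iff (i : ℕ) : ∀ N : FPFlat A B,
    (HasProjectiveDimensionLT (fibStk P N) i ↔ HasProjectiveDimensionLT (stk P N) i) := by
  match i with
  | 0 =>
    intro N
    simp only [hasProjectiveDimensionLT_zero_iff_isZero, ModuleCat.isZero_iff_subsingleton]
    constructor
    · intro h
      have hP := subsingleton_stk_of_fibStk P N (A := A)
      rw [Module.notMem_support_iff] at hP
      exact (IsLocalizedModule.linearEquiv P.asIdeal.primeCompl
        (TensorProduct.mk B (Localization.AtPrime P.asIdeal) N.carrier 1)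
        (LocalizedModule.mkLinearMap P.asIdeal.primeCompl N.carrier)).toEquiv.subsingleton
    · intro h
      exact (TensorProduct.AlgebraTensorModule.cancelBaseChange B (Localization.AtPrime P.asIdeal)
        (FibRing P A) (FibRing P A) N.carrier).symm.toEquiv.subsingleton
  | 1 =>
    intro N
    simp only [← projective_iff_hasProjectiveDimensionLT_one, ← IsProjective.iff_projective]
    constructor
    · intro h
      have : Module.Projective (FibRing P A) (FibRing P A ⊗[B] N.carrier) := h
      have := free_stk_of_projective_fibStk P N
      exact Module.Projective.of_free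
    · intro h
      have : Module.Projective (Localization.AtPrime P.asIdeal) (Localization.AtPrime P.asIdeal ⊗[B] N.carrier) := h
      exact Module.Projective.of_equiv (TensorProduct.AlgebraTensorModule.cancelBaseChange B
        (Localization.AtPrime P.asIdeal) (FibRing P A) (FibRing P A) N.carrier)
  | n + 2 =>
    intro N
    exact (bcSeq_iff N _ (fibStk_incl_injective P N) n).trans
      ((hasProjectiveDimensionLT_stk_iff (n + 1) N.next).trans (bcSeq_iff N _
        (Module.Flat.lTensor_preserves_injective_linearMap (M := Localization.AtPrime P.asIdeal) N.incl N.incl_injective) n).symm)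

variable (B) in
/-- The set of points where the stalk has `pd < i` is open. -/
theorem isOpen_hasProjectiveDimensionLT (i : ℕ) : ∀ N : FPFlat A B,
    IsOpen {P : PrimeSpectrum B | HasProjectiveDimensionLT (stk P N) i} := by
  match i with
  | 0 =>
    intro N
    have : {P : PrimeSpectrum B | HasProjectiveDimensionLT (stk P N) 0} = (Module.support B N.carrier)ᶜ := by
      ext P
      simp only [Set.mem_ofPred_eq, Set.mem_compl_iff, hasProjectiveDimensionLT_zero_iff_isZero,
        ModuleCat.isZero_iff_subsingleton, Module.notMem_support_iff]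
      exact (IsLocalizedModule.linearEquiv P.asIdeal.primeCompl
        (TensorProduct.mk B (Localization.AtPrime P.asIdeal) N.carrier 1)
        (LocalizedModule.mkLinearMap P.asIdeal.primeCompl N.carrier)).toEquiv.subsingleton_congr
    rw [this, Module.support_eq_zeroLocus]
    exact (PrimeSpectrum.isClosed_zeroLocus _).isOpen_compl
  | 1 =>
    intro N
    have : {P : PrimeSpectrum B | HasProjectiveDimensionLT (stk P N) 1} = Module.freeLocus B N.carrier := by
      ext P
      simp only [Set.mem_ofPred_eq, ← projective_iff_hasProjectiveDimensionLT_one, ← IsProjective.iff_projective,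
        Module.mem_freeLocus_iff_tensor P (Localization.AtPrime P.asIdeal)]
      constructor
      · intro h
        exact Module.free_of_flat_of_isLocalRing
      · intro h
        exact Module.Projective.of_free
    rw [this]
    exact Module.isOpen_freeLocus
  | n + 2 =>
    intro N
    convert isOpen_hasProjectiveDimensionLT (n + 1) N.next using 1
    ext P
    exact bcSeq_iff N _
      (Module.Flat.lTensor_preserves_injective_linearMap (M := Localization.AtPrime P.asIdeal) N.incl N.incl_injective) n

end Groth.Ega43FP2
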