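import Mathlib
import Groth.Agent.Ega43FP2.PdLocal
import Groth.Agent.FibreDim.DimensionFormula
import Groth.Agent.Ega4Algebra1.RegularLocal

/-!
# Local rings of the fibres of affine space
-/

set_option autoImplicit false
universe u

open scoped TensorProduct

namespace Groth.Ega43FP2

variable {A : Type u} [CommRing A] {n : ℕ} (P : PrimeSpectrum (MvPolynomial (Fin n) A))

set_option maxHeartbeats 1600000 in
set_option synthInstance.maxHeartbeats 200000 in
/-- The local ring of the fibre of `A^n` at `P` is regular and its dimension and the transcendence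
degree of the residue field add up to `n`. -/
theorem polyFibre_facts (K L : Type u) [Field K] [Field L] [Algebra K L]
    (χ : A →+* K) (ψ : MvPolynomial (Fin n) A →+* L)
    (hcompat : ∀ a, algebraMap K L (χ a) = ψ (algebraMap A _ a))
    (hK : ∀ z : K, ∃ a c, χ c ≠ 0 ∧ z = χ a / χ c)
    (hL : ∀ z : L, ∃ a c, ψ c ≠ 0 ∧ z = ψ a / ψ c) (hker : RingHom.ker ψ = P.asIdeal) :
    IsRegularLocalRing (FibRing P A) ∧ ∃ h t : ℕ,
      ringKrullDim (FibRing P A) = (h : ℕ) ∧ Algebra.trdeg K L = (t : Cardinal.{u}) ∧ h + t = n := by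
  let p := P.asIdeal.under A
  let κ := p.ResidueField
  have hpχ : ∀ a, a ∈ p ↔ χ a = 0 := fun a => by
    rw [← (algebraMap K L).injective.eq_iff, map_zero, hcompat, ← RingHom.mem_ker, hker]
    rfl
  let : Algebra A K := χ.toAlgebra
  let σ : κ →ₐ[A] K := Ideal.ResidueField.liftₐ p (Algebra.ofId A K)
    (fun a ha => RingHom.mem_ker.2 ((hpχ a).1 ha)) (fun a ha => (Ne.isUnit fun h => ha ((hpχ a).2 h)))
  have hσsurj : Function.Surjective σ := fun z => by
    obtain ⟨a, c, hc, rfl⟩ := hK z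
    exact ⟨algebraMap A κ a / algebraMap A κ c, by rw [map_div₀, AlgHom.commutes, AlgHom.commutes]; rfl⟩
  let σK : κ ≃ₐ[A] K := AlgEquiv.ofBijective σ ⟨σ.toRingHom.injective, hσsurj⟩
  let : Algebra κ L := ((algebraMap K L).comp σ.toRingHom).toAlgebra
  let ψ' : MvPolynomial (Fin n) κ →ₐ[κ] L := MvPolynomial.aeval fun i => ψ (MvPolynomial.X i)
  have hψ : ψ'.toRingHom.comp (MvPolynomial.map (algebraMap A κ)) = ψ := by
    refine MvPolynomial.ringHom_ext (fun a => ?_) fun i => ?_
    · show ψ' (MvPolynomial.map (algebraMap A κ) (MvPolynomial.C a)) = ψ (algebraMap A _ a)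
      rw [MvPolynomial.map_C, ← MvPolynomial.algebraMap_eq, AlgHom.commutes, ← hcompat]
      show algebraMap K L (σ (algebraMap A κ a)) = _
      rw [AlgHom.commutes]
      rfl
    · show ψ' (MvPolynomial.map (algebraMap A κ) (MvPolynomial.X i)) = _
      rw [MvPolynomial.map_X, MvPolynomial.aeval_X]
  let Q' : Ideal (MvPolynomial (Fin n) κ) := RingHom.ker ψ'.toRingHom
  have : Q'.IsPrime := RingHom.ker_isPrime _
  let e : p.Fiber (MvPolynomial (Fin n) A) ≃ₐ[κ] MvPolynomial (Fin n) κ := MvPolynomial.algebraTensorAlgEquiv A κ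
  let Q := Q'.comap e.toRingEquiv.toRingHom
  have : Q.IsPrime := Ideal.IsPrime.comap _
  have hQ : Q.comap Algebra.TensorProduct.includeRight = P.asIdeal := by
    ext b
    refine Iff.trans ?_ (SetLike.ext_iff.1 hker b)
    show ψ' (e (1 ⊗ₜ b)) = 0 ↔ ψ b = 0
    rw [MvPolynomial.algebraTensorAlgEquiv_tmul, one_smul, ← hψ]
    rfl
  have key : ∀ (r : Ideal (MvPolynomial (Fin n) A)) [r.IsPrime], r = P.asIdeal →
      Nonempty ((Localization.AtPrime r ⧸ (p.map (algebraMap A (MvPolynomial (Fin n) A))).map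
        (algebraMap (MvPolynomial (Fin n) A) (Localization.AtPrime r))) ≃+* FibRing P A) := by
    rintro r _ rfl
    exact ⟨Ideal.quotEquivOfEq (by rw [Ideal.map_map, ← IsScalarTower.algebraMap_eq])⟩
  obtain ⟨e₁⟩ := key _ hQ
  let e₂ : Localization.AtPrime Q ≃+* Localization.AtPrime Q' :=
    IsLocalization.ringEquivOfRingEquiv (Localization.AtPrime Q) (Localization.AtPrime Q')
      (M := Q.primeCompl) (T := Q'.primeCompl) e.toRingEquiv (by
        ext x
        constructor
        · rintro ⟨y, hy, rfl⟩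
          exact hy
        · intro hx
          exact ⟨e.symm x, by show e (e.symm x) ∉ Q'; rwa [e.apply_symm_apply], e.apply_symm_apply x⟩)
  let eR : Localization.AtPrime Q' ≃+* FibRing P A :=
    e₂.symm.trans ((Ideal.Fiber.algEquivAux₂ p Q).toRingEquiv.trans e₁)
  have : IsRegularRing (MvPolynomial (Fin n) κ) := MvPolynomial.isRegularRing_of_isRegularRing κ
  refine ⟨IsRegularLocalRing.of_ringEquiv (R := Localization.AtPrime Q') eR, ?_⟩
  obtain ⟨t, ht, hht⟩ := Groth.FibreDim.exists_trdeg_quotient_field n Q'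
  obtain ⟨h, hh⟩ : ∃ h : ℕ, (h : ℕ∞) = Q'.height := ENat.ne_top_iff_exists.1 (Ideal.height_ne_top (I := Q') (Ideal.IsPrime.ne_top inferInstance))
  refine ⟨h, t, ?_, ?_, ?_⟩
  · rw [← ringKrullDim_eq_of_ringEquiv eR, IsLocalization.AtPrime.ringKrullDim_eq_height Q', ← hh]
    rfl
  · let g : MvPolynomial (Fin n) κ ⧸ Q' →ₐ[κ] L := Ideal.Quotient.liftₐ Q' ψ' fun a ha => ha
    let := g.toRingHom.toAlgebra
    have : IsScalarTower κ (MvPolynomial (Fin n) κ ⧸ Q') L :=
      IsScalarTower.of_algebraMap_eq fun c => (g.commutes c).symm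
    have h1 : Algebra.trdeg κ L = Algebra.trdeg κ (MvPolynomial (Fin n) κ ⧸ Q') := by
      refine (Groth.FibreDim.trdeg_eq_of_fractions (D := κ) (A := MvPolynomial (Fin n) κ ⧸ Q') (K := κ) (B := L)
        (RingHom.injective _) (RingHom.kerLift_injective ψ'.toRingHom) fun z => ?_).symm
      obtain ⟨a, c, hc, rfl⟩ := hL z
      refine ⟨Ideal.Quotient.mk Q' (MvPolynomial.map (algebraMap A κ) a),
        Ideal.Quotient.mk Q' (MvPolynomial.map (algebraMap A κ) c), fun h0 => hc ?_, ?_⟩
      · rw [← hψ]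
        exact Ideal.Quotient.eq_zero_iff_mem.1 h0
      · show ψ a / ψ c * ψ'.toRingHom.comp (MvPolynomial.map (algebraMap A κ)) c =
          ψ'.toRingHom.comp (MvPolynomial.map (algebraMap A κ)) a
        rw [hψ, div_mul_cancel₀ _ hc]
    let : Algebra κ K := σ.toRingHom.toAlgebra
    have : IsScalarTower κ K L := IsScalarTower.of_algebraMap_eq fun c => rfl
    have h2 : Algebra.trdeg K L = Algebra.trdeg κ L := by
      have : Algebra.IsAlgebraic κ K := ⟨fun z => by
        obtain ⟨c, rfl⟩ := hσsurj z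
        exact isAlgebraic_algebraMap c⟩
      rw [← trdeg_add_eq κ K (A := L), trdeg_eq_zero (R := κ) (A := K), zero_add]
    rw [h2, h1, ht]
  · rw [← hh] at hht
    exact_mod_cast hht

end Groth.Ega43FP2
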