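import Mathlib
import Groth.Agent.Ega43FP2.PolyFibre
import Groth.Agent.Calg4.RegularAscent
import Groth.Agent.Ega4Algebra1.GlobalDim
import Groth.Agent.FrobLCI.AusBuch

/-!
# Depth of fibre stalks over affine space
-/

set_option autoImplicit false
universe u

open CategoryTheory
open scoped TensorProduct

set_option synthInstance.maxHeartbeats 400000
set_option maxHeartbeats 1600000

namespace Groth.Ega43FP2

variable {A : Type u} [CommRing A] {n : ℕ}

theorem exists_fibRing_dim (P : PrimeSpectrum (MvPolynomial (Fin n) A)) :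
    IsRegularLocalRing (FibRing P A) ∧ ∃ h : ℕ, ringKrullDim (FibRing P A) = (h : ℕ) ∧ h ≤ n := by
  let p := P.asIdeal.under A
  have hsurj : ∀ {R : Type u} [CommRing R] (q : Ideal R) [q.IsPrime] (z : q.ResidueField),
      ∃ a c, algebraMap R q.ResidueField c ≠ 0 ∧ z = algebraMap R q.ResidueField a / algebraMap R q.ResidueField c := by
    intro R _ q _ z
    obtain ⟨a, c, hc, rfl⟩ := IsFractionRing.div_surjective (R ⧸ q) z
    obtain ⟨a, rfl⟩ := Ideal.Quotient.mk_surjective a
    obtain ⟨c, rfl⟩ := Ideal.Quotient.mk_surjective c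
    refine ⟨a, c, fun h0 => ?_, rfl⟩
    rw [Ideal.algebraMap_residueField_eq_zero] at h0
    exact nonZeroDivisors.ne_zero hc (Ideal.Quotient.eq_zero_iff_mem.2 h0)
  let : Algebra p.ResidueField P.asIdeal.ResidueField :=
    (Ideal.ResidueField.map p P.asIdeal (algebraMap A (MvPolynomial (Fin n) A)) rfl).toAlgebra
  obtain ⟨hreg, h, t, hh, -, hht⟩ := polyFibre_facts P p.ResidueField P.asIdeal.ResidueField
    (algebraMap A p.ResidueField) (algebraMap (MvPolynomial (Fin n) A) P.asIdeal.ResidueField)
    (fun a => Ideal.ResidueField.map_algebraMap p P.asIdeal _ rfl a) (hsurj p) (hsurj P.asIdeal)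
    P.asIdeal.ker_algebraMap_residueField
  exact ⟨hreg, h, hh, hht ▸ Nat.le_add_right h t⟩

instance (P : PrimeSpectrum (MvPolynomial (Fin n) A)) : IsRegularLocalRing (FibRing P A) :=
  (exists_fibRing_dim P).1

/-- The dimension of the local ring of the fibre at `P`. -/
noncomputable def fibHt (P : PrimeSpectrum (MvPolynomial (Fin n) A)) : ℕ := (exists_fibRing_dim P).2.choose

theorem ringKrullDim_fibRing (P : PrimeSpectrum (MvPolynomial (Fin n) A)) :
    ringKrullDim (FibRing P A) = (fibHt P : ℕ) := (exists_fibRing_dim P).2.choose_spec.1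

theorem fibHt_le (P : PrimeSpectrum (MvPolynomial (Fin n) A)) : fibHt P ≤ n :=
  (exists_fibRing_dim P).2.choose_spec.2

/-- The transcendence degree of the residue field of `P` over the one below. -/
noncomputable def fibTr (P : PrimeSpectrum (MvPolynomial (Fin n) A)) : ℕ := n - fibHt P

theorem trdeg_eq_fibTr (P : PrimeSpectrum (MvPolynomial (Fin n) A)) (K L : Type u) [Field K] [Field L] [Algebra K L]
    (χ : A →+* K) (ψ : MvPolynomial (Fin n) A →+* L)
    (hcompat : ∀ a, algebraMap K L (χ a) = ψ (algebraMap A _ a))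
    (hK : ∀ z : K, ∃ a c, χ c ≠ 0 ∧ z = χ a / χ c)
    (hL : ∀ z : L, ∃ a c, ψ c ≠ 0 ∧ z = ψ a / ψ c) (hker : RingHom.ker ψ = P.asIdeal) :
    Algebra.trdeg K L = (fibTr P : Cardinal.{u}) := by
  obtain ⟨-, h, t, hh, ht, hht⟩ := polyFibre_facts P K L χ ψ hcompat hK hL hker
  rw [ringKrullDim_fibRing] at hh
  have : fibHt P = h := by exact_mod_cast hh
  rw [ht, fibTr, this, show n - h = t by omega]

variable (P : PrimeSpectrum (MvPolynomial (Fin n) A)) (N : FPFlat A (MvPolynomial (Fin n) A))

theorem depth_fibRing : LocCoh.depth (FibRing P A) (FibRing P A) = (fibHt P : ℕ∞) := by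
  have h : LocCoh.IsCohenMacaulayLocalRing (FibRing P A) :=
    Groth.Calg4.isCohenMacaulayLocalRing_of_isRegularLocalRing _
  have := h.supportDim_eq_depth
  rw [Module.supportDim_self_eq_ringKrullDim, ringKrullDim_fibRing] at this
  exact (WithBot.coe_inj.1 this).symm

/-- Rectified depth of the fibre stalk in terms of the projective dimension. -/
theorem le_depth_add_iff (m : ℕ) :
    (m : ℕ∞) ≤ LocCoh.depth (FibRing P A) (FibRing P A ⊗[MvPolynomial (Fin n) A] N.carrier) + fibTr P ↔
      HasProjectiveDimensionLT (fibStk P N) (n + 1 - m) := by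
  classical
  let R := FibRing P A
  let F := R ⊗[MvPolynomial (Fin n) A] N.carrier
  cases subsingleton_or_nontrivial F with
  | inl hs =>
    have h0 : LocCoh.depth R F = ⊤ := if_pos (Subsingleton.elim _ _)
    refine iff_of_true ?_ ?_
    · rw [h0, top_add]; exact le_top
    · exact Groth.Ega4Algebra1.PdLT.mono (Nat.zero_le _) (Groth.Ega4Algebra1.PdLT.zero_iff.2 hs)
  | inr hs =>
    have hne : ¬ Groth.Ega4Algebra1.PdLT R F 0 := fun h =>
      not_subsingleton F (Groth.Ega4Algebra1.PdLT.zero_iff.1 h)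
    have hex : ∃ e, Groth.Ega4Algebra1.PdLT R F (e + 1) :=
      ⟨fibHt P, Groth.Ega4Algebra1.pdLT_all_of_isRegularLocalRing R (fibHt P) (ringKrullDim_fibRing P) _⟩
    let e := Nat.find hex
    have he' : ¬ Groth.Ega4Algebra1.PdLT R F e := by
      intro h
      cases hz : e with
      | zero => exact hne (hz ▸ h)
      | succ k => exact Nat.find_min hex (show k < e by omega) (hz ▸ h)
    have hab := Groth.FrobLCI.auslander_buchsbaum e F (Nat.find_spec hex) he'
    rw [show LocCoh.depth R R = (fibHt P : ℕ∞) from depth_fibRing P] at hab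
    obtain ⟨d, hd⟩ : ∃ d : ℕ, LocCoh.depth R F = (d : ℕ∞) := by
      refine ENat.ne_top_iff_exists.1 (fun h => ?_) |>.imp fun _ => Eq.symm
      rw [h, add_top] at hab
      exact ENat.natCast_ne_top _ hab
    have hh : fibHt P = e + d := by rw [hd] at hab; exact_mod_cast hab
    show (m : ℕ∞) ≤ LocCoh.depth R F + fibTr P ↔ Groth.Ega4Algebra1.PdLT R F (n + 1 - m)
    rw [hd, ← Nat.cast_add, Nat.cast_le, fibTr]
    have hn := fibHt_le P
    constructor
    · intro h
      exact Groth.Ega4Algebra1.PdLT.mono (show e + 1 ≤ n + 1 - m by omega) (Nat.find_spec hex)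
    · intro h
      by_contra hlt
      exact he' (Groth.Ega4Algebra1.PdLT.mono (show n + 1 - m ≤ e by omega) h)

/-- The rectified depth is lower semicontinuous. -/
theorem isOpen_le_depth_add (m : ℕ) : IsOpen {P : PrimeSpectrum (MvPolynomial (Fin n) A) |
    (m : ℕ∞) ≤ LocCoh.depth (FibRing P A) (FibRing P A ⊗[MvPolynomial (Fin n) A] N.carrier) + fibTr P} := by
  simp only [le_depth_add_iff, hasProjectiveDimensionLT_stk_iff]
  exact isOpen_hasProjectiveDimensionLT (A := A) (MvPolynomial (Fin n) A) (n + 1 - m) N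

end Groth.Ega43FP2
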