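import Mathlib
import Groth.Agent.Ega43FP2.DepthFibre
import Groth.Agent.Ega4Algebra2.DepthFlat
import Groth.Agent.S5766
import Groth.Agent.SchDom.StalkChart
import Groth.Agent.FibreDim.Semicontinuity
import Groth.Agent.Variety2.DimScheme
import Groth.Agent.S9501

/-!
# Fibre stalks in an affine chart embedded in affine space
-/

set_option autoImplicit false
universe u

open CategoryTheory AlgebraicGeometry
open scoped TensorProduct

set_option synthInstance.maxHeartbeats 400000
set_option maxHeartbeats 3200000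

namespace Groth.Ega43FP2

section Transfer

variable {B B₀ : Type u} [CommRing B] [CommRing B₀] [Algebra B B₀]
variable {F R0 : Type u} [CommRing F] [CommRing R0] [Algebra B F] [Algebra B₀ R0]
variable {G : Type u} [AddCommGroup G] [Module B G] [Module B₀ G] [IsScalarTower B B₀ G]

/-- The base change map along `μ`. -/
theorem exists_baseChange_equiv (hπ : Function.Surjective (algebraMap B B₀)) (μ : F →+* R0)
    (hμ : Function.Surjective μ)
    (hcomm : ∀ b, μ (algebraMap B F b) = algebraMap B₀ R0 (algebraMap B B₀ b))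
    (hker : RingHom.ker μ ≤ (RingHom.ker (algebraMap B B₀)).map (algebraMap B F)) :
    ∃ e : F ⊗[B] G ≃+ R0 ⊗[B₀] G, ∀ (t : F) (v), e (t • v) = μ t • e v := by
  let : Algebra B R0 := ((algebraMap B₀ R0).comp (algebraMap B B₀)).toAlgebra
  have : IsScalarTower B B₀ R0 := IsScalarTower.of_algebraMap_eq fun _ => rfl
  have hkill : ∀ t, μ t = 0 → ∀ v : F ⊗[B] G, t • v = 0 := by
    intro t ht v
    have ht' := hker (RingHom.mem_ker.2 ht)
    induction v with
    | zero => simp
    | add a b ha hb => rw [smul_add, ha, hb, add_zero]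
    | tmul s x =>
      rw [TensorProduct.smul_tmul', smul_eq_mul]
      refine Submodule.span_induction ?_ ?_ ?_ ?_ ht'
      · rintro _ ⟨b, hb, rfl⟩
        rw [← Algebra.smul_def, TensorProduct.smul_tmul, ← algebraMap_smul B₀ b x,
          RingHom.mem_ker.1 hb, zero_smul, TensorProduct.tmul_zero]
      · rw [zero_mul, TensorProduct.zero_tmul]
      · intro a b _ _ ha hb
        rw [add_mul, TensorProduct.add_tmul, ha, hb, add_zero]
      · intro c a _ ha
        rw [smul_eq_mul, mul_assoc, ← smul_eq_mul c, ← TensorProduct.smul_tmul', ha, smul_zero]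
  obtain ⟨g, hg⟩ := hμ.hasRightInverse
  have hwd : ∀ (t t' : F) (v : F ⊗[B] G), μ t = μ t' → t • v = t' • v := fun t t' v h => by
    exact sub_eq_zero.1 ((sub_smul t t' v).symm.trans (hkill _ (by rw [map_sub, h, sub_self]) v))
  let fwd : F ⊗[B] G →+ R0 ⊗[B₀] G := TensorProduct.liftAddHom
    { toFun := fun t =>
        { toFun := fun x => μ t ⊗ₜ[B₀] x
          map_zero' := TensorProduct.tmul_zero _ _
          map_add' := TensorProduct.tmul_add _ }
      map_zero' := by ext x; simp
      map_add' := fun a b => by ext x; simp [TensorProduct.add_tmul] }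
    (fun b t x => by
      show μ (b • t) ⊗ₜ[B₀] x = μ t ⊗ₜ[B₀] (b • x)
      rw [← algebraMap_smul B₀ b x, ← TensorProduct.smul_tmul, Algebra.smul_def, Algebra.smul_def,
        map_mul, hcomm])
  let bwd : R0 ⊗[B₀] G →+ F ⊗[B] G := TensorProduct.liftAddHom
    { toFun := fun r =>
        { toFun := fun x => g r ⊗ₜ[B] x
          map_zero' := TensorProduct.tmul_zero _ _
          map_add' := TensorProduct.tmul_add _ }
      map_zero' := by
        ext x
        have := hwd (g 0) 0 (1 ⊗ₜ x) (by rw [hg, map_zero])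
        simpa [TensorProduct.smul_tmul'] using this
      map_add' := fun a b => by
        ext x
        have := hwd (g (a + b)) (g a + g b) (1 ⊗ₜ x) (by simp [hg _])
        simpa [TensorProduct.smul_tmul', TensorProduct.add_tmul] using this }
    (fun b₀ r x => by
      obtain ⟨b, rfl⟩ := hπ b₀
      show g (algebraMap B B₀ b • r) ⊗ₜ[B] x = g r ⊗ₜ[B] (algebraMap B B₀ b • x)
      rw [algebraMap_smul, algebraMap_smul, ← TensorProduct.smul_tmul]
      have := hwd (g (b • r)) (b • g r) (1 ⊗ₜ x) (by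
        rw [hg, Algebra.smul_def b (g r), map_mul, hcomm, hg]
        exact Algebra.smul_def b r)
      simpa only [TensorProduct.smul_tmul', smul_eq_mul, mul_one] using this)
  refine ⟨{ toFun := fwd, invFun := bwd, left_inv := fun v => ?_, right_inv := fun v => ?_,
            map_add' := map_add fwd }, fun t v => ?_⟩
  · induction v with
    | zero => simp
    | add a b ha hb => simp only [map_add] at ha hb ⊢; rw [ha, hb]
    | tmul t x =>
      show g (μ t) ⊗ₜ[B] x = t ⊗ₜ[B] x
      have := hwd (g (μ t)) t (1 ⊗ₜ x) (hg _)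
      simpa only [TensorProduct.smul_tmul', smul_eq_mul, mul_one] using this
  · induction v with
    | zero => simp
    | add a b ha hb => simp only [map_add] at ha hb ⊢; rw [ha, hb]
    | tmul r x =>
      show μ (g r) ⊗ₜ[B₀] x = r ⊗ₜ[B₀] x
      rw [hg]
  · show fwd (t • v) = μ t • fwd v
    induction v with
    | zero => simp
    | add a b ha hb => simp only [smul_add, map_add, ha, hb]
    | tmul s x =>
      show μ (t * s) ⊗ₜ[B₀] x = μ t • (μ s ⊗ₜ[B₀] x)
      rw [map_mul, TensorProduct.smul_tmul', smul_eq_mul]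

/-- Depth and dimension of the support are unchanged. -/
theorem depth_supportDim_transfer [IsLocalRing F] [IsLocalRing R0] [IsNoetherianRing F] [Module.Finite B G]
    (hπ : Function.Surjective (algebraMap B B₀)) (μ : F →+* R0) (hμ : Function.Surjective μ)
    (hcomm : ∀ b, μ (algebraMap B F b) = algebraMap B₀ R0 (algebraMap B B₀ b))
    (hker : RingHom.ker μ ≤ (RingHom.ker (algebraMap B B₀)).map (algebraMap B F)) :
    LocCoh.depth R0 (R0 ⊗[B₀] G) = LocCoh.depth F (F ⊗[B] G) ∧
      Module.supportDim R0 (R0 ⊗[B₀] G) = Module.supportDim F (F ⊗[B] G) := by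
  obtain ⟨e, he⟩ := exists_baseChange_equiv (G := G) hπ μ hμ hcomm hker
  let : Algebra F R0 := μ.toAlgebra
  have : IsScalarTower F R0 (R0 ⊗[B₀] G) := IsScalarTower.of_algebraMap_smul fun _ _ => rfl
  let eL : F ⊗[B] G ≃ₗ[F] R0 ⊗[B₀] G := { e with map_smul' := he }
  have : Module.Finite F (R0 ⊗[B₀] G) := Module.Finite.equiv eL
  have : IsNoetherianRing R0 := isNoetherianRing_of_surjective F R0 μ hμ
  refine ⟨?_, ?_⟩
  · rw [Groth.Ega4b.depth_congr' eL,
      Groth.Ega4b.depth_eq_of_surjective_algebraMap (A := F) (B := R0) hμ]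
  · rw [Module.supportDim_eq_of_equiv eL]
    exact (Groth.Agent.S5766.result F R0 _).symm

end Transfer

section Chart

variable {X Y : Scheme.{u}} (f : X ⟶ Y) {O : Y.Opens} (hO : IsAffineOpen O) {W : X.Opens} (hW : IsAffineOpen W)
  (hWO : W ≤ f ⁻¹ᵁ O) {n : ℕ} (π : MvPolynomial (Fin n) Γ(Y, O) →+* Γ(X, W)) (hπ : Function.Surjective π)
  (hC : ∀ a, π (algebraMap Γ(Y, O) _ a) = (f.appLE O W hWO).hom a)
  (y : Y) (z : f.fiber y) (hz : f.fiberι y z ∈ W)

/-- The point of affine space under a point of a fibre. -/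
noncomputable def chartPt : PrimeSpectrum (MvPolynomial (Fin n) Γ(Y, O)) :=
  PrimeSpectrum.comap π (hW.primeIdealOf ⟨f.fiberι y z, hz⟩)

include hO hπ hC in
/-- The local ring of the fibre is a quotient of the one of affine space. -/
theorem exists_fibRing_hom :
    letI := Groth.SchDom.secAlg (f.fiberι y) z hz
    ∃ μ : FibRing (chartPt f hW π y z hz) Γ(Y, O) →+* (f.fiber y).presheaf.stalk z, Function.Surjective μ ∧
      (∀ b, μ (algebraMap (MvPolynomial (Fin n) Γ(Y, O)) _ b) = algebraMap Γ(X, W) _ (π b)) ∧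
      RingHom.ker μ ≤ (RingHom.ker π).map (algebraMap (MvPolynomial (Fin n) Γ(Y, O)) _) := by
  let := Groth.SchDom.secAlg (f.fiberι y) z hz
  let x : X := f.fiberι y z
  have hxO : f x ∈ O := hWO hz
  let : Algebra Γ(X, W) (X.presheaf.stalk x) := (X.presheaf.germ W x hz).hom.toAlgebra
  let : Algebra Γ(Y, O) (Y.presheaf.stalk (f x)) := (Y.presheaf.germ O (f x) hxO).hom.toAlgebra
  have hlX : IsLocalization.AtPrime (X.presheaf.stalk x) (hW.primeIdealOf ⟨x, hz⟩).asIdeal :=
    hW.isLocalization_stalk ⟨x, hz⟩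
  have hlY : IsLocalization.AtPrime (Y.presheaf.stalk (f x)) (hO.primeIdealOf ⟨f x, hxO⟩).asIdeal :=
    hO.isLocalization_stalk ⟨f x, hxO⟩
  let P := chartPt f hW π y z hz
  let q := (hW.primeIdealOf ⟨x, hz⟩).asIdeal
  have hu : ∀ s : P.asIdeal.primeCompl, IsUnit ((algebraMap Γ(X, W) (X.presheaf.stalk x)).comp π s) := fun s =>
    IsLocalization.map_units (X.presheaf.stalk x) (⟨π s, s.2⟩ : q.primeCompl)
  let Br := Localization.AtPrime P.asIdeal
  let ν : Br →+* X.presheaf.stalk x := IsLocalization.lift hu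
  have hν : Function.Surjective ν := by
    intro r
    obtain ⟨a, s, rfl⟩ := IsLocalization.exists_mk'_eq q.primeCompl r
    obtain ⟨a, rfl⟩ := hπ a
    obtain ⟨s', hs'⟩ := hπ s.1
    have hs'P : s' ∈ P.asIdeal.primeCompl := fun h => s.2 (hs' ▸ h)
    refine ⟨IsLocalization.mk' Br a (⟨s', hs'P⟩ : P.asIdeal.primeCompl), ?_⟩
    rw [IsLocalization.lift_mk'_spec, RingHom.comp_apply, RingHom.comp_apply, mul_comm, ← IsLocalization.mk'_spec
      (X.presheaf.stalk x) (π a) s, hs']
  have hkν : RingHom.ker ν = (RingHom.ker π).map (algebraMap _ Br) := by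
    refine le_antisymm (fun w hw => ?_) (Ideal.map_le_iff_le_comap.2 fun b hb => ?_)
    · obtain ⟨a, s, rfl⟩ := IsLocalization.exists_mk'_eq P.asIdeal.primeCompl w
      rw [RingHom.mem_ker, IsLocalization.lift_mk', Units.mul_left_eq_zero] at hw
      obtain ⟨⟨t, ht⟩, ht0⟩ := (IsLocalization.map_eq_zero_iff q.primeCompl (X.presheaf.stalk x) (π a)).1 hw
      obtain ⟨t', rfl⟩ := hπ t
      rw [IsLocalization.mk'_mem_map_algebraMap_iff]
      exact ⟨t', ht, by rw [RingHom.mem_ker, map_mul]; exact ht0⟩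
    · rw [Ideal.mem_comap, RingHom.mem_ker, IsLocalization.lift_eq, RingHom.comp_apply, RingHom.mem_ker.1 hb, map_zero]
  obtain ⟨hsurj, hkS⟩ := Groth.Agent.S9501.result f y z
  let p := P.asIdeal.under Γ(Y, O)
  have hsq : ∀ a : Γ(Y, O), (f.stalkMap x).hom (algebraMap _ (Y.presheaf.stalk (f x)) a) =
      ν (algebraMap Γ(Y, O) Br a) := fun a => by
    rw [IsScalarTower.algebraMap_apply Γ(Y, O) (MvPolynomial (Fin n) Γ(Y, O)) Br, IsLocalization.lift_eq,
      RingHom.comp_apply, hC]
    refine (Scheme.Hom.germ_stalkMap_apply f O x hxO a).trans ?_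
    show _ = X.presheaf.germ W x hz (X.presheaf.map (homOfLE hWO).op ((f.app O).hom a))
    rw [TopCat.Presheaf.germ_res_apply]
  have hp : (hO.primeIdealOf ⟨f x, hxO⟩).asIdeal = p := by
    ext a
    rw [← IsLocalization.AtPrime.to_map_mem_maximal_iff (Y.presheaf.stalk (f x))
      (hO.primeIdealOf ⟨f x, hxO⟩).asIdeal a]
    show _ ↔ π (algebraMap _ _ a) ∈ q
    rw [← IsLocalization.AtPrime.to_map_mem_maximal_iff (X.presheaf.stalk x) q (π (algebraMap _ _ a))]
    have := hsq a
    rw [IsScalarTower.algebraMap_apply Γ(Y, O) (MvPolynomial (Fin n) Γ(Y, O)) Br, IsLocalization.lift_eq,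
      RingHom.comp_apply] at this
    rw [← this, IsLocalRing.mem_maximalIdeal, IsLocalRing.mem_maximalIdeal, mem_nonunits_iff, mem_nonunits_iff]
    exact (isUnit_map_iff (f.stalkMap x).hom _).not.symm
  have hmax : Ideal.map (f.stalkMap x).hom (IsLocalRing.maximalIdeal (Y.presheaf.stalk (f x))) =
      (p.map (algebraMap Γ(Y, O) Br)).map ν := by
    rw [← IsLocalization.AtPrime.map_eq_maximalIdeal (hO.primeIdealOf ⟨f x, hxO⟩).asIdeal (Y.presheaf.stalk (f x)),
      hp, Ideal.map_map, Ideal.map_map]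
    congr 1
    exact RingHom.ext hsq
  let σ : Br →+* (f.fiber y).presheaf.stalk z := ((f.fiberι y).stalkMap z).hom.comp ν
  have hkσ : RingHom.ker σ = p.map (algebraMap Γ(Y, O) Br) ⊔ (RingHom.ker π).map (algebraMap _ Br) := by
    rw [← RingHom.comap_ker, hkS]
    show Ideal.comap ν (Ideal.map (f.stalkMap x).hom _) = _
    rw [hmax, Ideal.comap_map_of_surjective ν hν, ← RingHom.ker_eq_comap_bot, hkν]
  refine ⟨Ideal.Quotient.lift _ σ fun a ha => RingHom.mem_ker.1 (hkσ ▸ Ideal.mem_sup_left ha),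
    Ideal.Quotient.lift_surjective_of_surjective _ _ (hsurj.comp hν), fun b => ?_, ?_⟩
  · show σ (algebraMap _ Br b) = _
    show ((f.fiberι y).stalkMap z).hom (ν (algebraMap _ Br b)) = _
    rw [IsLocalization.lift_eq]
    rfl
  · intro w hw
    obtain ⟨w, rfl⟩ := Ideal.Quotient.mk_surjective w
    have hw' : w ∈ RingHom.ker σ := hw
    rw [hkσ] at hw'
    obtain ⟨a, ha, b, hb, rfl⟩ := Submodule.mem_sup.1 hw'
    rw [map_add, Ideal.Quotient.eq_zero_iff_mem.2 ha, zero_add]
    have := Ideal.mem_map_of_mem (Ideal.Quotient.mk (p.map (algebraMap Γ(Y, O) Br))) hb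
    rwa [Ideal.map_map] at this

include hO hπ hC in
/-- The height of a point in its fibre. -/
theorem height_eq_fibTr [LocallyOfFiniteType f] :
    Order.height z = (fibTr (chartPt f hW π y z hz) : ℕ∞) := by
  have hy : y ∈ O := Groth.FibreDim.apply_fiberι f y z ▸ hWO hz
  let res : Y.residueField y →+* (f.fiber y).residueField z :=
    Groth.Variety2.Dim.resHom (k := Y.residueField y) (f.fiberToSpecResidueField y) z
  let := res.toAlgebra
  let ψc := X.evaluation W _ hz ≫ (f.fiberι y).residueFieldMap z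
  let resC : Y.residueField y ⟶ (f.fiber y).residueField z := CommRingCat.ofHom res
  have hres : Spec.map resC =
      (f.fiber y).fromSpecResidueField z ≫ f.fiberToSpecResidueField y :=
    Groth.Variety2.Dim.resHom_spec (k := Y.residueField y) (f.fiberToSpecResidueField y) z
  have hspec : Y.evaluation O y hy ≫ resC = f.appLE O W hWO ≫ ψc := by
    apply Spec.map_injective
    rw [← cancel_mono hO.fromSpec, Spec.map_comp, Category.assoc, Groth.FibreDim.SpecMap_evaluation,
      hres, Category.assoc, ← Groth.FibreDim.fiberι_comp]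
    simp only [ψc, Spec.map_comp, Category.assoc]
    rw [hO.SpecMap_appLE_fromSpec f hW hWO, reassoc_of% (Groth.FibreDim.SpecMap_evaluation hW _ hz),
      Scheme.Hom.SpecMap_residueFieldMap_fromSpecResidueField_assoc]
  obtain ⟨m, hm, hm'⟩ := Groth.Variety2.Dim.exists_trdegAt_eq_height
    (k := Y.residueField y) (f.fiberToSpecResidueField y) z
  have h := trdeg_eq_fibTr (chartPt f hW π y z hz) (Y.residueField y) ((f.fiber y).residueField z)
    (Y.evaluation O y hy).hom (ψc.hom.comp π) ?_ ?_ ?_ ?_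
  · rw [hm']
    exact_mod_cast hm.symm.trans h
  · intro a
    rw [RingHom.comp_apply, hC]
    exact congr($(congrArg CommRingCat.Hom.hom hspec) a)
  · intro w
    exact Groth.Variety2.Dim.exists_evaluation_eq_div hO hy w
  · intro w
    obtain ⟨t, rfl⟩ := Groth.Variety2.Dim.residueFieldMap_surjective (f.fiberι y) z w
    obtain ⟨a, c, hc, rfl⟩ := Groth.Variety2.Dim.exists_evaluation_eq_div hW hz t
    obtain ⟨a', rfl⟩ := hπ a
    obtain ⟨c', rfl⟩ := hπ c
    exact ⟨a', c', (map_ne_zero ((f.fiberι y).residueFieldMap z).hom).2 hc,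
      map_div₀ ((f.fiberι y).residueFieldMap z).hom _ _⟩
  · rw [← RingHom.comap_ker]
    show _ = Ideal.comap π _
    congr 1
    ext a
    let : Algebra Γ(X, W) (X.presheaf.stalk (f.fiberι y z)) := (X.presheaf.germ W _ hz).hom.toAlgebra
    have := hW.isLocalization_stalk ⟨_, hz⟩
    rw [RingHom.mem_ker]
    show ((f.fiberι y).residueFieldMap z).hom ((X.evaluation W _ hz).hom a) = 0 ↔ _
    rw [map_eq_zero, ← IsLocalization.AtPrime.to_map_mem_maximal_iff
      (X.presheaf.stalk ((f.fiberι y).base z)) (hW.primeIdealOf ⟨_, hz⟩).asIdeal a]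
    exact Ideal.Quotient.eq_zero_iff_mem

end Chart

end Groth.Ega43FP2
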