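import Mathlib
import Groth.Agent.Ega43FP2.FibChart
import Groth.Agent.S6284

/-!
# Dimension of the support of fibre stalks over affine space
-/

set_option autoImplicit false
universe u

open CategoryTheory AlgebraicGeometry
open scoped TensorProduct

set_option synthInstance.maxHeartbeats 400000
set_option maxHeartbeats 3200000

namespace Groth.Ega43FP2

theorem appLE_specMap_comp_fromSpec {Y : Scheme.{u}} {O : Y.Opens} (hO : IsAffineOpen O) {T : CommRingCat.{u}}
    (φ : Γ(Y, O) ⟶ T) (h : (⊤ : (Spec T).Opens) ≤ (Spec.map φ ≫ hO.fromSpec) ⁻¹ᵁ O) (a : Γ(Y, O)) :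
    (Spec.map φ ≫ hO.fromSpec).appLE O ⊤ h a = (Scheme.ΓSpecIso T).inv (φ a) := by
  have e2 : (Spec.map φ).appTop ((Scheme.ΓSpecIso Γ(Y, O)).inv a) = (Scheme.ΓSpecIso T).inv (φ a) := by
    rw [← CategoryTheory.comp_apply, ← Scheme.ΓSpecIso_inv_naturality]; rfl
  show (Spec T).presheaf.map _ ((Spec.map φ).app (hO.fromSpec ⁻¹ᵁ O) (hO.fromSpec.app O a)) = _
  rw [show hO.fromSpec.app O a = (Spec Γ(Y, O)).presheaf.map
      (homOfLE (le_top : hO.fromSpec ⁻¹ᵁ O ≤ ⊤)).op ((Scheme.ΓSpecIso Γ(Y, O)).inv a) from by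
    rw [hO.fromSpec_app_self]; rfl, Groth.SchDom.app_res]
  exact ((Groth.SchDom.res_res _ _ _).trans (Groth.SchDom.res_self _ _)).trans e2

variable {Y : Scheme.{u}} {O : Y.Opens} {n : ℕ}

/-- The dimension of the support of the fibre stalk, rectified, is upper semicontinuous. -/
theorem isOpen_supportDim_add_le (hO : IsAffineOpen O) (N : FPFlat Γ(Y, O) (MvPolynomial (Fin n) Γ(Y, O))) (c : ℕ) :
    IsOpen {P : PrimeSpectrum (MvPolynomial (Fin n) Γ(Y, O)) |
      Module.supportDim (FibRing P Γ(Y, O)) (FibRing P Γ(Y, O) ⊗[MvPolynomial (Fin n) Γ(Y, O)] N.carrier) +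
        (fibTr P : WithBot ℕ∞) ≤ (c : WithBot ℕ∞)} := by
  let B := MvPolynomial (Fin n) Γ(Y, O)
  let I := Module.annihilator B N.carrier
  let T := CommRingCat.of (B ⧸ I)
  let φ : Γ(Y, O) ⟶ T := CommRingCat.ofHom (algebraMap Γ(Y, O) (B ⧸ I))
  let g : Spec T ⟶ Y := Spec.map φ ≫ hO.fromSpec
  have hWO : (⊤ : (Spec T).Opens) ≤ g ⁻¹ᵁ O := fun x _ => hO.range_fromSpec.subset ⟨_, rfl⟩
  have hW : IsAffineOpen (⊤ : (Spec T).Opens) := isAffineOpen_top _
  have : Algebra.FiniteType Γ(Y, O) (B ⧸ I) := .trans (S := B) inferInstance inferInstance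
  have : LocallyOfFiniteType (Spec.map φ) := by
    rw [HasRingHomProperty.Spec_iff (P := @LocallyOfFiniteType)]
    exact RingHom.finiteType_algebraMap.2 this
  have : LocallyOfFiniteType g := inferInstanceAs (LocallyOfFiniteType (_ ≫ _))
  let π : B →+* Γ(Spec T, ⊤) := (Scheme.ΓSpecIso T).inv.hom.comp (Ideal.Quotient.mk I)
  have hbij : Function.Bijective (Scheme.ΓSpecIso T).inv.hom := ConcreteCategory.bijective_of_isIso _
  have hπ : Function.Surjective π := hbij.2.comp Ideal.Quotient.mk_surjective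
  have hkπ : RingHom.ker π = I := by
    ext b
    show (Scheme.ΓSpecIso T).inv.hom (Ideal.Quotient.mk I b) = 0 ↔ _
    rw [map_eq_zero_iff _ hbij.1, Ideal.Quotient.eq_zero_iff_mem]
  have hC : ∀ a, π (algebraMap Γ(Y, O) B a) = (g.appLE O ⊤ hWO).hom a := fun a =>
    (appLE_specMap_comp_fromSpec hO φ hWO a).symm
  let j : PrimeSpectrum Γ(Spec T, ⊤) → PrimeSpectrum B := PrimeSpectrum.comap π
  have hj : Topology.IsClosedEmbedding j := PrimeSpectrum.isClosedEmbedding_comap_of_surjective _ π hπ
  have hrange : Set.range j = Module.support B N.carrier := by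
    rw [Module.support_eq_zeroLocus, range_comap_of_surjective _ π hπ, hkπ]
  have key : ∀ Q : PrimeSpectrum Γ(Spec T, ⊤),
      FlatMor.fibreDimAt g (hW.fromSpec Q) =
        Module.supportDim (FibRing (j Q) Γ(Y, O)) (FibRing (j Q) Γ(Y, O) ⊗[B] N.carrier) +
          (fibTr (j Q) : WithBot ℕ∞) := by
    intro Q
    let x := hW.fromSpec Q
    let z := g.asFiber x
    have hz : g.fiberι (g.base x) z ∈ (⊤ : (Spec T).Opens) := trivial
    have hP : chartPt g hW π _ z hz = j Q := by
      refine congrArg (PrimeSpectrum.comap π) (hW.fromSpec.isOpenEmbedding.injective ?_)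
      rw [hW.fromSpec_primeIdealOf]
      exact g.fiberι_asFiber x
    rw [← hP]
    let P := chartPt g hW π _ z hz
    let : (g.fiber (g.base x)).Over (Spec (CommRingCat.of (Y.residueField (g.base x)))) :=
      ⟨g.fiberToSpecResidueField _⟩
    have : LocallyOfFiniteType ((g.fiber (g.base x)) ↘ Spec (CommRingCat.of (Y.residueField (g.base x)))) :=
      inferInstanceAs (LocallyOfFiniteType (g.fiberToSpecResidueField _))
    rw [show FlatMor.fibreDimAt g x = FlatMor.localDim (g.fiber (g.base x)) z from rfl,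
      Groth.VarietyBC.localDim_eq_height_add (Y.residueField (g.base x)) z,
      height_eq_fibTr g hO hW hWO π hπ hC _ z hz, add_comm]
    congr 1
    obtain ⟨μ, hμ, hcomm, hker⟩ := exists_fibRing_hom g hO hW hWO π hπ hC _ z hz
    let : Algebra B Γ(Spec T, ⊤) := π.toAlgebra
    let := Groth.SchDom.secAlg (g.fiberι _) z hz
    have : Module.Finite B Γ(Spec T, ⊤) := Module.Finite.of_surjective (Algebra.linearMap B Γ(Spec T, ⊤)) hπ
    let R0 := (g.fiber (g.base x)).presheaf.stalk z
    have h := (depth_supportDim_transfer (G := Γ(Spec T, ⊤)) (F := FibRing P Γ(Y, O)) hπ μ hμ hcomm hker).2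
    rw [Module.supportDim_eq_of_equiv (TensorProduct.AlgebraTensorModule.rid Γ(Spec T, ⊤) R0 R0),
      Module.supportDim_self_eq_ringKrullDim] at h
    refine h.trans ?_
    rw [Module.supportDim, Module.supportDim, Groth.Agent.S6284.result, Groth.Agent.S6284.result,
      Module.support_eq_zeroLocus, Module.support_eq_zeroLocus]
    have hann : Module.annihilator B Γ(Spec T, ⊤) = I := by
      rw [← hkπ]
      ext b
      rw [Module.mem_annihilator, RingHom.mem_ker]
      refine ⟨fun h => ?_, fun h m => ?_⟩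
      · have := h 1
        rwa [Algebra.smul_def, mul_one] at this
      rw [Algebra.smul_def]
      show π b * m = 0
      rw [h, zero_mul]
    rw [hann]
  have hclosed := hj.isClosedMap _ ((Groth.FibreDim.isOpen_fibreDimAt_le g c).preimage hW.fromSpec.continuous).isClosed_compl
  rw [← isClosed_compl_iff]
  convert hclosed
  ext P
  simp only [Set.mem_compl_iff, Set.mem_ofPred_eq, Set.mem_image]
  constructor
  · intro hP
    by_cases hsupp : P ∈ Module.support B N.carrier
    · obtain ⟨Q, rfl⟩ := hrange.ge hsupp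
      exact ⟨Q, fun hc => hP ((key Q).symm.trans_le hc), rfl⟩
    · refine absurd ?_ hP
      have : Module.support (FibRing P Γ(Y, O)) (FibRing P Γ(Y, O) ⊗[B] N.carrier) = ∅ := by
        rw [Groth.Agent.S6284.result, Set.eq_empty_iff_forall_notMem]
        intro q hq
        refine hsupp ((Module.mem_support_mono ?_) hq)
        intro b hb
        by_contra hbP
        exact q.2.ne_top (Ideal.eq_top_of_isUnit_mem _ hb
          ((IsLocalization.map_units (Localization.AtPrime P.asIdeal) (⟨b, hbP⟩ : P.asIdeal.primeCompl)).map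
            (Ideal.Quotient.mk _)))
      have := (Module.supportDim_eq_bot_iff_subsingleton (FibRing P Γ(Y, O))
        (FibRing P Γ(Y, O) ⊗[B] N.carrier)).2 (Module.support_eq_empty_iff.1 this)
      rw [this, WithBot.bot_add]
      exact bot_le
  · rintro ⟨Q, hQ, rfl⟩
    exact fun hc => hQ ((key Q).trans_le hc)

end Groth.Ega43FP2
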