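import Mathlib
import Groth.Agent.Ega43FP2.SuppFibre
import Groth.Agent.LocCohBase.CM
import Groth.Agent.Flatmor4.FlatModAffine
import Groth.Agent.Flatmor4.FPSections

/-!
# Openness of loci defined by depth and support dimension in the fibres
-/

set_option autoImplicit false
universe u

open CategoryTheory AlgebraicGeometry
open scoped TensorProduct

set_option synthInstance.maxHeartbeats 400000
set_option maxHeartbeats 3200000

namespace Groth.Ega43FP2

variable {X Y : Scheme.{u}} (f : X ⟶ Y) (F : X.Modules)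

/-- The depth of a stalk of the restriction to a fibre. -/
noncomputable abbrev depthAt (y : Y) (z : f.fiber y) : ℕ∞ :=
  LocCoh.depth ((f.fiber y).presheaf.stalk z) (((Scheme.Modules.pullback (f.fiberι y)).obj F).presheaf.stalk z)

/-- The dimension of the support of a stalk of the restriction to a fibre. -/
noncomputable abbrev suppAt (y : Y) (z : f.fiber y) : WithBot ℕ∞ :=
  Module.supportDim ((f.fiber y).presheaf.stalk z) (((Scheme.Modules.pullback (f.fiberι y)).obj F).presheaf.stalk z)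

/-- The dimension of the closure of a point in its fibre. -/
noncomputable abbrev clDimAt (y : Y) (z : f.fiber y) : WithBot ℕ∞ :=
  topologicalKrullDim ↥(closure ({z} : Set ↥(f.fiber y)))

/-- A predicate whose locus is open over affine space. -/
structure OpenOverAffine (Φ : ℕ∞ → WithBot ℕ∞ → WithBot ℕ∞ → Prop) : Prop where
  isOpen : ∀ {Y : Scheme.{u}} {O : Y.Opens} (_ : IsAffineOpen O) (n : ℕ)
    (N : FPFlat Γ(Y, O) (MvPolynomial (Fin n) Γ(Y, O))),
    IsOpen {P : PrimeSpectrum (MvPolynomial (Fin n) Γ(Y, O)) |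
      Φ (LocCoh.depth (FibRing P Γ(Y, O)) (FibRing P Γ(Y, O) ⊗[MvPolynomial (Fin n) Γ(Y, O)] N.carrier))
        (Module.supportDim (FibRing P Γ(Y, O)) (FibRing P Γ(Y, O) ⊗[MvPolynomial (Fin n) Γ(Y, O)] N.carrier))
        (fibTr P : WithBot ℕ∞)}

theorem apply_asFiber_eq (Φ : ℕ∞ → WithBot ℕ∞ → WithBot ℕ∞ → Prop) (y : Y) (z : f.fiber y) :
    Φ (depthAt f F y z) (suppAt f F y z) (clDimAt f y z) ↔
      Φ (depthAt f F _ (f.asFiber (f.fiberι y z))) (suppAt f F _ (f.asFiber (f.fiberι y z)))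
        (clDimAt f _ (f.asFiber (f.fiberι y z))) := by
  suffices key : ∀ (x : X) (y : Y) (_ : f.base x = y) (z : f.fiber y), f.fiberι y z = x →
      (Φ (depthAt f F y z) (suppAt f F y z) (clDimAt f y z) ↔
        Φ (depthAt f F _ (f.asFiber x)) (suppAt f F _ (f.asFiber x)) (clDimAt f _ (f.asFiber x))) from
    key _ y (Groth.FibreDim.apply_fiberι f y z) z rfl
  rintro x _ rfl z hz
  rw [show z = f.asFiber x from (f.fiberι _).isEmbedding.injective (hz.trans (f.fiberι_asFiber x).symm)]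

variable [LocallyOfFinitePresentation f]

/-- Loci in the source. -/
theorem isOpen_fibreLocus (hF : CohB1.IsFP F) (U : X.Opens) (hflat : ∀ x ∈ U, FlatMod.IsFlatOverAt f F x)
    {Φ : ℕ∞ → WithBot ℕ∞ → WithBot ℕ∞ → Prop} (hΦ : OpenOverAffine.{u} Φ) :
    IsOpen {x : X | x ∈ U ∧ Φ (depthAt f F _ (f.asFiber x)) (suppAt f F _ (f.asFiber x)) (clDimAt f _ (f.asFiber x))} := by
  have : F.IsQuasicoherent := inferInstance
  rw [isOpen_iff_forall_mem_open]
  rintro x ⟨hxU, hx⟩
  obtain ⟨O, hO, hxO, -⟩ := exists_isAffineOpen_mem_and_subset (U := (⊤ : Y.Opens)) (x := f x) trivial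
  obtain ⟨W, hW, hxW, hWle⟩ := exists_isAffineOpen_mem_and_subset (U := U ⊓ f ⁻¹ᵁ O) (x := x) ⟨hxU, hxO⟩
  have hWU : W ≤ U := hWle.trans inf_le_left
  have hWO : W ≤ f ⁻¹ᵁ O := hWle.trans inf_le_right
  let : Algebra Γ(Y, O) Γ(X, W) := (f.appLE O W hWO).hom.toAlgebra
  let := Groth.Flatmor4.sectionModule f F hWO
  have : IsScalarTower Γ(Y, O) Γ(X, W) Γ(F, W) := IsScalarTower.of_algebraMap_smul fun _ _ => rfl
  have : Algebra.FinitePresentation Γ(Y, O) Γ(X, W) := f.finitePresentation_appLE hO hW hWO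
  have hflatG : Module.Flat Γ(Y, O) Γ(F, W) :=
    (Groth.Flatmor4.flat_sections_iff f F hW hO hWO).2 fun z hz => hflat z (hWU hz)
  have : Module.FinitePresentation Γ(X, W) Γ(F, W) := Groth.Flatmor4.finitePresentation_sections_of_isFP F hF hW
  obtain ⟨n, φ, hφ, hker⟩ := Algebra.FinitePresentation.out (R := Γ(Y, O)) (A := Γ(X, W))
  let B := MvPolynomial (Fin n) Γ(Y, O)
  let : Algebra B Γ(X, W) := φ.toRingHom.toAlgebra
  let : Module B Γ(F, W) := Module.compHom _ φ.toRingHom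
  have : IsScalarTower B Γ(X, W) Γ(F, W) := IsScalarTower.of_algebraMap_smul fun _ _ => rfl
  have hAlg : ∀ a : Γ(Y, O), φ (algebraMap Γ(Y, O) B a) = algebraMap Γ(Y, O) Γ(X, W) a := fun a => φ.commutes a
  have : IsScalarTower Γ(Y, O) B Γ(F, W) := IsScalarTower.of_algebraMap_smul fun a m => by
    show φ (algebraMap Γ(Y, O) B a) • m = a • m
    rw [hAlg, algebraMap_smul]
  have : Module.FinitePresentation B Γ(X, W) :=
    Module.finitePresentation_of_surjective (Algebra.linearMap B Γ(X, W)) hφ (by exact hker)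
  have : Module.FinitePresentation B Γ(F, W) :=
    Module.FinitePresentation.trans B Γ(F, W) Γ(X, W)
  let N : FPFlat Γ(Y, O) B := ⟨Γ(F, W)⟩
  have key : ∀ (y : Y) (z : f.fiber y) (hz : f.fiberι y z ∈ W),
      Φ (depthAt f F y z) (suppAt f F y z) (clDimAt f y z) ↔
        (chartPt f hW φ.toRingHom y z hz) ∈ {P : PrimeSpectrum B |
          Φ (LocCoh.depth (FibRing P Γ(Y, O)) (FibRing P Γ(Y, O) ⊗[B] N.carrier))
            (Module.supportDim (FibRing P Γ(Y, O)) (FibRing P Γ(Y, O) ⊗[B] N.carrier))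
            (fibTr P : WithBot ℕ∞)} := by
    intro y z hz
    obtain ⟨μ, hμ, hcomm, hkerμ⟩ := exists_fibRing_hom f hO hW hWO φ.toRingHom hφ hAlg y z hz
    let := Groth.SchDom.secAlg (f.fiberι y) z hz
    obtain ⟨θ⟩ := Groth.SchDom.nonempty_pullStalk_equiv (f.fiberι y) F hW z hz
    let P := chartPt f hW φ.toRingHom y z hz
    have h := depth_supportDim_transfer (G := Γ(F, W)) (F := FibRing P Γ(Y, O)) hφ μ hμ hcomm hkerμ
    rw [Set.mem_ofPred_eq]
    have e1 : depthAt f F y z = LocCoh.depth (FibRing P Γ(Y, O)) (FibRing P Γ(Y, O) ⊗[B] N.carrier) :=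
      (Groth.Ega4b.depth_congr' θ).symm.trans h.1
    have e2 : suppAt f F y z = Module.supportDim (FibRing P Γ(Y, O)) (FibRing P Γ(Y, O) ⊗[B] N.carrier) :=
      (Module.supportDim_eq_of_equiv θ).symm.trans h.2
    rw [e1, e2, show clDimAt f y z = ((Order.height z : ℕ∞) : WithBot ℕ∞) from
      Groth.Variety2.Dim.dim_closure_singleton z, height_eq_fibTr f hO hW hWO φ.toRingHom hφ hAlg y z hz]
    rfl
  let J : ↥W → PrimeSpectrum B := fun w => PrimeSpectrum.comap φ.toRingHom (hW.primeIdealOf w)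
  have hJ : Continuous J := (PrimeSpectrum.continuous_comap φ.toRingHom).comp hW.isoSpec.hom.continuous
  have hJeq : ∀ w : ↥W, ∀ hz, J w = chartPt f hW φ.toRingHom _ (f.asFiber w.1) hz := by
    intro w hz
    refine congrArg (PrimeSpectrum.comap φ.toRingHom) (hW.fromSpec.isOpenEmbedding.injective ?_)
    rw [hW.fromSpec_primeIdealOf, hW.fromSpec_primeIdealOf]
    exact (f.fiberι_asFiber w.1).symm
  have hopen := W.isOpen.isOpenMap_subtype_val _ ((hΦ.isOpen hO n N).preimage hJ)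
  refine ⟨_, ?_, hopen, ?_⟩
  · rintro _ ⟨w, hw, rfl⟩
    refine ⟨hWU w.2, (key _ _ (by rw [f.fiberι_asFiber]; exact w.2)).2 ?_⟩
    rw [← hJeq w]
    exact hw
  · refine ⟨⟨x, hxW⟩, ?_, rfl⟩
    rw [Set.mem_preimage, hJeq ⟨x, hxW⟩ (by rw [f.fiberι_asFiber]; exact hxW)]
    exact (key _ _ _).1 hx

/-- Loci in the target of a closed morphism. -/
theorem isOpen_fibreLocus_target (hf : IsClosedMap f.base) (hF : CohB1.IsFP F) (hflat : FlatMod.IsFlatOver f F)
    {Φ : ℕ∞ → WithBot ℕ∞ → WithBot ℕ∞ → Prop} (hΦ : OpenOverAffine.{u} Φ) :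
    IsOpen {y : Y | ∀ z : f.fiber y, Φ (depthAt f F y z) (suppAt f F y z) (clDimAt f y z)} := by
  have h := isOpen_fibreLocus f F hF ⊤ (fun x _ => hflat x) hΦ
  rw [← isClosed_compl_iff]
  convert hf _ h.isClosed_compl
  ext y
  simp only [Set.mem_compl_iff, Set.mem_ofPred_eq, not_forall, Set.mem_image]
  constructor
  · rintro ⟨z, hz⟩
    exact ⟨f.fiberι y z, fun hc => hz ((apply_asFiber_eq f F Φ y z).2 hc.2), Groth.FibreDim.apply_fiberι f y z⟩
  · rintro ⟨x, hx, rfl⟩
    exact ⟨f.asFiber x, fun hc => hx ⟨trivial, hc⟩⟩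

theorem openOverAffine_le_depth_add (m : ℕ) :
    OpenOverAffine.{u} fun d _ t => (m : WithBot ℕ∞) ≤ (d : WithBot ℕ∞) + t := by
  refine ⟨fun {Y O} hO n N => ?_⟩
  convert isOpen_le_depth_add N m using 1
  ext P
  simp only [Set.mem_ofPred_eq]
  norm_cast

theorem openOverAffine_coprof_le (k : ℕ) :
    OpenOverAffine.{u} fun d s _ => s ≤ (d : WithBot ℕ∞) + k := by
  refine ⟨fun {Y O} hO n N => ?_⟩
  have : ∀ P : PrimeSpectrum (MvPolynomial (Fin n) Γ(Y, O)),
      Module.supportDim (FibRing P Γ(Y, O)) (FibRing P Γ(Y, O) ⊗[MvPolynomial (Fin n) Γ(Y, O)] N.carrier) ≤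
        (LocCoh.depth (FibRing P Γ(Y, O)) (FibRing P Γ(Y, O) ⊗[MvPolynomial (Fin n) Γ(Y, O)] N.carrier) : WithBot ℕ∞) + k ↔
      ∃ m : ℕ, (m : ℕ∞) ≤ LocCoh.depth (FibRing P Γ(Y, O)) (FibRing P Γ(Y, O) ⊗[MvPolynomial (Fin n) Γ(Y, O)] N.carrier) + fibTr P ∧
        Module.supportDim (FibRing P Γ(Y, O)) (FibRing P Γ(Y, O) ⊗[MvPolynomial (Fin n) Γ(Y, O)] N.carrier) +
          (fibTr P : WithBot ℕ∞) ≤ ((m + k : ℕ) : WithBot ℕ∞) := by
    intro P
    have hle := Module.supportDim_le_ringKrullDim (FibRing P Γ(Y, O)) (FibRing P Γ(Y, O) ⊗[MvPolynomial (Fin n) Γ(Y, O)] N.carrier)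
    rw [ringKrullDim_fibRing] at hle
    generalize LocCoh.depth (FibRing P Γ(Y, O)) (FibRing P Γ(Y, O) ⊗[MvPolynomial (Fin n) Γ(Y, O)] N.carrier) = d
    generalize hs : Module.supportDim (FibRing P Γ(Y, O)) (FibRing P Γ(Y, O) ⊗[MvPolynomial (Fin n) Γ(Y, O)] N.carrier) = s at hle
    generalize fibTr P = t
    cases s with
    | bot =>
      refine iff_of_true bot_le ⟨0, by simp, ?_⟩
      rw [WithBot.bot_add]
      exact bot_le
    | coe s =>
      obtain ⟨a, rfl⟩ : ∃ a : ℕ, s = (a : ℕ∞) := by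
        cases s using ENat.recTopCoe with
        | top => exact absurd (WithBot.coe_le_coe.1 hle) (by simp)
        | coe a => exact ⟨a, rfl⟩
      cases d using ENat.recTopCoe with
      | top =>
        refine iff_of_true ?_ ⟨a + t, le_top.trans (by simp), ?_⟩
        · norm_cast
          simp
        · norm_cast
          omega
      | coe d =>
        norm_cast
        exact ⟨fun h => ⟨a + t - k, by omega, by omega⟩, fun ⟨m, h1, h2⟩ => by omega⟩
  simp only [this, Set.ofPred_exists, Set.ofPred_and]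
  exact isOpen_iUnion fun m => (isOpen_le_depth_add N m).inter (isOpen_supportDim_add_le hO N (m + k))

theorem openOverAffine_isCohenMacaulay :
    OpenOverAffine.{u} fun d s _ => s = ⊥ ∨ s = (d : WithBot ℕ∞) := by
  refine ⟨fun {Y O} hO n N => ?_⟩
  convert (openOverAffine_coprof_le.{u} 0).isOpen hO n N using 1
  ext P
  simp only [Set.mem_ofPred_eq, Nat.cast_zero, add_zero]
  constructor
  · rintro (h | h)
    · rw [h]; exact bot_le
    · exact h.le
  · intro h
    cases subsingleton_or_nontrivial (FibRing P Γ(Y, O) ⊗[MvPolynomial (Fin n) Γ(Y, O)] N.carrier) with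
    | inl hs => exact Or.inl (Module.supportDim_eq_bot_of_subsingleton _ _)
    | inr hs => exact Or.inr (le_antisymm h (Groth.LocCohBase.depth_le_supportDim _))

end Groth.Ega43FP2
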