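import Mathlib
import Groth.Agent.Ega43FP2.DepthScheme
import Groth.Agent.Ega4Algebra2.SkFlat
import Groth.Agent.FibreDim.LowerSemicont
import Groth.Agent.LocFree.FP
import Groth.Agent.QCohMod.Affine
import Groth.Agent.CMMor.Locus
import Groth.Agent.Misc13.FlatBC
import Groth.Agent.FibreDim.OpenFibre

/-!
# Openness of the locus where the fibres satisfy `(S_k)`
-/

set_option autoImplicit false
universe u

open CategoryTheory AlgebraicGeometry
open scoped TensorProduct

set_option synthInstance.maxHeartbeats 400000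
set_option maxHeartbeats 3200000

namespace Groth.Ega43FP2

/-- `(S_k)` of a local ring of a scheme in terms of its generizations. -/
theorem hasSk_stalk_iff {Z : Scheme.{u}} (z : Z) (k : ℕ) :
    LocCoh.HasSk k (Z.presheaf.stalk z) (Z.presheaf.stalk z) ↔
      ∀ w : Z, w ⤳ z → Groth.Ega4b.SkLoc k (Z.presheaf.stalk w) := by
  obtain ⟨V, hV, hzV, -⟩ := exists_isAffineOpen_mem_and_subset (U := (⊤ : Z.Opens)) (x := z) trivial
  let q := hV.primeIdealOf ⟨z, hzV⟩
  let : Algebra Γ(Z, V) (Z.presheaf.stalk z) := (Z.presheaf.germ V z hzV).hom.toAlgebra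
  have hlz : IsLocalization.AtPrime (Z.presheaf.stalk z) q.asIdeal := hV.isLocalization_stalk ⟨z, hzV⟩
  have hdis := IsLocalization.orderIsoOfPrime q.asIdeal.primeCompl (Z.presheaf.stalk z)
  have key : ∀ (p : Ideal (Z.presheaf.stalk z)) [p.IsPrime] (w : Z) (hw : w ∈ V),
      (hV.primeIdealOf ⟨w, hw⟩).asIdeal = p.comap (algebraMap Γ(Z, V) (Z.presheaf.stalk z)) →
      (Groth.Ega4b.SkLoc k (Localization.AtPrime p) ↔ Groth.Ega4b.SkLoc k (Z.presheaf.stalk w)) := by
    intro p _ w hw he
    let : Algebra Γ(Z, V) (Z.presheaf.stalk w) := (Z.presheaf.germ V w hw).hom.toAlgebra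
    have hlw : IsLocalization.AtPrime (Z.presheaf.stalk w) (hV.primeIdealOf ⟨w, hw⟩).asIdeal :=
      hV.isLocalization_stalk ⟨w, hw⟩
    have hl : IsLocalization.AtPrime (Localization.AtPrime p) (p.comap (algebraMap Γ(Z, V) (Z.presheaf.stalk z))) :=
      IsLocalization.isLocalization_isLocalization_atPrime_isLocalization q.asIdeal.primeCompl _ p
    have hsub : (hV.primeIdealOf ⟨w, hw⟩).asIdeal.primeCompl =
        (p.comap (algebraMap Γ(Z, V) (Z.presheaf.stalk z))).primeCompl := by
      ext a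
      show a ∉ _ ↔ a ∉ _
      rw [he]
    have hl' : IsLocalization (hV.primeIdealOf ⟨w, hw⟩).asIdeal.primeCompl (Localization.AtPrime p) := by
      rw [hsub]; exact hl
    exact Groth.Ega4b.skLoc_of_ringEquiv
      (IsLocalization.algEquiv (hV.primeIdealOf ⟨w, hw⟩).asIdeal.primeCompl (Localization.AtPrime p)
        (Z.presheaf.stalk w)).toRingEquiv
  rw [Groth.Ega4b.hasSk_self_iff]
  constructor
  · intro h w hwz
    have hw : w ∈ V := hwz.mem_open V.isOpen hzV
    have hle : (hV.primeIdealOf ⟨w, hw⟩).asIdeal ≤ q.asIdeal := by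
      rw [PrimeSpectrum.asIdeal_le_asIdeal, PrimeSpectrum.le_iff_specializes]
      refine (hV.fromSpec.isOpenEmbedding.toIsInducing.specializes_iff).1 ?_
      rw [hV.fromSpec_primeIdealOf, hV.fromSpec_primeIdealOf]
      exact hwz
    have hd : Disjoint (q.asIdeal.primeCompl : Set Γ(Z, V)) (hV.primeIdealOf ⟨w, hw⟩).asIdeal :=
      Set.disjoint_left.2 fun a ha haw => ha (hle haw)
    have := IsLocalization.isPrime_of_isPrime_disjoint q.asIdeal.primeCompl (Z.presheaf.stalk z)
      (hV.primeIdealOf ⟨w, hw⟩).asIdeal inferInstance hd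
    exact (key _ w hw (IsLocalization.under_map_of_isPrime_disjoint q.asIdeal.primeCompl _ inferInstance hd).symm).1 (h _)
  · intro h p _
    let P : Spec Γ(Z, V) := PrimeSpectrum.comap (algebraMap Γ(Z, V) (Z.presheaf.stalk z)) ⟨p, ‹_›⟩
    have hP : hV.fromSpec P ∈ V := hV.range_fromSpec.subset ⟨_, rfl⟩
    have he : hV.primeIdealOf ⟨_, hP⟩ = P := hV.fromSpec.isOpenEmbedding.injective (hV.fromSpec_primeIdealOf _)
    have hsp : hV.fromSpec P ⤳ z := by
      have hPq : P ⤳ q := (PrimeSpectrum.le_iff_specializes P q).1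
        ((IsLocalization.AtPrime.orderIsoOfPrime (Z.presheaf.stalk z) q.asIdeal ⟨p, ‹_›⟩).2.2)
      have := hPq.map hV.fromSpec.continuous
      rwa [hV.fromSpec_primeIdealOf] at this
    exact (key p _ hP (congrArg PrimeSpectrum.asIdeal he)).2 (h _ hsp)

variable {X Y : Scheme.{u}} (f : X ⟶ Y)

theorem depthAt_suppAt_structure (y : Y) (z : f.fiber y) :
    depthAt f (Coh.structureModule X) y z = LocCoh.depth ((f.fiber y).presheaf.stalk z) ((f.fiber y).presheaf.stalk z) ∧
      suppAt f (Coh.structureModule X) y z = ringKrullDim ((f.fiber y).presheaf.stalk z) := by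
  have hq : (Coh.structureModule X).IsQuasicoherent := Groth.QCohMod.isQCoh_unit X
  obtain ⟨W, hW, hxW, -⟩ := exists_isAffineOpen_mem_and_subset (U := (⊤ : X.Opens)) (x := f.fiberι y z) trivial
  let := Groth.SchDom.secAlg (f.fiberι y) z hxW
  obtain ⟨θ⟩ := Groth.SchDom.nonempty_pullStalk_equiv (f.fiberι y) (Coh.structureModule X) hW z hxW
  let e := (TensorProduct.AlgebraTensorModule.rid Γ(X, W) _ _).symm.trans θ
  exact ⟨(Groth.Ega4b.depth_congr' e).symm,
    (Module.supportDim_eq_of_equiv e).symm.trans (Module.supportDim_self_eq_ringKrullDim _)⟩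

theorem isFP_structureModule : CohB1.IsFP (Coh.structureModule X) := by
  have hq : (Coh.structureModule X).IsQuasicoherent := Groth.QCohMod.isQCoh_unit X
  exact Groth.LocFree.isFP_of_affine_cover _ fun x => by
    obtain ⟨A, hA, hxA, -⟩ := exists_isAffineOpen_mem_and_subset (U := (⊤ : X.Opens)) (x := x) trivial
    exact ⟨A, hA, hxA, (inferInstance : Module.FinitePresentation Γ(X, A) Γ(X, A))⟩

/-- The points having, in their fibre, a generization in `Z` of height at least `τ` form a closed set. -/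
theorem isClosed_exists_height_le [LocallyOfFiniteType f] {Z : Set X} (hZ : IsClosed Z) (τ : ℕ) :
    IsClosed {x : X | ∃ w ∈ Z, w ⤳ x ∧ f w = f x ∧ (τ : ℕ∞) ≤ Order.height (f.asFiber w)} := by
  cases τ with
  | zero =>
    convert hZ
    ext x
    exact ⟨fun ⟨w, hw, hwx, _⟩ => hwx.mem_closed hZ hw, fun hx => ⟨x, hx, specializes_rfl, rfl, by simp⟩⟩
  | succ τ =>
    let C : TopologicalSpace.Closeds ↥X := ⟨Z, hZ⟩
    let I := Scheme.IdealSheafData.vanishingIdeal C
    let ι := I.subschemeι
    have hrange : Set.range ι.base = Z := by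
      rw [Scheme.IdealSheafData.range_subschemeι]
      exact Scheme.IdealSheafData.coe_support_vanishingIdeal C
    have : LocallyOfFiniteType (ι ≫ f) := inferInstance
    have hheight : ∀ v : I.subscheme, Order.height ((ι ≫ f).asFiber v) = Order.height (f.asFiber (ι v)) := by
      intro v
      obtain ⟨a, ha, ha'⟩ := Groth.FibreDim.exists_relTrdeg_eq_height (ι ≫ f) v
      obtain ⟨b, hb, hb'⟩ := Groth.FibreDim.exists_relTrdeg_eq_height f (ι v)
      rw [ha', hb']
      suffices h : Groth.Variety2.Dim.relTrdeg (ι ≫ f) v = Groth.Variety2.Dim.relTrdeg f (ι v) by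
        rw [ha, hb] at h
        exact_mod_cast h
      let : Algebra (Y.residueField (f (ι v))) (I.subscheme.residueField v) := ((ι ≫ f).residueFieldMap v).hom.toAlgebra
      let := (f.residueFieldMap (ι v)).hom.toAlgebra
      let e : X.residueField (ι v) ≃+* I.subscheme.residueField v :=
        RingEquiv.ofBijective (ι.residueFieldMap v).hom
          ⟨(ι.residueFieldMap v).hom.injective, Groth.Variety2.Dim.residueFieldMap_surjective ι v⟩
      let ea : X.residueField (ι v) ≃ₐ[Y.residueField (f (ι v))] I.subscheme.residueField v :=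
        AlgEquiv.ofRingEquiv (f := e) fun c =>
          (congr($(congrArg CommRingCat.Hom.hom (Scheme.residueFieldMap_comp ι f v)) c)).symm
      exact ea.trdeg_eq.symm
    suffices h : {x : X | ∃ w ∈ Z, w ⤳ x ∧ f w = f x ∧ ((τ + 1 : ℕ) : ℕ∞) ≤ Order.height (f.asFiber w)} =
        ι.base '' {v | FlatMor.fibreDimAt (ι ≫ f) v ≤ (τ : WithBot ℕ∞)}ᶜ by
      rw [h]
      exact ι.isClosedEmbedding.isClosedMap _ (Groth.FibreDim.isOpen_fibreDimAt_le (ι ≫ f) τ).isClosed_compl
    ext x
    constructor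
    · rintro ⟨w, hw, hwx, hfw, hτ⟩
      obtain ⟨v, rfl⟩ := hrange.ge hw
      obtain ⟨v', rfl⟩ := hrange.ge (hwx.mem_closed hZ hw)
      refine ⟨v', fun hle => ?_, rfl⟩
      obtain ⟨O, hO, hle'⟩ := Groth.FibreDim.exists_open_nhd_height_le (ι ≫ f) v' τ hle
      have hv : v ∈ O := ((ι.isClosedEmbedding.toIsInducing.specializes_iff).1 hwx).mem_open O.isOpen hO
      have := hle' _ ((ι ≫ f).asFiber v) (by rw [(ι ≫ f).fiberι_asFiber]; exact hv)
      rw [hheight] at this
      exact absurd (hτ.trans this) (by rw [Nat.cast_le]; omega)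
    · rintro ⟨v', hv', rfl⟩
      let g := ι ≫ f
      have : LocallyOfFiniteType (g.fiberToSpecResidueField (g.base v')) :=
        inferInstanceAs (LocallyOfFiniteType (Limits.pullback.snd g (Y.fromSpecResidueField (g.base v'))))
      let : (g.fiber (g.base v')).Over (Spec (CommRingCat.of (Y.residueField (g.base v')))) :=
        ⟨g.fiberToSpecResidueField _⟩
      have : LocallyOfFiniteType ((g.fiber (g.base v')) ↘ Spec (CommRingCat.of (Y.residueField (g.base v')))) :=
        inferInstanceAs (LocallyOfFiniteType (g.fiberToSpecResidueField _))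
      obtain ⟨O, hO, hgen⟩ := Groth.VarietyBC.exists_nhd_le_generalization (Y.residueField (g.base v')) (g.asFiber v')
      by_contra hno
      refine hv' (show FlatMor.localDim _ (g.asFiber v') ≤ (τ : WithBot ℕ∞) from
        Groth.FibreDim.localDim_le_of_height_le (k := Y.residueField (g.base v')) (g.fiberToSpecResidueField _) O hO
          fun u hu => ?_)
      obtain ⟨η, hη1, hη2⟩ := hgen u hu
      refine (Order.height_mono hη1).trans ?_
      by_contra hη
      have hfv : g (g.fiberι _ η) = g v' := Groth.FibreDim.apply_fiberι g _ η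
      refine hno ⟨ι (g.fiberι _ η), hrange.le ⟨_, rfl⟩, ?_, hfv, ?_⟩
      · have := (Scheme.le_iff_specializes.1 hη2).map (g.fiberι _).continuous
        rw [g.fiberι_asFiber] at this
        exact this.map ι.continuous
      · rw [← hheight]
        obtain ⟨a, ha⟩ : ∃ a : ℕ, Order.height η = (a : ℕ∞) :=
          Groth.Variety2.Dim.exists_height_eq (k := Y.residueField (g.base v')) (g.fiberToSpecResidueField _) η
        have key : ∀ (y : Y) (_ : g.base (g.fiberι (g.base v') η) = y) (z : g.fiber y),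
            g.fiberι y z = g.fiberι (g.base v') η →
            Order.height z = Order.height (g.asFiber (g.fiberι (g.base v') η)) := by
          rintro _ rfl z hz
          rw [show z = g.asFiber _ from (g.fiberι _).isEmbedding.injective (hz.trans (g.fiberι_asFiber _).symm)]
        rw [← key _ (Groth.FibreDim.apply_fiberι g _ η) η rfl, ha, Nat.cast_le]
        rw [ha, Nat.cast_le] at hη
        omega

variable [LocallyOfFinitePresentation f]

/-- The points where `f` is flat and the fibre is `(S_k)` form an open set. -/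
theorem isOpen_flatAt_hasSk (k : ℕ) : IsOpen {x : X | (f.stalkMap x).hom.Flat ∧
    LocCoh.HasSk k ((f.fiber (f.base x)).presheaf.stalk (f.asFiber x)) ((f.fiber (f.base x)).presheaf.stalk (f.asFiber x))} := by
  let U : X.Opens := ⟨_, Groth.CMMor.isOpen_flatAt f⟩
  let F := Coh.structureModule X
  have hflat : ∀ x ∈ U, FlatMod.IsFlatOverAt f F x := fun x hx =>
    (Groth.Misc13.FlatBC.flat_stalkMap_iff_structure f x).2 hx
  let Bad : ℕ → Set X := fun τ => {x | ¬ (x ∈ U ∧
    ((suppAt f F _ (f.asFiber x) = ⊥ ∨ suppAt f F _ (f.asFiber x) = (depthAt f F _ (f.asFiber x) : WithBot ℕ∞)) ∨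
      ((τ + k : ℕ) : WithBot ℕ∞) ≤ (depthAt f F _ (f.asFiber x) : WithBot ℕ∞) + clDimAt f _ (f.asFiber x)))}
  have hBad : ∀ τ, IsClosed (Bad τ) := fun τ => by
    refine IsOpen.isClosed_compl ?_
    convert (isOpen_fibreLocus f F isFP_structureModule U hflat openOverAffine_isCohenMacaulay).union
      (isOpen_fibreLocus f F isFP_structureModule U hflat (openOverAffine_le_depth_add (τ + k))) using 1
    ext x
    simp only [Set.mem_ofPred_eq, Set.mem_union, and_or_left]
    exact Iff.rfl
  have hw : ∀ x ∈ U, (¬ LocCoh.HasSk k ((f.fiber (f.base x)).presheaf.stalk (f.asFiber x))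
      ((f.fiber (f.base x)).presheaf.stalk (f.asFiber x))) ↔
      ∃ τ : ℕ, x ∈ {x : X | ∃ w ∈ Bad τ, w ⤳ x ∧ f w = f x ∧ (τ : ℕ∞) ≤ Order.height (f.asFiber w)} := by
    intro x hxU
    rw [hasSk_stalk_iff, not_forall]
    have : IsLocallyNoetherian (f.fiber (f.base x)) :=
      LocallyOfFiniteType.isLocallyNoetherian (f.fiberToSpecResidueField (f.base x))
    have hclim : ∀ z : f.fiber (f.base x), clDimAt f _ z = ((Order.height z : ℕ∞) : WithBot ℕ∞) :=
      fun z => Groth.Variety2.Dim.dim_closure_singleton z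
    have htr : ∀ (w : X) (hfw : f w = f x) (Φ : ℕ∞ → WithBot ℕ∞ → WithBot ℕ∞ → Prop)
        (z : f.fiber (f.base x)), f.fiberι _ z = w →
        (Φ (depthAt f F _ z) (suppAt f F _ z) (clDimAt f _ z) ↔
          Φ (depthAt f F _ (f.asFiber w)) (suppAt f F _ (f.asFiber w)) (clDimAt f _ (f.asFiber w))) := by
      rintro w - Φ z rfl
      exact apply_asFiber_eq f F Φ _ z
    constructor
    · rintro ⟨z, hz⟩
      rw [Classical.not_imp] at hz
      obtain ⟨hzx, hbad⟩ := hz
      obtain ⟨τ, hτ⟩ : ∃ τ : ℕ, Order.height z = (τ : ℕ∞) :=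
        Groth.Variety2.Dim.exists_height_eq (k := Y.residueField (f.base x)) (f.fiberToSpecResidueField _) z
      have hsp : f.fiberι _ z ⤳ x := by
        have := hzx.map (f.fiberι _).continuous
        rwa [f.fiberι_asFiber] at this
      have hfz : f (f.fiberι _ z) = f x := Groth.FibreDim.apply_fiberι f _ z
      refine ⟨τ, f.fiberι _ z, fun hcon => hbad ?_, hsp, hfz, ?_⟩
      · have hc := (htr _ hfz (fun d s t => (s = ⊥ ∨ s = (d : WithBot ℕ∞)) ∨
          ((τ + k : ℕ) : WithBot ℕ∞) ≤ (d : WithBot ℕ∞) + t) z rfl).2 hcon.2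
        rw [(depthAt_suppAt_structure f _ z).1, (depthAt_suppAt_structure f _ z).2, hclim, hτ] at hc
        rw [Groth.Ega4b.SkLoc]
        rcases hc with (hc | hc) | hc
        · rw [hc]; simp
        · exact (min_le_right _ _).trans hc.le
        · refine (min_le_left _ _).trans ?_
          revert hc
          generalize LocCoh.depth ((f.fiber (f.base x)).presheaf.stalk z) ((f.fiber (f.base x)).presheaf.stalk z) = d
          cases d using ENat.recTopCoe with
          | top => exact fun _ => by simp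
          | coe d =>
            norm_cast
            omega
      · have e : clDimAt f _ (f.asFiber (f.fiberι _ z)) = clDimAt f _ z :=
          (apply_asFiber_eq f F (fun _ _ t => t = clDimAt f _ z) _ z).1 rfl
        rw [hclim, hτ, show clDimAt f _ (f.asFiber (f.fiberι _ z)) = _ from
          Groth.Variety2.Dim.dim_closure_singleton _] at e
        exact (WithBot.coe_inj.1 e).ge
    · rintro ⟨τ, w, hwBad, hwx, hfw, hτ⟩
      obtain ⟨z, rfl⟩ : w ∈ Set.range (f.fiberι (f.base x)) := (f.range_fiberι _).ge hfw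
      refine ⟨z, Classical.not_imp.2 ⟨?_, fun hsk => hwBad ⟨hwx.mem_open U.isOpen hxU, ?_⟩⟩⟩
      · refine (f.fiberι _).isEmbedding.toIsInducing.specializes_iff.1 ?_
        rwa [f.fiberι_asFiber]
      · refine (htr _ hfw (fun d s t => (s = ⊥ ∨ s = (d : WithBot ℕ∞)) ∨
          ((τ + k : ℕ) : WithBot ℕ∞) ≤ (d : WithBot ℕ∞) + t) z rfl).1 ?_
        have e : clDimAt f _ z = clDimAt f _ (f.asFiber (f.fiberι _ z)) :=
          (apply_asFiber_eq f F (fun _ _ t => t = clDimAt f _ (f.asFiber (f.fiberι _ z))) _ z).2 rfl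
        rw [hclim, show clDimAt f _ (f.asFiber (f.fiberι _ z)) = _ from
          Groth.Variety2.Dim.dim_closure_singleton _, WithBot.coe_inj] at e
        rw [← e] at hτ
        rw [(depthAt_suppAt_structure f _ z).1, (depthAt_suppAt_structure f _ z).2, hclim]
        rw [Groth.Ega4b.SkLoc, min_le_iff] at hsk
        rcases hsk with hsk | hsk
        · refine Or.inr (le_trans (le_of_eq ?_) (add_le_add hsk (WithBot.coe_le_coe.2 hτ)))
          rw [Nat.cast_add, add_comm]
          rfl
        · refine Or.inl (Or.inr (le_antisymm hsk ?_))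
          have := Groth.LocCohBase.depth_le_supportDim (R := (f.fiber (f.base x)).presheaf.stalk z)
            ((f.fiber (f.base x)).presheaf.stalk z)
          rwa [Module.supportDim_self_eq_ringKrullDim] at this
  rw [isOpen_iff_forall_mem_open]
  rintro x ⟨hxU, hx⟩
  obtain ⟨O, hO, hxO, -⟩ := exists_isAffineOpen_mem_and_subset (U := (⊤ : Y.Opens)) (x := f x) trivial
  obtain ⟨W, hW, hxW, hWle⟩ := exists_isAffineOpen_mem_and_subset (U := U ⊓ f ⁻¹ᵁ O) (x := x) ⟨hxU, hxO⟩
  obtain ⟨N, hN⟩ := Groth.FibreDim.exists_height_bound_of_affine f hO hW (hWle.trans inf_le_right)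
  let S : ℕ → Set X := fun τ => {x | ∃ w ∈ Bad τ, w ⤳ x ∧ f w = f x ∧ (τ : ℕ∞) ≤ Order.height (f.asFiber w)}
  have hS : ∀ x' ∈ W, (∀ τ ∈ Set.Iic N, x' ∈ (S τ)ᶜ) → LocCoh.HasSk k
      ((f.fiber (f.base x')).presheaf.stalk (f.asFiber x')) ((f.fiber (f.base x')).presheaf.stalk (f.asFiber x')) := by
    intro x' hx' hall
    by_contra hc
    obtain ⟨τ, w, hwB, hwx, hfw, hτ⟩ := (hw x' (hWle hx').1).1 hc
    have hwW : w ∈ W := hwx.mem_open W.isOpen hx'
    have hτN : (τ : ℕ∞) ≤ N := hτ.trans (hN _ (f.asFiber w) (by rw [f.fiberι_asFiber]; exact hwW))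
    exact hall τ (Nat.cast_le.1 hτN) ⟨w, hwB, hwx, hfw, hτ⟩
  refine ⟨(W : Set X) ∩ ⋂ τ ∈ Set.Iic N, (S τ)ᶜ, ?_,
    W.isOpen.inter ((Set.finite_Iic N).isOpen_biInter fun τ _ => (isClosed_exists_height_le f (hBad τ) τ).isOpen_compl),
    hxW, Set.mem_iInter₂.2 fun τ _ hc => (hw x hxU).2 ⟨τ, hc⟩ hx⟩
  rintro x' ⟨hx'W, hx'⟩
  exact ⟨(hWle hx'W).1, hS x' hx'W (Set.mem_iInter₂.1 hx')⟩

end Groth.Ega43FP2
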