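import Mathlib
import Groth.Agent.Ega43FP2.DepthScheme
import Groth.Agent.QCohMod.SupportPullback
import Groth.Agent.Misc3Fitt.Local
import Groth.Agent.FibreDim.Constructible
import Groth.Agent.FibreDim.OpenFibre

/-!
# The dimension of the support of the fibres of a flat module
-/

set_option autoImplicit false
universe u

open CategoryTheory AlgebraicGeometry
open scoped TensorProduct

set_option synthInstance.maxHeartbeats 400000
set_option maxHeartbeats 3200000
set_option linter.unusedSectionVars false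
set_option linter.unusedVariables false

namespace Groth.Ega43FP2

/-- The support of a flat finitely presented module has open image. -/
theorem isOpen_image_support {A B : Type u} [CommRing A] [CommRing B] [Algebra A B] [Algebra.FinitePresentation A B]
    (M : Type u) [AddCommGroup M] [Module B M] [Module A M] [IsScalarTower A B M] [Module.FinitePresentation B M]
    [Module.Flat A M] : IsOpen (PrimeSpectrum.comap (algebraMap A B) '' Module.support B M) := by
  have hsupp : Module.support B M = PrimeSpectrum.zeroLocus (Fitt.ideal B M 0 : Set B) := by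
    ext P
    rw [PrimeSpectrum.mem_zeroLocus, Module.mem_support_iff]
    refine ⟨fun h => by_contra fun hle => ?_, fun hle => by_contra fun h => ?_⟩
    · obtain ⟨g, hg⟩ := (Groth.Misc3Fitt.not_le_prime_iff_exists_span_atPrime P.asIdeal).1 hle
      rw [Set.range_eq_empty, Submodule.span_empty] at hg
      have := (Submodule.subsingleton_iff _).1 (subsingleton_of_bot_eq_top hg)
      exact not_nontrivial _ h
    · rw [not_nontrivial_iff_subsingleton] at h
      exact (Groth.Misc3Fitt.not_le_prime_iff_exists_span_atPrime P.asIdeal).2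
        ⟨Fin.elim0, Subsingleton.elim _ _⟩ hle
  refine PrimeSpectrum.isOpen_of_stableUnderGeneralization_of_isConstructible ?_ ?_
  · intro p p' hpp' hp
    obtain ⟨P, hP, rfl⟩ := hp
    have hle : p'.asIdeal ≤ P.asIdeal.under A := (PrimeSpectrum.le_iff_specializes _ _).2 hpp'
    let Br := Localization.AtPrime P.asIdeal
    let MP := Br ⊗[B] M
    have hflat : Module.Flat A MP :=
      Groth.Flatmor4.flat_of_isLocalizedModule_tower P.asIdeal.primeCompl (TensorProduct.mk B Br M 1)
    have hnt : Nontrivial MP :=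
      (IsLocalizedModule.linearEquiv P.asIdeal.primeCompl (TensorProduct.mk B Br M 1)
        (LocalizedModule.mkLinearMap P.asIdeal.primeCompl M)).toEquiv.nontrivial_congr.2
        ((Module.mem_support_iff).1 hP)
    let ι : (A ⧸ p'.asIdeal) →ₗ[A] p'.asIdeal.ResidueField :=
      (IsScalarTower.toAlgHom A (A ⧸ p'.asIdeal) p'.asIdeal.ResidueField).toLinearMap
    have hι : Function.Injective ι := IsFractionRing.injective (A ⧸ p'.asIdeal) p'.asIdeal.ResidueField
    have h1 : Nontrivial (MP ⊗[A] (A ⧸ p'.asIdeal)) := by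
      rw [(TensorProduct.tensorQuotEquivQuotSMul MP p'.asIdeal).toEquiv.nontrivial_congr,
        Submodule.Quotient.nontrivial_iff]
      intro htop
      have h2 : (⊤ : Submodule Br MP) ≤ IsLocalRing.maximalIdeal Br • (⊤ : Submodule Br MP) := by
        intro x _
        have hx : x ∈ p'.asIdeal • (⊤ : Submodule A MP) := htop.symm ▸ Submodule.mem_top
        refine Submodule.smul_induction_on hx (fun r hr n _ => ?_) (fun x y hx hy => add_mem hx hy)
        rw [← algebraMap_smul Br r n]
        refine Submodule.smul_mem_smul ?_ Submodule.mem_top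
        rw [IsScalarTower.algebraMap_apply A B Br]
        exact (IsLocalization.AtPrime.to_map_mem_maximal_iff Br P.asIdeal _).2 (hle hr)
      exact top_ne_bot (α := Submodule Br MP) (Submodule.eq_bot_of_le_smul_of_le_jacobson_bot _ _
        Module.Finite.fg_top h2 (IsLocalRing.maximalIdeal_le_jacobson _))
    have h2 : Nontrivial (MP ⊗[A] p'.asIdeal.ResidueField) :=
      (Module.Flat.lTensor_preserves_injective_linearMap (M := MP) ι hι).nontrivial
    let C := Br ⊗[A] p'.asIdeal.ResidueField
    have h3 : Nontrivial (C ⊗[Br] MP) := (bcSwap MP).toEquiv.nontrivial_congr.2 h2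
    obtain ⟨Q, hQ⟩ := Module.nonempty_support_of_nontrivial (R := C) (M := C ⊗[Br] MP)
    rw [Groth.Agent.S6284.result, Set.mem_preimage, Groth.Agent.S6284.result, Set.mem_preimage] at hQ
    refine ⟨_, hQ, PrimeSpectrum.ext ?_⟩
    ext a
    show algebraMap Br C (algebraMap B Br (algebraMap A B a)) ∈ Q.asIdeal ↔ a ∈ p'.asIdeal
    rw [← IsScalarTower.algebraMap_apply A B Br, ← IsScalarTower.algebraMap_apply A Br C]
    have he : algebraMap A C a =
        (Algebra.TensorProduct.includeRight : p'.asIdeal.ResidueField →ₐ[A] C) (algebraMap A _ a) :=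
      (AlgHom.commutes _ a).symm
    rw [he]
    constructor
    · intro ha
      by_contra hap
      refine Q.isPrime.ne_top (Ideal.eq_top_of_isUnit_mem _ ha (IsUnit.map _ ?_))
      rw [isUnit_iff_ne_zero, ne_eq, Ideal.algebraMap_residueField_eq_zero]
      exact hap
    · intro hap
      rw [Ideal.algebraMap_residueField_eq_zero.2 hap, map_zero]
      exact Q.asIdeal.zero_mem
  · refine PrimeSpectrum.isConstructible_comap_image (RingHom.finitePresentation_algebraMap.2 ‹_›) ?_
    rw [hsupp]
    exact ((PrimeSpectrum.isRetrocompact_zeroLocus_compl_of_fg (Groth.Misc3Fitt.ideal_fg 0)).isConstructible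
      (PrimeSpectrum.isClosed_zeroLocus _).isOpen_compl).of_compl

variable {X Y : Scheme.{u}} (f : X ⟶ Y) (F : X.Modules)

/-- The points of a fibre in the support. -/
abbrev suppFib (y : Y) : Set ↥(f.fiber y) :=
  {z | Nontrivial (((Scheme.Modules.pullback (f.fiberι y)).obj F).presheaf.stalk z)}

theorem suppFib_eq [F.IsQuasicoherent] (hF : CohB1.IsFT F) (y : Y) :
    suppFib f F y = (f.fiberι y) ⁻¹' CohB1.support F := by
  rw [← Groth.QCohMod.support_pullback (f.fiberι y) F hF]
  ext z
  exact not_subsingleton_iff_nontrivial.symm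

variable [F.IsQuasicoherent]

theorem isClosed_support (hF : CohB1.IsFT F) : IsClosed (CohB1.support F) := by
  rw [← isOpen_compl_iff, isOpen_iff_forall_mem_open]
  intro x hx
  obtain ⟨U, hU, hxU, -⟩ := exists_isAffineOpen_mem_and_subset (U := (⊤ : X.Opens)) (x := x) trivial
  let G := Γ(F, U)
  have : Module.Finite Γ(X, U) G := Groth.QCohMod.finite_sections F hF hU
  have key : ∀ (x : X) (hxU : x ∈ U), x ∉ CohB1.support F ↔
      hU.primeIdealOf ⟨x, hxU⟩ ∈ (Module.support Γ(X, U) G)ᶜ := by
    intro x hxU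
    let := Groth.QCohMod.stalkModule F x hxU
    have := Groth.QCohMod.isLocalizedModule_germ F hU x hxU
    rw [Set.mem_compl_iff, Module.notMem_support_iff]
    refine not_not.trans ?_
    exact (IsLocalizedModule.linearEquiv (hU.primeIdealOf ⟨x, hxU⟩).asIdeal.primeCompl
      (Groth.QCohMod.germₗ F x hxU) (LocalizedModule.mkLinearMap _ G)).toEquiv.subsingleton_congr
  have hc : IsOpen ((fun w : ↥U => hU.primeIdealOf w) ⁻¹' (Module.support Γ(X, U) G)ᶜ) := by
    refine IsOpen.preimage hU.isoSpec.hom.continuous ?_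
    rw [Module.support_eq_zeroLocus]
    exact (PrimeSpectrum.isClosed_zeroLocus _).isOpen_compl
  refine ⟨Subtype.val '' _, ?_, U.isOpen.isOpenMap_subtype_val _ hc, ⟨⟨x, hxU⟩, (key x hxU).1 hx, rfl⟩⟩
  rintro _ ⟨w, hw, rfl⟩
  exact (key _ w.2).2 hw

variable [LocallyOfFinitePresentation f]

/-- The image of an open part of the support is open. -/
theorem isOpen_image_inter_support (hF : CohB1.IsFP F) (hflat : FlatMod.IsFlatOver f F) (V : X.Opens) :
    IsOpen (f.base '' ((V : Set X) ∩ CohB1.support F)) := by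
  rw [isOpen_iff_forall_mem_open]
  rintro _ ⟨x, ⟨hxV, hx⟩, rfl⟩
  obtain ⟨O, hO, hxO, -⟩ := exists_isAffineOpen_mem_and_subset (U := (⊤ : Y.Opens)) (x := f x) trivial
  obtain ⟨W, hW, hxW, hWle⟩ := exists_isAffineOpen_mem_and_subset (U := V ⊓ f ⁻¹ᵁ O) (x := x) ⟨hxV, hxO⟩
  have hWO : W ≤ f ⁻¹ᵁ O := hWle.trans inf_le_right
  let : Algebra Γ(Y, O) Γ(X, W) := (f.appLE O W hWO).hom.toAlgebra
  let := Groth.Flatmor4.sectionModule f F hWO
  have : IsScalarTower Γ(Y, O) Γ(X, W) Γ(F, W) := IsScalarTower.of_algebraMap_smul fun _ _ => rfl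
  have : Algebra.FinitePresentation Γ(Y, O) Γ(X, W) := f.finitePresentation_appLE hO hW hWO
  have hflatG : Module.Flat Γ(Y, O) Γ(F, W) :=
    (Groth.Flatmor4.flat_sections_iff f F hW hO hWO).2 fun z _ => hflat z
  have : Module.FinitePresentation Γ(X, W) Γ(F, W) := Groth.Flatmor4.finitePresentation_sections_of_isFP F hF hW
  have hopen := hO.fromSpec.isOpenEmbedding.isOpenMap _ (isOpen_image_support (A := Γ(Y, O)) (B := Γ(X, W)) Γ(F, W))
  have key : ∀ w (hw : w ∈ W), w ∈ CohB1.support F ↔
      hW.primeIdealOf ⟨w, hw⟩ ∈ Module.support Γ(X, W) Γ(F, W) := by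
    intro w hw
    let := Groth.QCohMod.stalkModule F w hw
    have := Groth.QCohMod.isLocalizedModule_germ F hW w hw
    rw [Module.mem_support_iff]
    refine not_subsingleton_iff_nontrivial.trans ?_
    exact (IsLocalizedModule.linearEquiv (hW.primeIdealOf ⟨w, hw⟩).asIdeal.primeCompl
      (Groth.QCohMod.germₗ F w hw) (LocalizedModule.mkLinearMap _ Γ(F, W))).toEquiv.nontrivial_congr
  have hcomm : ∀ Q, f.base (hW.fromSpec.base Q) =
      hO.fromSpec.base (PrimeSpectrum.comap (algebraMap Γ(Y, O) Γ(X, W)) Q) := fun Q => by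
    rw [← Scheme.Hom.comp_apply, ← hO.SpecMap_appLE_fromSpec f hW hWO]
    rfl
  refine ⟨_, ?_, hopen, ⟨_, ⟨hW.primeIdealOf ⟨x, hxW⟩, (key x hxW).1 hx, rfl⟩, ?_⟩⟩
  · rintro _ ⟨_, ⟨Q, hQ, rfl⟩, rfl⟩
    have hw : hW.fromSpec Q ∈ W := hW.range_fromSpec.subset ⟨_, rfl⟩
    refine ⟨hW.fromSpec Q, ⟨(hWle hw).1, (key _ hw).2 ?_⟩, hcomm Q⟩
    rwa [show hW.primeIdealOf ⟨_, hw⟩ = Q from hW.fromSpec.isOpenEmbedding.injective (hW.fromSpec_primeIdealOf _)]
  · rw [← hcomm, hW.fromSpec_primeIdealOf]

omit [LocallyOfFinitePresentation f] in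
/-- At a maximal point of the support of a fibre the stalk has zero-dimensional support. -/
theorem suppAt_eq_zero (hF : CohB1.IsFT F) {y : Y} {z : f.fiber y} (hz : z ∈ suppFib f F y)
    (hmax : ∀ w ∈ suppFib f F y, w ⤳ z → w = z) : suppAt f F y z = 0 := by
  obtain ⟨W, hW, hxW, -⟩ := exists_isAffineOpen_mem_and_subset (U := (⊤ : X.Opens)) (x := f.fiberι y z) trivial
  let := Groth.SchDom.secAlg (f.fiberι y) z hxW
  obtain ⟨θ⟩ := Groth.SchDom.nonempty_pullStalk_equiv (f.fiberι y) F hW z hxW
  have : Module.Finite Γ(X, W) Γ(F, W) := Groth.QCohMod.finite_sections F hF hW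
  let R0 := (f.fiber y).presheaf.stalk z
  have hnt : Nontrivial (R0 ⊗[Γ(X, W)] Γ(F, W)) := θ.toEquiv.nontrivial_congr.2 hz
  show Module.supportDim R0 _ = 0
  rw [← Module.supportDim_eq_of_equiv θ]
  refine le_antisymm ?_ ?_
  · refine Order.krullDim_nonpos_iff_forall_isMax.2 fun P Q hPQ => ?_
    have key : ∀ P : PrimeSpectrum R0, P ∈ Module.support R0 (R0 ⊗[Γ(X, W)] Γ(F, W)) →
        P = IsLocalRing.closedPoint R0 := by
      intro P hP
      rw [Groth.Agent.S6284.result, Set.mem_preimage] at hP
      let w := (f.fiber y).fromSpecStalk z P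
      have hw : w ⤳ z := by
        have : w ∈ Set.range ((f.fiber y).fromSpecStalk z).base := ⟨P, rfl⟩
        rw [Scheme.range_fromSpecStalk] at this
        exact this
      have hcomm : f.fiberι y w = hW.fromSpec (PrimeSpectrum.comap (algebraMap Γ(X, W) R0) P) := by
        show ((f.fiber y).fromSpecStalk z ≫ f.fiberι y) P = _
        rw [← Scheme.SpecMap_stalkMap_fromSpecStalk, ← hW.fromSpecStalk_eq_fromSpecStalk hxW]
        rfl
      have hwW : f.fiberι y w ∈ W := hcomm ▸ hW.range_fromSpec.subset ⟨_, rfl⟩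
      have hsw : w ∈ suppFib f F y := by
        rw [suppFib_eq f F hF, Set.mem_preimage]
        let := Groth.QCohMod.stalkModule F _ hwW
        have := Groth.QCohMod.isLocalizedModule_germ F hW _ hwW
        refine not_subsingleton_iff_nontrivial.2 ?_
        refine (IsLocalizedModule.linearEquiv (hW.primeIdealOf ⟨_, hwW⟩).asIdeal.primeCompl
          (Groth.QCohMod.germₗ F _ hwW)
          (LocalizedModule.mkLinearMap (hW.primeIdealOf ⟨_, hwW⟩).asIdeal.primeCompl Γ(F, W))).toEquiv.nontrivial_congr.2 ?_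
        refine Module.mem_support_iff.1 ?_
        rwa [show hW.primeIdealOf ⟨_, hwW⟩ = PrimeSpectrum.comap (algebraMap Γ(X, W) R0) P from
          hW.fromSpec.isOpenEmbedding.injective ((hW.fromSpec_primeIdealOf _).trans hcomm)]
      exact ((f.fiber y).fromSpecStalk z).isEmbedding.injective
        ((hmax w hsw hw).trans Scheme.fromSpecStalk_closedPoint.symm)
    rw [Subtype.ext ((key Q.1 Q.2).trans (key P.1 P.2).symm)]
  · obtain ⟨P, hP⟩ := Module.nonempty_support_of_nontrivial (R := R0) (M := R0 ⊗[Γ(X, W)] Γ(F, W))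
    have : Nonempty (Module.support R0 (R0 ⊗[Γ(X, W)] Γ(F, W))) := ⟨⟨P, hP⟩⟩
    exact Order.krullDim_nonneg

/-- Above every point of the support there is a maximal one. -/
theorem exists_max_above (hF : CohB1.IsFT F) {y : Y} {z : f.fiber y} (hz : z ∈ suppFib f F y) :
    ∃ w ∈ suppFib f F y, w ⤳ z ∧ ∀ w' ∈ suppFib f F y, w' ⤳ w → w' = w := by
  classical
  have : LocallyOfFiniteType (f.fiberToSpecResidueField y) :=
    inferInstanceAs (LocallyOfFiniteType (Limits.pullback.snd f (Y.fromSpecResidueField y)))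
  have : IsLocallyNoetherian (f.fiber y) :=
    LocallyOfFiniteType.isLocallyNoetherian (f.fiberToSpecResidueField y)
  have hfin : ∀ w : f.fiber y, ∃ c : ℕ, Order.coheight w = (c : ℕ∞) := fun w =>
    Groth.FibreDim.exists_coheight_eq_natCast w
  choose c hc using hfin
  have hex : ∃ m, ∃ w ∈ suppFib f F y, w ⤳ z ∧ c w = m := ⟨c z, z, hz, specializes_rfl, rfl⟩
  obtain ⟨w, hw, hwz, hcw⟩ := Nat.find_spec hex
  refine ⟨w, hw, hwz, fun w' hw' hsp => ?_⟩
  by_contra hne
  have hlt : w < w' := lt_of_le_not_ge (Scheme.le_iff_specializes.2 hsp)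
    fun h => hne ((hsp.antisymm (Scheme.le_iff_specializes.1 h)).eq)
  have h1 := Order.coheight_add_one_le hlt
  rw [hc, hc] at h1
  have h2 : c w' + 1 ≤ c w := by exact_mod_cast h1
  exact Nat.find_min hex (show c w' < Nat.find hex by omega) ⟨w', hw', hsp.trans hwz, rfl⟩

/-- Dimension of the support of a fibre. -/
theorem dim_suppFib (hF : CohB1.IsFT F) (y : Y) :
    topologicalKrullDim ↥(suppFib f F y) = ⨆ z ∈ suppFib f F y, ((Order.height z : ℕ∞) : WithBot ℕ∞) := by
  refine Groth.Variety2.Dim.dim_closed ?_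
  rw [suppFib_eq f F hF]
  exact (isClosed_support F hF).preimage (f.fiberι y).continuous

/-- Upper semicontinuity. -/
theorem isOpen_dim_suppFib_le (hf : IsClosedMap f.base) (hF : CohB1.IsFT F) (c : WithBot ℕ∞) :
    IsOpen {y : Y | topologicalKrullDim ↥(suppFib f F y) ≤ c} := by
  let C : TopologicalSpace.Closeds ↥X := ⟨CohB1.support F, isClosed_support F hF⟩
  let I := Scheme.IdealSheafData.vanishingIdeal C
  let ι := I.subschemeι
  have hrange : Set.range ι.base = CohB1.support F := by
    rw [Scheme.IdealSheafData.range_subschemeι]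
    exact Scheme.IdealSheafData.coe_support_vanishingIdeal C
  convert Groth.FibreDim.isOpen_dim_fiber_le (ι ≫ f) (hf.comp ι.isClosedEmbedding.isClosedMap) c using 1
  ext y
  suffices h : topologicalKrullDim ↥(suppFib f F y) = topologicalKrullDim ↥((ι ≫ f).fiber y) by
    simp only [Set.mem_ofPred_eq, h]
  let e₁ : ↥(suppFib f F y) → X := fun z => f.fiberι y z.1
  let e₂ : ↥((ι ≫ f).fiber y) → X := fun v => ι ((ι ≫ f).fiberι y v)
  have he₁ : Topology.IsEmbedding e₁ := (f.fiberι y).isEmbedding.comp Topology.IsEmbedding.subtypeVal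
  have he₂ : Topology.IsEmbedding e₂ := ι.isClosedEmbedding.isEmbedding.comp ((ι ≫ f).fiberι y).isEmbedding
  have hr : Set.range e₁ = Set.range e₂ := by
    ext x
    constructor
    · rintro ⟨⟨z, hz⟩, rfl⟩
      rw [suppFib_eq f F hF, Set.mem_preimage, ← hrange] at hz
      obtain ⟨v, hv⟩ := hz
      obtain ⟨v', rfl⟩ : v ∈ Set.range ((ι ≫ f).fiberι y) := by
        rw [(ι ≫ f).range_fiberι, Set.mem_preimage, Set.mem_singleton_iff, Scheme.Hom.comp_apply, hv]
        exact Groth.FibreDim.apply_fiberι f y z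
      exact ⟨v', hv⟩
    · rintro ⟨v, rfl⟩
      have hy : f (e₂ v) = y := Groth.FibreDim.apply_fiberι (ι ≫ f) y v
      obtain ⟨z, hz⟩ : e₂ v ∈ Set.range (f.fiberι y) := (f.range_fiberι y).ge hy
      refine ⟨⟨z, ?_⟩, hz⟩
      rw [suppFib_eq f F hF, Set.mem_preimage, hz, ← hrange]
      exact ⟨_, rfl⟩
  exact (he₁.toHomeomorph.trans ((Homeomorph.setCongr hr).trans he₂.toHomeomorph.symm)).isHomeomorph.topologicalKrullDim_eq

/-- Lower semicontinuity. -/
theorem isOpen_lt_dim_suppFib [QuasiCompact f] (hF : CohB1.IsFP F) (hflat : FlatMod.IsFlatOver f F)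
    (c : WithBot ℕ∞) : IsOpen {y : Y | c < topologicalKrullDim ↥(suppFib f F y)} := by
  have hFT : CohB1.IsFT F := inferInstance
  cases c with
  | bot =>
    convert isOpen_image_inter_support f F hF hflat ⊤ using 1
    ext y
    rw [Set.mem_ofPred_eq, dim_suppFib f F hFT, lt_iSup_iff]
    constructor
    · rintro ⟨z, hz⟩
      obtain ⟨hz', -⟩ := lt_iSup_iff.1 hz
      rw [suppFib_eq f F hFT] at hz'
      exact ⟨_, ⟨trivial, hz'⟩, Groth.FibreDim.apply_fiberι f y z⟩
    · rintro ⟨x, ⟨-, hx⟩, rfl⟩
      refine ⟨f.asFiber x, lt_iSup_iff.2 ⟨?_, WithBot.bot_lt_coe _⟩⟩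
      rw [suppFib_eq f F hFT, Set.mem_preimage, f.fiberι_asFiber]
      exact hx
  | coe c =>
    cases c using ENat.recTopCoe with
    | top =>
      convert isOpen_empty
      ext y
      simp only [Set.mem_ofPred_eq, Set.mem_empty_iff_false, iff_false]
      exact not_lt.2 le_top
    | coe n =>
      let V : X.Opens := ⟨_, (isOpen_fibreLocus f F hF ⊤ (fun x _ => hflat x) openOverAffine_isCohenMacaulay).inter
        (isOpen_fibreLocus f F hF ⊤ (fun x _ => hflat x) (openOverAffine_le_depth_add (n + 1)))⟩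
      convert isOpen_image_inter_support f F hF hflat V using 1
      ext y
      rw [Set.mem_ofPred_eq, dim_suppFib f F hFT]
      have hcl : ∀ z : f.fiber y, clDimAt f y z = ((Order.height z : ℕ∞) : WithBot ℕ∞) :=
        fun z => Groth.Variety2.Dim.dim_closure_singleton z
      have hdepth : ∀ (z : f.fiber y), z ∈ suppFib f F y → (∀ w ∈ suppFib f F y, w ⤳ z → w = z) →
          suppAt f F y z = 0 ∧ depthAt f F y z = 0 := by
        intro z hz hmax
        have hs := suppAt_eq_zero f F hFT hz hmax
        refine ⟨hs, ?_⟩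
        have : IsLocallyNoetherian (f.fiber y) :=
          LocallyOfFiniteType.isLocallyNoetherian (f.fiberToSpecResidueField y)
        have hnt : Nontrivial (((Scheme.Modules.pullback (f.fiberι y)).obj F).presheaf.stalk z) := hz
        have : Module.Finite ((f.fiber y).presheaf.stalk z)
            (((Scheme.Modules.pullback (f.fiberι y)).obj F).presheaf.stalk z) := by
          obtain ⟨W, hW, hxW, -⟩ := exists_isAffineOpen_mem_and_subset (U := (⊤ : X.Opens)) (x := f.fiberι y z) trivial
          let := Groth.SchDom.secAlg (f.fiberι y) z hxW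
          obtain ⟨θ⟩ := Groth.SchDom.nonempty_pullStalk_equiv (f.fiberι y) F hW z hxW
          have : Module.Finite Γ(X, W) Γ(F, W) := Groth.QCohMod.finite_sections F hFT hW
          exact Module.Finite.equiv θ
        have h := (Groth.LocCohBase.depth_le_supportDim (R := (f.fiber y).presheaf.stalk z)
          (((Scheme.Modules.pullback (f.fiberι y)).obj F).presheaf.stalk z)).trans hs.le
        exact le_antisymm (WithBot.coe_le_coe.1 h) bot_le
      constructor
      · intro h
        obtain ⟨z, hz⟩ := lt_iSup_iff.1 h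
        obtain ⟨hz', hlt⟩ := lt_iSup_iff.1 hz
        obtain ⟨w, hw, hwz, hmax⟩ := exists_max_above f F hFT hz'
        obtain ⟨hs, hd⟩ := hdepth w hw hmax
        have hht : ((n + 1 : ℕ) : ℕ∞) ≤ Order.height w := by
          refine le_trans ?_ (Order.height_mono (Scheme.le_iff_specializes.2 hwz))
          rw [WithBot.coe_lt_coe] at hlt
          push_cast
          exact Order.add_one_le_of_lt hlt
        refine ⟨f.fiberι y w, ⟨⟨?_, ?_⟩, ?_⟩, Groth.FibreDim.apply_fiberι f y w⟩
        · refine ⟨trivial, (apply_asFiber_eq f F (fun d s _ => s = ⊥ ∨ s = (d : WithBot ℕ∞)) y w).1 (Or.inr ?_)⟩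
          rw [hs, hd]
          rfl
        · refine ⟨trivial, (apply_asFiber_eq f F (fun d _ t => ((n + 1 : ℕ) : WithBot ℕ∞) ≤ (d : WithBot ℕ∞) + t) y w).1 ?_⟩
          rw [hd, hcl, ← WithBot.coe_add, zero_add, ← WithBot.coe_natCast, WithBot.coe_le_coe]
          exact hht
        · have := hw
          rwa [suppFib_eq f F hFT] at this
      · rintro ⟨x, ⟨hxV, hx⟩, rfl⟩
        have hz : f.asFiber x ∈ suppFib f F (f.base x) := by
          rw [suppFib_eq f F hFT, Set.mem_preimage, f.fiberι_asFiber]; exact hx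
        obtain ⟨w, hw, hwz, hmax⟩ := exists_max_above f F hFT hz
        have hwV : f.fiberι _ w ∈ V := by
          refine (hwz.map (f.fiberι _).continuous).mem_open V.isOpen ?_
          rwa [f.fiberι_asFiber]
        obtain ⟨hs, hd⟩ := hdepth w hw hmax
        have h2 := (apply_asFiber_eq f F (fun d _ t => ((n + 1 : ℕ) : WithBot ℕ∞) ≤ (d : WithBot ℕ∞) + t) _ w).2 hwV.2.2
        rw [hd, hcl, ← WithBot.coe_add, zero_add, ← WithBot.coe_natCast, WithBot.coe_le_coe] at h2
        refine lt_iSup_iff.2 ⟨w, lt_iSup_iff.2 ⟨hw, WithBot.coe_lt_coe.2 (lt_of_lt_of_le ?_ h2)⟩⟩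
        exact Nat.cast_lt.2 n.lt_succ_self

/-- The dimension of the support of the fibres is locally constant. -/
theorem isLocallyConstant_dim_suppFib [QuasiCompact f] (hf : IsClosedMap f.base) (hF : CohB1.IsFP F)
    (hflat : FlatMod.IsFlatOver f F) : IsLocallyConstant fun y : Y => topologicalKrullDim ↥(suppFib f F y) := by
  have hFT : CohB1.IsFT F := inferInstance
  rw [IsLocallyConstant.iff_eventually_eq]
  intro y
  have hle : ∀ᶠ y' in nhds y, topologicalKrullDim ↥(suppFib f F y') ≤ topologicalKrullDim ↥(suppFib f F y) :=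
    (isOpen_dim_suppFib_le f F hf hFT _).mem_nhds (show topologicalKrullDim ↥(suppFib f F y) ≤ _ from le_rfl)
  have hlt : ∀ c < topologicalKrullDim ↥(suppFib f F y), ∀ᶠ y' in nhds y,
      c < topologicalKrullDim ↥(suppFib f F y') :=
    fun c hc => (isOpen_lt_dim_suppFib f F hF hflat c).mem_nhds hc
  cases hd : topologicalKrullDim ↥(suppFib f F y) with
  | bot =>
    rw [hd] at hle
    exact hle.mono fun y' h => le_bot_iff.1 h
  | coe d =>
    rw [hd] at hle hlt
    cases d using ENat.recTopCoe with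
    | top =>
      exfalso
      refine Groth.FibreDim.dim_fiber_ne_top f y (top_unique (le_trans (le_of_eq hd.symm) ?_))
      exact Topology.IsInducing.subtypeVal.topologicalKrullDim_le
    | coe n =>
      cases n with
      | zero =>
        filter_upwards [hle, hlt ⊥ (WithBot.bot_lt_coe _)] with y' h1 h2
        refine le_antisymm h1 ?_
        revert h2
        generalize topologicalKrullDim ↥(suppFib f F y') = e
        intro h2
        obtain ⟨e', rfl⟩ := WithBot.ne_bot_iff_exists.1 h2.ne'
        exact WithBot.coe_le_coe.2 zero_le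
      | succ n =>
        filter_upwards [hle, hlt ((n : ℕ∞) : WithBot ℕ∞) (WithBot.coe_lt_coe.2 (Nat.cast_lt.2 n.lt_succ_self))] with y' h1 h2
        refine le_antisymm h1 ?_
        revert h2
        generalize topologicalKrullDim ↥(suppFib f F y') = e
        intro h2
        obtain ⟨e', rfl⟩ := WithBot.ne_bot_iff_exists.1 (bot_le.trans_lt h2).ne'
        rw [WithBot.coe_lt_coe] at h2
        refine WithBot.coe_le_coe.2 ?_
        push_cast
        exact Order.add_one_le_of_lt h2

end Groth.Ega43FP2
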