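import Mathlib
import Groth.Agent.Ega43FP2.SuppDim
import Groth.Agent.Ega43FP2.SkScheme
import Groth.Agent.S5752
import Groth.Agent.PropsBasic2.SchTop
import Groth.Prelude.Def_FDesc

/-!
# Associated points and `(S_k)` of the fibres of a flat module
-/

set_option autoImplicit false
universe u

open CategoryTheory AlgebraicGeometry
open scoped TensorProduct

set_option synthInstance.maxHeartbeats 400000
set_option maxHeartbeats 3200000
set_option linter.unusedSectionVars false
set_option linter.unusedVariables false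

namespace Groth.Ega43FP2

/-- The localization of a local ring of a scheme at a prime is the local ring at the generization. -/
theorem exists_localization_equiv {Z : Scheme.{u}} (z : Z) (p : Ideal (Z.presheaf.stalk z)) [hp : p.IsPrime]
    (h : Z.fromSpecStalk z ⟨p, hp⟩ ⤳ z) :
    ∃ e : Localization.AtPrime p ≃+* Z.presheaf.stalk (Z.fromSpecStalk z ⟨p, hp⟩),
      ∀ c, e (algebraMap _ (Localization.AtPrime p) c) = Z.presheaf.stalkSpecializes h c := by
  obtain ⟨V, hV, hzV, -⟩ := exists_isAffineOpen_mem_and_subset (U := (⊤ : Z.Opens)) (x := z) trivial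
  set w : Z := Z.fromSpecStalk z ⟨p, hp⟩ with hw
  have hwV : w ∈ V := h.mem_open V.isOpen hzV
  let : Algebra Γ(Z, V) (Z.presheaf.stalk z) := (Z.presheaf.germ V z hzV).hom.toAlgebra
  have hlz : IsLocalization.AtPrime (Z.presheaf.stalk z) (hV.primeIdealOf ⟨z, hzV⟩).asIdeal :=
    hV.isLocalization_stalk ⟨z, hzV⟩
  let : Algebra Γ(Z, V) (Z.presheaf.stalk w) := (Z.presheaf.germ V w hwV).hom.toAlgebra
  have hlw : IsLocalization.AtPrime (Z.presheaf.stalk w) (hV.primeIdealOf ⟨w, hwV⟩).asIdeal :=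
    hV.isLocalization_stalk ⟨w, hwV⟩
  have he : hV.primeIdealOf ⟨w, hwV⟩ = PrimeSpectrum.comap (algebraMap Γ(Z, V) (Z.presheaf.stalk z)) ⟨p, hp⟩ := by
    apply hV.fromSpec.isOpenEmbedding.injective
    rw [hV.fromSpec_primeIdealOf]
    show w = (Spec.map (Z.presheaf.germ V z hzV) ≫ hV.fromSpec) ⟨p, hp⟩
    rw [hw, ← hV.fromSpecStalk_eq_fromSpecStalk hzV]
    rfl
  have hl : IsLocalization.AtPrime (Localization.AtPrime p) (p.comap (algebraMap Γ(Z, V) (Z.presheaf.stalk z))) :=
    IsLocalization.isLocalization_isLocalization_atPrime_isLocalization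
      (hV.primeIdealOf ⟨z, hzV⟩).asIdeal.primeCompl _ p
  have hl' : IsLocalization (hV.primeIdealOf ⟨w, hwV⟩).asIdeal.primeCompl (Localization.AtPrime p) := by
    have : (hV.primeIdealOf ⟨w, hwV⟩).asIdeal.primeCompl =
        (p.comap (algebraMap Γ(Z, V) (Z.presheaf.stalk z))).primeCompl := by
      ext a
      show a ∉ _ ↔ a ∉ _
      rw [he]
      rfl
    rw [this]
    exact hl
  let e := IsLocalization.algEquiv (hV.primeIdealOf ⟨w, hwV⟩).asIdeal.primeCompl (Localization.AtPrime p)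
    (Z.presheaf.stalk w)
  refine ⟨e.toRingEquiv, fun c => ?_⟩
  have hext : e.toRingEquiv.toRingHom.comp (algebraMap (Z.presheaf.stalk z) (Localization.AtPrime p)) =
      (Z.presheaf.stalkSpecializes h).hom := by
    refine IsLocalization.ringHom_ext (hV.primeIdealOf ⟨z, hzV⟩).asIdeal.primeCompl (RingHom.ext fun b => ?_)
    show e (algebraMap _ (Localization.AtPrime p) (algebraMap Γ(Z, V) (Z.presheaf.stalk z) b)) = _
    rw [← IsScalarTower.algebraMap_apply, AlgEquiv.commutes]
    exact (TopCat.Presheaf.germ_stalkSpecializes_apply Z.presheaf hzV h b).symm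
  exact RingHom.congr_fun hext c

variable {X Y : Scheme.{u}} (f : X ⟶ Y) (F : X.Modules) [F.IsQuasicoherent]

theorem finite_fibre_stalk (hF : CohB1.IsFT F) (y : Y) (z : f.fiber y) :
    Module.Finite ((f.fiber y).presheaf.stalk z) (((Scheme.Modules.pullback (f.fiberι y)).obj F).presheaf.stalk z) := by
  obtain ⟨W, hW, hxW, -⟩ := exists_isAffineOpen_mem_and_subset (U := (⊤ : X.Opens)) (x := f.fiberι y z) trivial
  let := Groth.SchDom.secAlg (f.fiberι y) z hxW
  obtain ⟨θ⟩ := Groth.SchDom.nonempty_pullStalk_equiv (f.fiberι y) F hW z hxW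
  have : Module.Finite Γ(X, W) Γ(F, W) := Groth.QCohMod.finite_sections F hF hW
  exact Module.Finite.equiv θ

variable [LocallyOfFinitePresentation f]

theorem isLocallyNoetherian_fibre (y : Y) : IsLocallyNoetherian (f.fiber y) :=
  LocallyOfFiniteType.isLocallyNoetherian (f.fiberToSpecResidueField y)

/-- Localizations of a fibre stalk are the fibre stalks at the generizations. -/
theorem fibre_localization (hF : CohB1.IsFT F) (y : Y) (z : f.fiber y)
    (p : Ideal ((f.fiber y).presheaf.stalk z)) [hp : p.IsPrime] :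
    LocCoh.depth (Localization.AtPrime p)
        (LocalizedModule p.primeCompl (((Scheme.Modules.pullback (f.fiberι y)).obj F).presheaf.stalk z)) =
      depthAt f F y ((f.fiber y).fromSpecStalk z ⟨p, hp⟩) ∧
    Module.supportDim (Localization.AtPrime p)
        (LocalizedModule p.primeCompl (((Scheme.Modules.pullback (f.fiberι y)).obj F).presheaf.stalk z)) =
      suppAt f F y ((f.fiber y).fromSpecStalk z ⟨p, hp⟩) := by
  have := isLocallyNoetherian_fibre f y
  obtain ⟨W, hW, hzW, -⟩ := exists_isAffineOpen_mem_and_subset (U := (⊤ : X.Opens)) (x := f.fiberι y z) trivial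
  let w := (f.fiber y).fromSpecStalk z ⟨p, hp⟩
  have hsp : w ⤳ z := by
    have : w ∈ Set.range ((f.fiber y).fromSpecStalk z).base := ⟨_, rfl⟩
    rw [Scheme.range_fromSpecStalk] at this
    exact this
  have hwW : f.fiberι y w ∈ W := (hsp.map (f.fiberι y).continuous).mem_open W.isOpen hzW
  obtain ⟨e, he⟩ := exists_localization_equiv z p hsp
  have : Module.Finite Γ(X, W) Γ(F, W) := Groth.QCohMod.finite_sections F hF hW
  let := Groth.SchDom.secAlg (f.fiberι y) z hzW
  obtain ⟨θz⟩ := Groth.SchDom.nonempty_pullStalk_equiv (f.fiberι y) F hW z hzW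
  let R := (f.fiber y).presheaf.stalk z
  let Rp := Localization.AtPrime p
  let M := ((Scheme.Modules.pullback (f.fiberι y)).obj F).presheaf.stalk z
  let θp : LocalizedModule p.primeCompl M ≃ₗ[Rp] Rp ⊗[Γ(X, W)] Γ(F, W) :=
    (((IsLocalizedModule.isBaseChange p.primeCompl Rp (LocalizedModule.mkLinearMap p.primeCompl M)).equiv.symm.trans
      (TensorProduct.AlgebraTensorModule.congr (LinearEquiv.refl Rp Rp) θz.symm)).trans
        (TensorProduct.AlgebraTensorModule.cancelBaseChange Γ(X, W) R Rp Rp Γ(F, W)))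
  let algW := Groth.SchDom.secAlg (f.fiberι y) w hwW
  obtain ⟨θw⟩ := Groth.SchDom.nonempty_pullStalk_equiv (f.fiberι y) F hW w hwW
  let : Algebra Γ(X, W) ((f.fiber y).presheaf.stalk w) := algW
  have hcomm : ∀ b, e.toRingHom (algebraMap Γ(X, W) Rp b) =
      algebraMap Γ(X, W) ((f.fiber y).presheaf.stalk w) (algebraMap Γ(X, W) Γ(X, W) b) := by
    intro b
    show e (algebraMap R Rp (algebraMap Γ(X, W) R b)) = _
    rw [he]
    show (f.fiber y).presheaf.stalkSpecializes hsp
        ((f.fiberι y).stalkMap z (X.presheaf.germ W (f.fiberι y z) hzW b)) =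
      (f.fiberι y).stalkMap w (X.presheaf.germ W (f.fiberι y w) hwW b)
    rw [Scheme.Hom.germ_stalkMap_apply, Scheme.Hom.germ_stalkMap_apply]
    exact TopCat.Presheaf.germ_stalkSpecializes_apply (f.fiber y).presheaf _ hsp _
  have h := depth_supportDim_transfer (B := Γ(X, W)) (B₀ := Γ(X, W)) (F := Rp) (G := Γ(F, W))
    Function.surjective_id e.toRingHom e.surjective hcomm
    (by intro c hc; rw [RingHom.mem_ker] at hc; rw [e.injective (hc.trans (map_zero e).symm)]; exact Ideal.zero_mem _)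
  exact ⟨((Groth.Ega4b.depth_congr' θp).trans h.1.symm).trans (Groth.Ega4b.depth_congr' θw),
    ((Module.supportDim_eq_of_equiv θp).trans h.2.symm).trans (Module.supportDim_eq_of_equiv θw)⟩

/-- `(S_k)` of a fibre stalk. -/
theorem hasSk_fibre_iff (hF : CohB1.IsFT F) (y : Y) (z : f.fiber y) (k : ℕ) :
    LocCoh.HasSk k ((f.fiber y).presheaf.stalk z) (((Scheme.Modules.pullback (f.fiberι y)).obj F).presheaf.stalk z) ↔
      ∀ w, w ⤳ z → min (k : WithBot ℕ∞) (suppAt f F y w) ≤ (depthAt f F y w : WithBot ℕ∞) := by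
  constructor
  · intro h w hw
    obtain ⟨⟨p, hp⟩, rfl⟩ : w ∈ Set.range ((f.fiber y).fromSpecStalk z).base := by
      rw [Scheme.range_fromSpecStalk]; exact hw
    have := h p
    rwa [(fibre_localization f F hF y z p).1, (fibre_localization f F hF y z p).2] at this
  · intro h p _
    rw [(fibre_localization f F hF y z p).1, (fibre_localization f F hF y z p).2]
    refine h _ ?_
    have : (f.fiber y).fromSpecStalk z ⟨p, ‹_›⟩ ∈ Set.range ((f.fiber y).fromSpecStalk z).base := ⟨_, rfl⟩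
    rw [Scheme.range_fromSpecStalk] at this
    exact this

theorem mem_suppFib_iff (y : Y) (z : f.fiber y) : z ∈ suppFib f F y ↔ suppAt f F y z ≠ ⊥ :=
  ((Module.supportDim_ne_bot_iff_nontrivial _ _)).symm

/-- The support dimension vanishes only at maximal points of the support. -/
theorem eq_of_suppAt_eq_zero (hF : CohB1.IsFT F) {y : Y} {z w : f.fiber y} (hz : suppAt f F y z = 0)
    (hw : w ∈ suppFib f F y) (hwz : w ⤳ z) : w = z := by
  obtain ⟨⟨p, hp⟩, rfl⟩ : w ∈ Set.range ((f.fiber y).fromSpecStalk z).base := by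
    rw [Scheme.range_fromSpecStalk]; exact hwz
  let R := (f.fiber y).presheaf.stalk z
  let M := ((Scheme.Modules.pullback (f.fiberι y)).obj F).presheaf.stalk z
  have := finite_fibre_stalk f F hF y z
  have hpS : (⟨p, hp⟩ : PrimeSpectrum R) ∈ Module.support R M := by
    rw [Module.mem_support_iff, ← not_subsingleton_iff_nontrivial,
      ← Module.supportDim_eq_bot_iff_subsingleton (Localization.AtPrime p), (fibre_localization f F hF y z p).2]
    exact (mem_suppFib_iff f F y _).1 hw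
  have hcS : IsLocalRing.closedPoint R ∈ Module.support R M := by
    refine Module.mem_support_mono ?_ hpS
    exact IsLocalRing.le_maximalIdeal hp.ne_top
  have hm := (Order.krullDim_nonpos_iff_forall_isMax (α := Module.support R M)).1 hz.le ⟨_, hpS⟩
  have hmax := hm (show (⟨_, hpS⟩ : Module.support R M) ≤ ⟨_, hcS⟩ from IsLocalRing.le_maximalIdeal hp.ne_top)
  have : (⟨p, hp⟩ : PrimeSpectrum R) = IsLocalRing.closedPoint R :=
    le_antisymm (IsLocalRing.le_maximalIdeal hp.ne_top) hmax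
  rw [this, Scheme.fromSpecStalk_closedPoint]

theorem depthAt_le_suppAt (hF : CohB1.IsFT F) {y : Y} {z : f.fiber y} (hz : suppAt f F y z ≠ ⊥) :
    (depthAt f F y z : WithBot ℕ∞) ≤ suppAt f F y z := by
  have := isLocallyNoetherian_fibre f y
  have := finite_fibre_stalk f F hF y z
  have : Nontrivial (((Scheme.Modules.pullback (f.fiberι y)).obj F).presheaf.stalk z) :=
    (mem_suppFib_iff f F y z).2 hz
  exact Groth.LocCohBase.depth_le_supportDim _

theorem mem_suppFib_of_depth_eq_zero {y : Y} {z : f.fiber y} (h : depthAt f F y z = 0) : z ∈ suppFib f F y := by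
  rw [Set.mem_ofPred_eq, ← not_subsingleton_iff_nontrivial]
  intro hs
  have : depthAt f F y z = ⊤ := if_pos (Subsingleton.elim _ _)
  rw [h] at this
  exact ENat.zero_ne_top this

/-- Associated points are the points of depth zero. -/
theorem mem_ass_fibre_iff (hF : CohB1.IsFT F) (y : Y) (z : f.fiber y) :
    z ∈ AssSch.Ass ((Scheme.Modules.pullback (f.fiberι y)).obj F) ↔ depthAt f F y z = 0 := by
  have := isLocallyNoetherian_fibre f y
  have := finite_fibre_stalk f F hF y z
  exact (Groth.Agent.S5752.result _ _).symm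

theorem depthAt_eq_zero_of_max (hF : CohB1.IsFT F) {y : Y} {z : f.fiber y} (hz : z ∈ suppFib f F y)
    (hmax : ∀ w ∈ suppFib f F y, w ⤳ z → w = z) : suppAt f F y z = 0 ∧ depthAt f F y z = 0 := by
  have hs := suppAt_eq_zero f F hF hz hmax
  refine ⟨hs, le_antisymm (WithBot.coe_le_coe.1 ?_) bot_le⟩
  exact (depthAt_le_suppAt f F hF (by rw [hs]; exact (WithBot.bot_lt_coe _).ne')).trans hs.le

theorem clDimAt_eq (y : Y) (z : f.fiber y) : clDimAt f y z = ((Order.height z : ℕ∞) : WithBot ℕ∞) :=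
  Groth.Variety2.Dim.dim_closure_singleton z

theorem exists_height_eq_nat (y : Y) (z : f.fiber y) : ∃ n : ℕ, Order.height z = (n : ℕ∞) :=
  Groth.Variety2.Dim.exists_height_eq (k := Y.residueField y) (f.fiberToSpecResidueField y) z

theorem height_asFiber_eq (y : Y) (z : f.fiber y) :
    Order.height (f.asFiber (f.fiberι y z)) = Order.height z := by
  suffices key : ∀ (x : X) (y : Y) (_ : f.base x = y) (z : f.fiber y), f.fiberι y z = x →
      Order.height (f.asFiber x) = Order.height z from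
    key _ y (Groth.FibreDim.apply_fiberι f y z) z rfl
  rintro x _ rfl z hz
  rw [show z = f.asFiber x from (f.fiberι _).isEmbedding.injective (hz.trans (f.fiberι_asFiber x).symm)]

/-- The points avoiding a closed family of bad generizations form an open set. -/
theorem isOpen_forall_not_bad (D : ℕ → Set X) (hD : ∀ τ, IsClosed (D τ)) (T : Set ℕ) :
    IsOpen {x : X | ∀ τ ∈ T, ∀ (z : f.fiber (f.base x)), f.fiberι _ z ∈ D τ → z ⤳ f.asFiber x →
      ¬ ((τ : ℕ∞) ≤ Order.height z)} := by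
  let S : ℕ → Set X := fun τ => {x | ∃ w ∈ D τ, w ⤳ x ∧ f w = f x ∧ (τ : ℕ∞) ≤ Order.height (f.asFiber w)}
  have key : ∀ x : X, x ∈ {x : X | ∀ τ ∈ T, ∀ (z : f.fiber (f.base x)), f.fiberι _ z ∈ D τ → z ⤳ f.asFiber x →
      ¬ ((τ : ℕ∞) ≤ Order.height z)} ↔ ∀ τ ∈ T, x ∉ S τ := by
    intro x
    refine forall₂_congr fun τ _ => ⟨?_, ?_⟩
    · rintro h ⟨w, hw, hwx, hfw, hτ⟩
      obtain ⟨z, rfl⟩ : w ∈ Set.range (f.fiberι (f.base x)) := (f.range_fiberι _).ge hfw
      refine h z hw ?_ (by rwa [height_asFiber_eq f] at hτ)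
      refine (f.fiberι _).isEmbedding.toIsInducing.specializes_iff.1 ?_
      rwa [f.fiberι_asFiber]
    · intro h z hz hzx hτ
      refine h ⟨_, hz, ?_, Groth.FibreDim.apply_fiberι f _ z, by rwa [height_asFiber_eq f]⟩
      have := hzx.map (f.fiberι _).continuous
      rwa [f.fiberι_asFiber] at this
  rw [isOpen_iff_forall_mem_open]
  intro x hx
  obtain ⟨O, hO, hxO, -⟩ := exists_isAffineOpen_mem_and_subset (U := (⊤ : Y.Opens)) (x := f x) trivial
  obtain ⟨W, hW, hxW, hWle⟩ := exists_isAffineOpen_mem_and_subset (U := f ⁻¹ᵁ O) (x := x) hxO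
  obtain ⟨N, hN⟩ := Groth.FibreDim.exists_height_bound_of_affine f hO hW hWle
  refine ⟨(W : Set X) ∩ ⋂ τ ∈ T ∩ Set.Iic N, (S τ)ᶜ, ?_,
    W.isOpen.inter (((Set.finite_Iic N).inter_of_right T).isOpen_biInter fun τ _ =>
      (isClosed_exists_height_le f (hD τ) τ).isOpen_compl),
    hxW, Set.mem_iInter₂.2 fun τ hτ => (key x).1 hx τ hτ.1⟩
  rintro x' ⟨hx'W, hx'⟩
  refine (key x').2 fun τ hτT hc => ?_
  obtain ⟨w, hw, hwx, hfw, hτ⟩ := hc
  have hwW : w ∈ W := hwx.mem_open W.isOpen hx'W
  have hτN : (τ : ℕ∞) ≤ N := hτ.trans (hN _ (f.asFiber w) (by rw [f.fiberι_asFiber]; exact hwW))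
  exact Set.mem_iInter₂.1 hx' τ ⟨hτT, Nat.cast_le.1 hτN⟩ ⟨w, hw, hwx, hfw, hτ⟩

theorem coe_add_one_le_iff {d : ℕ∞} {t τ : ℕ} (ht : τ ≤ t) :
    ¬ ((τ + 1 : ℕ) : WithBot ℕ∞) ≤ (d : WithBot ℕ∞) + ((t : ℕ∞) : WithBot ℕ∞) ↔ d = 0 ∧ t = τ := by
  rw [← WithBot.coe_natCast, ← WithBot.coe_add, WithBot.coe_le_coe]
  cases d using ENat.recTopCoe with
  | top => simp
  | coe d =>
    rw [Nat.cast_eq_zero, ← Nat.cast_add, Nat.cast_le]
    omega

omit [F.IsQuasicoherent] [LocallyOfFinitePresentation f] in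
/-- An open condition on the points of the fibres gives an open condition on the target of a closed map. -/
theorem isOpen_target (hf : IsClosedMap f.base) (Q : ∀ y, f.fiber y → Prop)
    (h : IsOpen {x : X | Q _ (f.asFiber x)}) : IsOpen {y : Y | ∀ z, Q y z} := by
  rw [← isClosed_compl_iff]
  convert hf _ h.isClosed_compl
  ext y
  simp only [Set.mem_compl_iff, Set.mem_ofPred_eq, not_forall, Set.mem_image]
  constructor
  · rintro ⟨z, hz⟩
    refine ⟨f.fiberι y z, ?_, Groth.FibreDim.apply_fiberι f y z⟩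
    suffices key : ∀ (x : X) (y : Y) (_ : f.base x = y) (z : f.fiber y), f.fiberι y z = x →
        (Q y z ↔ Q _ (f.asFiber x)) from fun hc => hz ((key _ y (Groth.FibreDim.apply_fiberι f y z) z rfl).2 hc)
    rintro x _ rfl z hz
    rw [show z = f.asFiber x from (f.fiberι _).isEmbedding.injective (hz.trans (f.fiberι_asFiber x).symm)]
  · rintro ⟨x, hx, rfl⟩
    exact ⟨f.asFiber x, hx⟩

variable (hF : CohB1.IsFP F) (hflat : FlatMod.IsFlatOver f F)
include hF hflat

/-- Associated points with `dim cl = τ` are cut out by a closed set. -/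
theorem exists_closed_assDim : ∃ D : ℕ → Set X, (∀ τ, IsClosed (D τ)) ∧ ∀ (y : Y) (z : f.fiber y) (τ : ℕ),
    (f.fiberι y z ∈ D τ ∧ (τ : ℕ∞) ≤ Order.height z) ↔
      (depthAt f F y z = 0 ∧ Order.height z = (τ : ℕ∞)) := by
  refine ⟨fun τ => {x | x ∈ (⊤ : X.Opens) ∧ ((τ + 1 : ℕ) : WithBot ℕ∞) ≤
    (depthAt f F _ (f.asFiber x) : WithBot ℕ∞) + clDimAt f _ (f.asFiber x)}ᶜ,
    fun τ => (isOpen_fibreLocus f F hF ⊤ (fun x _ => hflat x) (openOverAffine_le_depth_add (τ + 1))).isClosed_compl,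
    fun y z τ => ?_⟩
  have htr := apply_asFiber_eq f F (fun d _ t => ((τ + 1 : ℕ) : WithBot ℕ∞) ≤ (d : WithBot ℕ∞) + t) y z
  obtain ⟨t, ht⟩ := exists_height_eq_nat f y z
  rw [Set.mem_compl_iff, Set.mem_ofPred_eq, ← htr, clDimAt_eq, ht, Nat.cast_le, Nat.cast_inj]
  constructor
  · rintro ⟨h, hle⟩
    exact (coe_add_one_le_iff hle).1 fun hc => h ⟨trivial, hc⟩
  · rintro ⟨hd, rfl⟩
    exact ⟨fun hc => (coe_add_one_le_iff le_rfl).2 ⟨hd, rfl⟩ hc.2, le_rfl⟩

/-- Dimensions of the associated points through a point. -/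
theorem isOpen_assDims (T : Set ℕ) : IsOpen {x : X | ∀ z ∈ AssSch.Ass ((Scheme.Modules.pullback (f.fiberι (f.base x))).obj F),
    f.asFiber x ∈ closure {z} → ∃ n ∈ T,
      topologicalKrullDim ↥(closure ({z} : Set ↥(f.fiber (f.base x)))) = (n : WithBot ℕ∞)} := by
  have hFT : CohB1.IsFT F := inferInstance
  obtain ⟨D, hD, hDiff⟩ := exists_closed_assDim f F hF hflat
  convert isOpen_forall_not_bad f D hD Tᶜ using 1
  ext x
  simp only [Set.mem_ofPred_eq, mem_ass_fibre_iff f F hFT, ← specializes_iff_mem_closure]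
  constructor
  · intro h τ hτ z hz hzx hle
    obtain ⟨hd, ht⟩ := (hDiff _ z τ).1 ⟨hz, hle⟩
    obtain ⟨n, hn, hn'⟩ := h z hd hzx
    have := (clDimAt_eq f _ z).symm.trans hn'
    rw [ht, ← WithBot.coe_natCast, WithBot.coe_inj, Nat.cast_inj] at this
    exact hτ (this ▸ hn)
  · intro h z hz hzx
    obtain ⟨t, ht⟩ := exists_height_eq_nat f _ z
    refine ⟨t, by_contra fun hc => ?_, (clDimAt_eq f _ z).trans (by rw [ht]; rfl)⟩
    obtain ⟨h1, h2⟩ := (hDiff _ z t).2 ⟨hz, ht⟩
    exact h t hc z h1 hzx h2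

/-- `(S_k)` fails at the points below a closed family of bad points. -/
theorem isOpen_hasSk (k : ℕ) : IsOpen {x : X |
    LocCoh.HasSk k ((f.fiber (f.base x)).presheaf.stalk (f.asFiber x))
      (((Scheme.Modules.pullback (f.fiberι (f.base x))).obj F).presheaf.stalk (f.asFiber x))} := by
  have hFT : CohB1.IsFT F := inferInstance
  have hflat' : ∀ x ∈ (⊤ : X.Opens), FlatMod.IsFlatOverAt f F x := fun x _ => hflat x
  let D : ℕ → Set X := fun τ =>
    ({x | x ∈ (⊤ : X.Opens) ∧ (suppAt f F _ (f.asFiber x) = ⊥ ∨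
        suppAt f F _ (f.asFiber x) = (depthAt f F _ (f.asFiber x) : WithBot ℕ∞))} ∪
      {x | x ∈ (⊤ : X.Opens) ∧ ((τ + k : ℕ) : WithBot ℕ∞) ≤
        (depthAt f F _ (f.asFiber x) : WithBot ℕ∞) + clDimAt f _ (f.asFiber x)})ᶜ
  have hD : ∀ τ, IsClosed (D τ) := fun τ =>
    ((isOpen_fibreLocus f F hF ⊤ hflat' openOverAffine_isCohenMacaulay).union
      (isOpen_fibreLocus f F hF ⊤ hflat' (openOverAffine_le_depth_add (τ + k)))).isClosed_compl
  have key : ∀ (y : Y) (z : f.fiber y), (¬ min (k : WithBot ℕ∞) (suppAt f F y z) ≤ (depthAt f F y z : WithBot ℕ∞)) ↔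
      ∃ τ : ℕ, f.fiberι y z ∈ D τ ∧ (τ : ℕ∞) ≤ Order.height z := by
    intro y z
    have h1 := fun τ : ℕ => apply_asFiber_eq f F
      (fun d s t => (s = ⊥ ∨ s = (d : WithBot ℕ∞)) ∨ ((τ + k : ℕ) : WithBot ℕ∞) ≤ (d : WithBot ℕ∞) + t) y z
    obtain ⟨t, ht⟩ := exists_height_eq_nat f y z
    have hmem : ∀ τ : ℕ, f.fiberι y z ∈ D τ ↔ ¬ ((suppAt f F y z = ⊥ ∨ suppAt f F y z = (depthAt f F y z : WithBot ℕ∞)) ∨
        ((τ + k : ℕ) : WithBot ℕ∞) ≤ (depthAt f F y z : WithBot ℕ∞) + clDimAt f y z) := by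
      intro τ
      rw [h1 τ]
      simp only [D, Set.mem_compl_iff, Set.mem_union, Set.mem_ofPred_eq]
      exact not_congr ⟨fun h => h.imp And.right And.right, fun h => h.imp (⟨trivial, ·⟩) (⟨trivial, ·⟩)⟩
    simp only [hmem, clDimAt_eq, ht, Nat.cast_le]
    rw [min_le_iff, not_or]
    constructor
    · rintro ⟨hk, hs⟩
      refine ⟨t, not_or.2 ⟨not_or.2 ⟨fun hb => hs (hb ▸ bot_le), fun he => hs he.le⟩, fun hc => hk ?_⟩, le_rfl⟩
      revert hc
      generalize depthAt f F y z = d
      cases d using ENat.recTopCoe with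
      | top => exact fun _ => le_top.trans (by simp)
      | coe d =>
        norm_cast
        omega
    · rintro ⟨τ, hτ, hτt⟩
      obtain ⟨hCM, hlt⟩ := not_or.1 hτ
      obtain ⟨hb, hne⟩ := not_or.1 hCM
      refine ⟨fun hk => hlt ?_, fun hs => hne (le_antisymm hs (depthAt_le_suppAt f F hFT hb))⟩
      revert hk
      generalize depthAt f F y z = d
      cases d using ENat.recTopCoe with
      | top => exact fun _ => le_top.trans_eq (by rw [← WithBot.coe_add, top_add]; rfl)
      | coe d =>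
        norm_cast
        omega
  convert isOpen_forall_not_bad f D hD Set.univ using 1
  ext x
  rw [Set.mem_ofPred_eq, Set.mem_ofPred_eq, hasSk_fibre_iff f F hFT]
  constructor
  · intro h τ _ z hz hzx hle
    exact (key _ z).2 ⟨τ, hz, hle⟩ (h z hzx)
  · intro h z hzx
    by_contra hc
    obtain ⟨τ, hz, hle⟩ := (key _ z).1 hc
    exact h τ trivial z hz hzx hle

omit hflat in
/-- No embedded associated point through a point is `(S_1)`. -/
theorem noEmbedded_iff_hasSk_one (y : Y) (x : f.fiber y) :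
    (∀ z ∈ AssSch.Ass ((Scheme.Modules.pullback (f.fiberι y)).obj F), x ∈ closure {z} →
      ∀ z' ∈ AssSch.Ass ((Scheme.Modules.pullback (f.fiberι y)).obj F), z ∈ closure {z'} → z' = z) ↔
    LocCoh.HasSk 1 ((f.fiber y).presheaf.stalk x) (((Scheme.Modules.pullback (f.fiberι y)).obj F).presheaf.stalk x) := by
  have hFT : CohB1.IsFT F := inferInstance
  simp only [mem_ass_fibre_iff f F hFT, ← specializes_iff_mem_closure, hasSk_fibre_iff f F hFT]
  constructor
  · intro h z hzx
    cases hd : depthAt f F y z using ENat.recTopCoe with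
    | top => exact le_top.trans (by simp)
    | coe d =>
      cases d with
      | succ d => exact (min_le_left _ _).trans (by norm_cast; omega)
      | zero =>
        have hz := mem_suppFib_of_depth_eq_zero f F (by rw [hd]; rfl)
        obtain ⟨w, hw, hwz, hmax⟩ := exists_max_above f F hFT hz
        obtain ⟨hs, hdw⟩ := depthAt_eq_zero_of_max f F hFT hw hmax
        obtain rfl : w = z := h z (by rw [hd]; rfl) hzx w hdw hwz
        refine (min_le_right _ _).trans ?_
        rw [hs]
        rfl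
  · intro h z hz hzx z' hz' hzz'
    have := h z hzx
    rw [hz, min_le_iff] at this
    rcases this with h1 | h1
    · exact absurd h1 (by norm_num)
    · refine eq_of_suppAt_eq_zero f F hFT (le_antisymm h1 ?_) (mem_suppFib_of_depth_eq_zero f F hz') hzz'
      have := depthAt_le_suppAt f F hFT ((mem_suppFib_iff f F y z).1 (mem_suppFib_of_depth_eq_zero f F hz))
      rw [hz] at this
      exact this

/-- The image of the points with a component of dimension `n` of the support of the fibre is open. -/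
theorem isOpen_exists_max_height (n : ℕ) : IsOpen {y : Y | ∃ z ∈ suppFib f F y,
    (∀ w ∈ suppFib f F y, w ⤳ z → w = z) ∧ Order.height z = (n : ℕ∞)} := by
  have hFT : CohB1.IsFT F := inferInstance
  have hflat' : ∀ x ∈ (⊤ : X.Opens), FlatMod.IsFlatOverAt f F x := fun x _ => hflat x
  have hsupp : OpenOverAffine.{u} fun _ s t => s + t ≤ (n : WithBot ℕ∞) :=
    ⟨fun hO m N => isOpen_supportDim_add_le hO N n⟩
  let V : X.Opens := ⟨_, ((isOpen_fibreLocus f F hF ⊤ hflat' openOverAffine_isCohenMacaulay).inter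
    (isOpen_fibreLocus f F hF ⊤ hflat' (openOverAffine_le_depth_add n))).inter
      (isOpen_fibreLocus f F hF ⊤ hflat' hsupp)⟩
  convert isOpen_image_inter_support f F hF hflat V using 1
  ext y
  constructor
  · rintro ⟨z, hz, hmax, ht⟩
    obtain ⟨hs, hd⟩ := depthAt_eq_zero_of_max f F hFT hz hmax
    refine ⟨f.fiberι y z, ⟨⟨⟨⟨trivial, ?_⟩, ⟨trivial, ?_⟩⟩, ⟨trivial, ?_⟩⟩, ?_⟩, Groth.FibreDim.apply_fiberι f y z⟩
    · exact (apply_asFiber_eq f F (fun d s _ => s = ⊥ ∨ s = (d : WithBot ℕ∞)) y z).1 (Or.inr (by rw [hs, hd]; rfl))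
    · exact (apply_asFiber_eq f F (fun d _ t => (n : WithBot ℕ∞) ≤ (d : WithBot ℕ∞) + t) y z).1
        (by rw [hd, clDimAt_eq, ht]; simp)
    · exact (apply_asFiber_eq f F (fun _ s t => s + t ≤ (n : WithBot ℕ∞)) y z).1
        (by rw [hs, clDimAt_eq, ht]; simp)
    · rw [suppFib_eq f F hFT] at hz
      exact hz
  · rintro ⟨x, ⟨hxV, hx⟩, rfl⟩
    have hz : f.asFiber x ∈ suppFib f F (f.base x) := by
      rw [suppFib_eq f F hFT, Set.mem_preimage, f.fiberι_asFiber]; exact hx
    obtain ⟨w, hw, hwz, hmax⟩ := exists_max_above f F hFT hz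
    have hwV : f.fiberι _ w ∈ V := by
      refine (hwz.map (f.fiberι _).continuous).mem_open V.isOpen ?_
      rwa [f.fiberι_asFiber]
    obtain ⟨hs, hd⟩ := depthAt_eq_zero_of_max f F hFT hw hmax
    have h1 := (apply_asFiber_eq f F (fun d _ t => (n : WithBot ℕ∞) ≤ (d : WithBot ℕ∞) + t) _ w).2 hwV.1.2.2
    have h2 := (apply_asFiber_eq f F (fun _ s t => s + t ≤ (n : WithBot ℕ∞)) _ w).2 hwV.2.2
    rw [hd, clDimAt_eq] at h1
    rw [hs, clDimAt_eq, zero_add] at h2
    simp only [WithBot.coe_zero, zero_add] at h1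
    exact ⟨w, hw, hmax, le_antisymm (WithBot.coe_le_coe.1 h2) (WithBot.coe_le_coe.1 h1)⟩

omit hflat in
/-- Dimensions of the irreducible components of the support of a fibre. -/
theorem componentDims_eq (y : Y) :
    (fun Z : Set ↥(suppFib f F y) => topologicalKrullDim ↥Z) '' irreducibleComponents ↥(suppFib f F y) =
      (fun z => ((Order.height z : ℕ∞) : WithBot ℕ∞)) ''
        {z | z ∈ suppFib f F y ∧ ∀ w ∈ suppFib f F y, w ⤳ z → w = z} := by
  have hFT : CohB1.IsFT F := inferInstance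
  have hC : IsClosed (suppFib f F y) := by
    rw [suppFib_eq f F hFT]
    exact (isClosed_support F hFT).preimage (f.fiberι y).continuous
  have : QuasiSober ↥(suppFib f F y) := hC.isClosedEmbedding_subtypeVal.quasiSober
  have hdim : ∀ η : ↥(suppFib f F y), topologicalKrullDim ↥(closure ({η} : Set ↥(suppFib f F y))) =
      ((Order.height η.1 : ℕ∞) : WithBot ℕ∞) := fun η => by
    rw [← Groth.Variety2.Dim.dim_closure_singleton η.1]
    have himg : Subtype.val '' closure ({η} : Set ↥(suppFib f F y)) = closure {η.1} := by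
      rw [← hC.isClosedEmbedding_subtypeVal.closure_image_eq, Set.image_singleton]
    rw [← himg]
    exact ((Topology.IsEmbedding.subtypeVal.homeomorphImage _)).isHomeomorph.topologicalKrullDim_eq
  ext d
  constructor
  · rintro ⟨Z, hZ, rfl⟩
    obtain ⟨η, hη⟩ := QuasiSober.sober hZ.1 (isClosed_of_mem_irreducibleComponents Z hZ)
    refine ⟨η.1, ⟨η.2, fun w hw hwη => ?_⟩, ?_⟩
    · have := (Groth.PropsBasic2.closure_mem_irreducibleComponents_iff η).1 (hη.def.symm ▸ hZ) ⟨w, hw⟩
        (subtype_specializes_iff _ _ |>.2 hwη)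
      exact congrArg Subtype.val this
    · rw [← hη.def]
      exact (hdim η).symm
  · rintro ⟨z, ⟨hz, hmax⟩, rfl⟩
    refine ⟨closure {⟨z, hz⟩}, ?_, hdim _⟩
    rw [Groth.PropsBasic2.closure_mem_irreducibleComponents_iff]
    intro w hw
    exact Subtype.ext (hmax w.1 w.2 (subtype_specializes_iff _ _ |>.1 hw))

end Groth.Ega43FP2
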