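import Mathlib
import Groth.Agent.Ega43FP2.FibChart
import Groth.Agent.Ega4Algebra1.PdOpen
import Groth.Agent.Ega4Algebra1.RegularLocal
import Groth.Agent.FrobLCI.AusBuch
import Groth.Agent.QCohMod.Affine
import Groth.Agent.SchemeMorphisms.MaxSupp

/-!
# The rectified depth over regular rings
-/

set_option autoImplicit false
universe u

open CategoryTheory AlgebraicGeometry
open scoped TensorProduct
open Groth.Ega4Algebra1 (PdLT)

set_option synthInstance.maxHeartbeats 400000
set_option maxHeartbeats 1600000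

namespace Groth.Ega43FP2

section Local

variable (R : Type u) [CommRing R] [IsRegularLocalRing R] (F : Type u) [AddCommGroup F] [Module R F] [Module.Finite R F]

theorem exists_pd_depth [Nontrivial F] :
    ∃ e d : ℕ, PdLT R F (e + 1) ∧ ¬ PdLT R F e ∧ LocCoh.depth R F = (d : ℕ∞) ∧
      ringKrullDim R = ((d + e : ℕ) : WithBot ℕ∞) := by
  classical
  obtain ⟨h, hh⟩ : ∃ h : ℕ, ringKrullDim R = (h : WithBot ℕ∞) := by
    obtain ⟨c, hc⟩ := WithBot.ne_bot_iff_exists.1 (ringKrullDim_ne_bot (R := R))
    have hfin : ringKrullDim R < ⊤ := ringKrullDim_lt_top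
    rw [← hc] at hfin ⊢
    cases c using ENat.recTopCoe with
    | top => exact absurd hfin (lt_irrefl _)
    | coe c => exact ⟨c, rfl⟩
  have hex : ∃ e, PdLT R F (e + 1) :=
    ⟨h, Groth.Ega4Algebra1.pdLT_all_of_isRegularLocalRing R h hh (ModuleCat.of R F)⟩
  let e := Nat.find hex
  have he' : ¬ PdLT R F e := by
    intro h
    cases hz : e with
    | zero => exact not_subsingleton F (Groth.Ega4Algebra1.PdLT.zero_iff.1 (hz ▸ h))
    | succ k => exact Nat.find_min hex (show k < e by omega) (hz ▸ h)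
  have hab := Groth.FrobLCI.auslander_buchsbaum e F (Nat.find_spec hex) he'
  have hR : LocCoh.depth R R = (h : ℕ∞) := by
    have := (Groth.Calg4.isCohenMacaulayLocalRing_of_isRegularLocalRing R).supportDim_eq_depth
    rw [Module.supportDim_self_eq_ringKrullDim, hh] at this
    exact (WithBot.coe_inj.1 this).symm
  rw [hR] at hab
  obtain ⟨d, hd⟩ : ∃ d : ℕ, LocCoh.depth R F = (d : ℕ∞) := by
    refine ENat.ne_top_iff_exists.1 (fun h => ?_) |>.imp fun _ => Eq.symm
    rw [h, add_top] at hab
    exact ENat.natCast_ne_top _ hab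
  refine ⟨e, d, Nat.find_spec hex, he', hd, ?_⟩
  rw [hd] at hab
  have : h = e + d := by exact_mod_cast hab
  rw [hh, this, add_comm e d]

theorem depth_eq_top_iff : LocCoh.depth R F = ⊤ ↔ Subsingleton F := by
  refine ⟨fun h => ?_, fun h => if_pos (Subsingleton.elim _ _)⟩
  rcases subsingleton_or_nontrivial F with hs | hs
  · exact hs
  · obtain ⟨e, d, -, -, hd, -⟩ := exists_pd_depth R F
    rw [hd] at h
    exact absurd h (ENat.natCast_ne_top _)

/-- The rectified depth in terms of the projective dimension. -/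
theorem le_depth_add_iff_pdLT_of_regular (φ D n : ℕ)
    (hD : (φ : WithBot ℕ∞) + ringKrullDim R = (D : WithBot ℕ∞)) :
    (n : ℕ∞) ≤ LocCoh.depth R F + φ ↔ PdLT R F (D + 1 - n) := by
  rcases subsingleton_or_nontrivial F with hs | hs
  · refine iff_of_true ?_ (Groth.Ega4Algebra1.PdLT.mono (Nat.zero_le _) (Groth.Ega4Algebra1.PdLT.zero_iff.2 hs))
    rw [(depth_eq_top_iff R F).2 hs, top_add]
    exact le_top
  · obtain ⟨e, d, he, he', hd, hdim⟩ := exists_pd_depth R F
    rw [hdim] at hD
    have hD' : φ + (d + e) = D := by exact_mod_cast hD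
    rw [hd, ← Nat.cast_add, Nat.cast_le]
    constructor
    · intro h
      exact Groth.Ega4Algebra1.PdLT.mono (show e + 1 ≤ D + 1 - n by omega) he
    · intro h
      by_contra hlt
      exact he' (Groth.Ega4Algebra1.PdLT.mono (show D + 1 - n ≤ e by omega) h)

end Local

/-- A function on the spectrum of a Noetherian ring invariant under specialization is locally constant. -/
theorem isLocallyConstant_of_le {B : Type u} [CommRing B] [IsNoetherianRing B] {α : Type*} (D : PrimeSpectrum B → α)
    (h : ∀ p q, p ≤ q → D p = D q) : IsLocallyConstant D := by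
  rw [IsLocallyConstant.iff_exists_open]
  intro x
  let S : Set (Ideal B) := {q | q ∈ minimalPrimes B ∧ ∀ hq : q.IsPrime, D ⟨q, hq⟩ ≠ D x}
  have hS : S.Finite := (minimalPrimes.finite_of_isNoetherianRing B).subset fun q hq => hq.1
  refine ⟨(⋃ q ∈ S, PrimeSpectrum.zeroLocus (q : Set B))ᶜ,
    (hS.isClosed_biUnion fun q _ => PrimeSpectrum.isClosed_zeroLocus _).isOpen_compl, ?_, fun y hy => ?_⟩
  · simp only [Set.mem_compl_iff, Set.mem_iUnion, not_exists]
    intro q hq hx
    exact hq.2 hq.1.1.1 (h _ x hx)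
  · obtain ⟨q, hq, hqy⟩ := Ideal.exists_minimalPrimes_le (I := ⊥) (J := y.asIdeal) bot_le
    simp only [Set.mem_compl_iff, Set.mem_iUnion, not_exists] at hy
    by_contra hne
    refine hy q ⟨hq, fun hq' => ?_⟩ hqy
    rw [h ⟨q, hq'⟩ y hqy]
    exact hne

/-- The rectified depth of a finite module over a regular Noetherian ring is lower semicontinuous. -/
theorem isOpen_le_depth_add_of_regular (B : Type u) [CommRing B] [IsNoetherianRing B]
    (hreg : ∀ p : PrimeSpectrum B, IsRegularLocalRing (Localization.AtPrime p.asIdeal))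
    (M : Type u) [AddCommGroup M] [Module B M] [Module.Finite B M] (φ D : PrimeSpectrum B → ℕ)
    (hD : ∀ p, (φ p : WithBot ℕ∞) + ringKrullDim (Localization.AtPrime p.asIdeal) = (D p : WithBot ℕ∞))
    (hle : ∀ p q, p ≤ q → D p = D q) (n : ℕ) :
    IsOpen {p : PrimeSpectrum B | (n : ℕ∞) ≤ LocCoh.depth (Localization.AtPrime p.asIdeal)
      (Localization.AtPrime p.asIdeal ⊗[B] M) + φ p} := by
  have hloc := isLocallyConstant_of_le D hle
  have hpd : ∀ i, IsOpen {p : PrimeSpectrum B | PdLT (Localization.AtPrime p.asIdeal)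
      (Localization.AtPrime p.asIdeal ⊗[B] M) i} := by
    intro i
    cases i with
    | succ i => exact Groth.Ega4Algebra1.isOpen_pdLT i M
    | zero =>
      convert (Module.isClosed_support (R := B) (M := M)).isOpen_compl using 1
      ext p
      rw [Set.mem_ofPred_eq, Groth.Ega4Algebra1.PdLT.zero_iff, Set.mem_compl_iff, Module.mem_support_iff,
        not_nontrivial_iff_subsingleton,
        (LocalizedModule.equivTensorProduct p.asIdeal.primeCompl M).symm.toEquiv.subsingleton_congr]
  rw [isOpen_iff_forall_mem_open]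
  intro x hx
  refine ⟨{p | D p = D x} ∩ {p | PdLT (Localization.AtPrime p.asIdeal) (Localization.AtPrime p.asIdeal ⊗[B] M)
    (D x + 1 - n)}, ?_, (hloc.isOpen_fiber _).inter (hpd _), rfl, ?_⟩
  · rintro p ⟨hp, hp'⟩
    have := hreg p
    refine (le_depth_add_iff_pdLT_of_regular _ _ _ _ n (hD p)).2 ?_
    rw [show D p = D x from hp]
    exact hp'
  · have := hreg x
    exact (le_depth_add_iff_pdLT_of_regular _ _ _ _ n (hD x)).1 hx

/-- The depth of a stalk read on a ring surjecting onto the sections over an affine open. -/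
theorem depth_stalk_eq_localization {X : Scheme.{u}} (F : X.Modules) [F.IsQuasicoherent] {W : X.Opens}
    (hW : IsAffineOpen W) {B : Type u} [CommRing B] [IsNoetherianRing B] [Algebra B Γ(X, W)] [Module B Γ(F, W)]
    [IsScalarTower B Γ(X, W) Γ(F, W)] [Module.Finite B Γ(F, W)]
    (hπ : Function.Surjective (algebraMap B Γ(X, W))) (x : X) (hx : x ∈ W) (p : PrimeSpectrum B)
    (hp : p = PrimeSpectrum.comap (algebraMap B Γ(X, W)) (hW.primeIdealOf ⟨x, hx⟩)) :
    LocCoh.depth (X.presheaf.stalk x) (F.presheaf.stalk x) =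
      LocCoh.depth (Localization.AtPrime p.asIdeal) (Localization.AtPrime p.asIdeal ⊗[B] Γ(F, W)) := by
  subst hp
  let q := (hW.primeIdealOf ⟨x, hx⟩).asIdeal
  let : Algebra Γ(X, W) (X.presheaf.stalk x) := (X.presheaf.germ W x hx).hom.toAlgebra
  have hloc : IsLocalization.AtPrime (X.presheaf.stalk x) q := hW.isLocalization_stalk ⟨x, hx⟩
  let p := q.comap (algebraMap B Γ(X, W))
  have hu : ∀ b : p.primeCompl, IsUnit (((algebraMap Γ(X, W) (X.presheaf.stalk x)).comp (algebraMap B Γ(X, W))) b) :=
    fun b => IsLocalization.map_units (X.presheaf.stalk x) (⟨algebraMap B Γ(X, W) b.1, b.2⟩ : q.primeCompl)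
  let μ : Localization.AtPrime p →+* X.presheaf.stalk x := IsLocalization.lift hu
  have hcomm : ∀ b, μ (algebraMap B (Localization.AtPrime p) b) =
      algebraMap Γ(X, W) (X.presheaf.stalk x) (algebraMap B Γ(X, W) b) := fun b => IsLocalization.lift_eq hu b
  have hμ : Function.Surjective μ := by
    intro z
    obtain ⟨⟨a, s⟩, has⟩ := IsLocalization.surj q.primeCompl z
    obtain ⟨a, rfl⟩ := hπ a
    obtain ⟨t, ht⟩ := hπ s.1
    have htp : t ∈ p.primeCompl := fun htp => s.2 (ht ▸ htp)
    refine ⟨IsLocalization.mk' _ a ⟨t, htp⟩, ?_⟩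
    show IsLocalization.lift hu _ = z
    rw [IsLocalization.lift_mk'_spec]
    show algebraMap _ _ (algebraMap _ _ a) = algebraMap Γ(X, W) _ (algebraMap _ _ t) * z
    rw [ht, mul_comm]
    exact has.symm
  have hker : RingHom.ker μ ≤ (RingHom.ker (algebraMap B Γ(X, W))).map (algebraMap B (Localization.AtPrime p)) := by
    intro z hz
    obtain ⟨b, s, rfl⟩ := IsLocalization.exists_mk'_eq p.primeCompl z
    have h0 : algebraMap Γ(X, W) (X.presheaf.stalk x) (algebraMap B Γ(X, W) b) = 0 := by
      rw [RingHom.mem_ker] at hz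
      rw [← hcomm, ← IsLocalization.mk'_spec (Localization.AtPrime p) b s, map_mul, hz, zero_mul]
    obtain ⟨t, ht⟩ := (IsLocalization.map_eq_zero_iff q.primeCompl _ _).1 h0
    obtain ⟨t', ht'⟩ := hπ t.1
    have ht'p : t' ∈ p.primeCompl := fun h => t.2 (ht' ▸ h)
    have hb : t' * b ∈ RingHom.ker (algebraMap B Γ(X, W)) := by
      rw [RingHom.mem_ker, map_mul, ht', ht]
    rw [show IsLocalization.mk' (Localization.AtPrime p) b s =
        algebraMap B _ (t' * b) * IsLocalization.mk' (Localization.AtPrime p) 1 (⟨t', ht'p⟩ * s) from by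
      rw [← IsLocalization.mk'_eq_mul_mk'_one, IsLocalization.mk'_eq_of_eq]
      show (s : B) * (t' * b) = t' * (s : B) * b
      ring]
    exact Ideal.mul_mem_right _ _ (Ideal.mem_map_of_mem _ hb)
  have h := depth_supportDim_transfer (G := Γ(F, W)) (F := Localization.AtPrime p) hπ μ hμ hcomm hker
  let := Groth.QCohMod.stalkModule F x hx
  have : IsScalarTower Γ(X, W) (X.presheaf.stalk x) (F.presheaf.stalk x) :=
    IsScalarTower.of_algebraMap_smul fun _ _ => rfl
  have hL := Groth.QCohMod.isLocalizedModule_germ F hW x hx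
  have hbc : IsBaseChange (X.presheaf.stalk x) (Groth.QCohMod.germₗ F x hx) :=
    IsLocalizedModule.isBaseChange q.primeCompl (X.presheaf.stalk x) _
  rw [← Groth.Ega4b.depth_congr' hbc.equiv]
  exact h.1

end Groth.Ega43FP2
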