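import Mathlib
import Groth.Agent.Ega43FP2.RectifiedDepth
import Groth.Agent.EGA43Topo.JacobsonLocalDim
import Groth.Agent.Ega4Algebra1.RegularCatenary
import Groth.Agent.Ega4Algebra2.GRing

/-!
# The rectified depth on schemes over a regular Jacobson base
-/

set_option autoImplicit false
universe u

open CategoryTheory AlgebraicGeometry TopologicalSpace Topology
open Groth.SitesTopoi (chainCodim)
open Groth.EGA43Topo.JacobsonDim

set_option synthInstance.maxHeartbeats 400000
set_option maxHeartbeats 1600000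
set_option linter.style.haveILetI false
set_option linter.unusedSectionVars false

attribute [local instance] pointsOrder

namespace Groth.Ega43FP2

/-- The sections over an affine open of a regular locally Noetherian scheme form a regular ring. -/
theorem isRegularRing_sections {S : Scheme.{u}} [IsLocallyNoetherian S]
    (hreg : ∀ s : S, IsRegularLocalRing ↑(S.presheaf.stalk s)) {V : S.Opens} (hV : IsAffineOpen V) :
    IsRegularRing Γ(S, V) := by
  have : IsNoetherianRing Γ(S, V) := IsLocallyNoetherian.component_noetherian ⟨V, hV⟩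
  refine IsRegularRing.mk fun p _ => ?_
  let _ := (S.presheaf.germ V (hV.fromSpec ⟨p, inferInstance⟩) (hV.range_fromSpec.le ⟨_, rfl⟩)).hom.toAlgebra
  have : IsLocalization p.primeCompl (S.presheaf.stalk (hV.fromSpec ⟨p, inferInstance⟩)) :=
    hV.isLocalization_stalk' ⟨p, inferInstance⟩ (hV.range_fromSpec.le ⟨_, rfl⟩)
  have := hreg (hV.fromSpec ⟨p, inferInstance⟩)
  exact IsRegularLocalRing.of_ringEquiv (IsLocalization.algEquiv p.primeCompl
    (S.presheaf.stalk (hV.fromSpec ⟨p, inferInstance⟩)) (Localization.AtPrime p)).toRingEquiv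

theorem isUniversallyCatenary_regular {R : Type u} [CommRing R] [IsRegularLocalRing R] :
    CAlg.IsUniversallyCatenary R := by
  have := Groth.Ega4b.isRegularRing_of_isRegularLocalRing R
  exact Groth.Ega4Algebra1.isUniversallyCatenary_of_regular_surjective (RingHom.id R) Function.surjective_id

/-- The height of a point in a locally closed piece of a Jacobson scheme. -/
theorem height_eq_of_embedding {Z X : Scheme.{u}} [JacobsonSpace X] (i : Z ⟶ X) [LocallyOfFiniteType i]
    [JacobsonSpace Z] (hi : IsEmbedding i.base) (hr : (Set.range i.base).OrdConnected)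
    (hZ : HasDimHeight Z) (hX : HasDimHeight X) (a : Z) : Order.height (i a) = Order.height a := by
  obtain ⟨z, -, hza, hz⟩ := exists_closed_le_of_mem (X := Z) Set.univ isOpen_univ (Set.mem_univ a)
  have hiz : IsClosed ({i z} : Set X) := i.closePoints_subset_preimage_closedPoints hz
  have hia : i z ≤ i a := (hza : a ⤳ z).map i.continuous
  rw [← (hZ z a hza hz).1, ← (hX (i z) (i a) hia hiz).1]
  let e : Z ↪o X := OrderEmbedding.ofMapLEIff i.base fun p q => hi.toIsInducing.specializes_iff
  exact Groth.FibreDim.chainCodim_map e hr z a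

theorem ordConnected_range_of_isOpenImmersion {Z X : Scheme.{u}} (i : Z ⟶ X) [IsOpenImmersion i] :
    (Set.range i.base).OrdConnected :=
  ⟨fun _ ha _ _ _ hc => (hc.1 : _ ⤳ _).mem_open i.isOpenEmbedding.isOpen_range ha⟩

theorem ordConnected_range_of_isClosedImmersion {Z X : Scheme.{u}} (i : Z ⟶ X) [IsClosedImmersion i] :
    (Set.range i.base).OrdConnected :=
  ⟨fun _ _ _ hb _ hc => (hc.2 : _ ⤳ _).mem_closed i.isClosedEmbedding.isClosed_range hb⟩

section Regular

variable {P : Scheme.{u}} [IsLocallyNoetherian P] [JacobsonSpace P]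
  (hreg : ∀ a : P, IsRegularLocalRing ↑(P.presheaf.stalk a)) (hP : HasDimHeight P)

/-- The largest height of a generization. -/
noncomputable def maxHeight (a : P) : ℕ∞ := ⨆ t : ↥{t : P | t ∈ (Set.univ : Set P) ∧ t ⤳ a}, Order.height t.1

include hreg hP in
theorem height_add_ringKrullDim (a : P) :
    ((Order.height a : ℕ∞) : WithBot ℕ∞) + ringKrullDim (P.presheaf.stalk a) = (maxHeight a : WithBot ℕ∞) := by
  rw [maxHeight, ← height_add_dim_gen (fun x => by haveI := hreg x; exact isUniversallyCatenary_regular) hP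
    isClosed_univ (Set.mem_univ a)]
  haveI := (gen_inter_facts (X := P) isClosed_univ a).1
  rw [dim_eq_krullDim, ← (gen_inter_facts (X := P) isClosed_univ a).2, ringKrullDim]
  congr 1
  exact (Order.krullDim_eq_of_orderIso OrderIso.Set.univ).symm

include hreg in
omit [IsLocallyNoetherian P] [JacobsonSpace P] in
theorem maxHeight_eq {a b : P} (hab : a ⤳ b) : maxHeight a = maxHeight b := by
  refine le_antisymm (iSup_le fun t => le_iSup (fun s : ↥{s : P | s ∈ (Set.univ : Set P) ∧ s ⤳ b} => Order.height s.1)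
    ⟨t.1, trivial, t.2.2.trans hab⟩) (iSup_le fun t => ?_)
  haveI := hreg b
  haveI : IsDomain (P.presheaf.stalk b) := Groth.Ega4Algebra1.isDomain_of_isRegularLocalRing _
  obtain ⟨Q, hQ⟩ := exists_fromSpecStalk_eq (s := b) (x := t.1) t.2.2
  obtain ⟨A, hA⟩ := exists_fromSpecStalk_eq (s := b) (x := a) hab
  let ξ : P := (P.fromSpecStalk b).base (⊥ : PrimeSpectrum (P.presheaf.stalk b))
  have hξt : t.1 ≤ ξ := hQ ▸ (fromSpecStalk_le_iff b Q ⊥).2 bot_le
  have hξa : ξ ⤳ a := hA ▸ (fromSpecStalk_le_iff b A ⊥).2 bot_le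
  exact (Order.height_mono hξt).trans
    (le_iSup (fun s : ↥{s : P | s ∈ (Set.univ : Set P) ∧ s ⤳ a} => Order.height s.1) ⟨ξ, trivial, hξa⟩)

end Regular

variable {X S : Scheme.{u}} [IsLocallyNoetherian S] [JacobsonSpace S]

include S in
/-- The rectified depth is lower semicontinuous over a regular Jacobson equidimensional base. -/
theorem isOpen_le_depth_add_height (hreg : ∀ s : S, IsRegularLocalRing ↑(S.presheaf.stalk s))
    (h3 : ∀ S' ∈ irreducibleComponents (S : Type u), ∀ s ∈ S', IsClosed ({s} : Set S) →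
      topologicalKrullDim (↥S' : Type u) = topologicalKrullDim ↥{t : S | t ∈ S' ∧ t ⤳ s})
    (g : X ⟶ S) [LocallyOfFiniteType g] (F : X.Modules) (hF : Coh.IsCoh F) (n : ℕ) :
    IsOpen {x : X | (n : ℕ∞) ≤ LocCoh.depth ↑(X.presheaf.stalk x) ↑(F.presheaf.stalk x) + Order.height x} := by
  have : F.IsQuasicoherent := hF.1
  have h2 : ∀ s : S, CAlg.IsUniversallyCatenary (S.presheaf.stalk s) :=
    fun s => by haveI := hreg s; exact isUniversallyCatenary_regular
  have hS : HasDimHeight S := hasDimHeight_base h2 h3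
  haveI : IsLocallyNoetherian X := LocallyOfFiniteType.isLocallyNoetherian g
  haveI : JacobsonSpace X := LocallyOfFiniteType.jacobsonSpace g
  have hX : HasDimHeight X := hasDimHeight_of_lft h2 hS g
  rw [isOpen_iff_forall_mem_open]
  intro x₀ hx₀
  obtain ⟨O, hO, hxO, -⟩ := exists_isAffineOpen_mem_and_subset (U := (⊤ : S.Opens)) (x := g x₀) trivial
  obtain ⟨W, hW, hxW, hWO⟩ := exists_isAffineOpen_mem_and_subset (U := g ⁻¹ᵁ O) (x := x₀) hxO
  haveI : IsRegularRing Γ(S, O) := isRegularRing_sections hreg hO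
  let algA : Algebra Γ(S, O) Γ(X, W) := (g.appLE O W hWO).hom.toAlgebra
  have : Algebra.FiniteType Γ(S, O) Γ(X, W) := g.finiteType_appLE hO hW hWO
  obtain ⟨N, φ, hφ⟩ := Algebra.FiniteType.iff_quotient_mvPolynomial''.1 this
  let B := MvPolynomial (Fin N) Γ(S, O)
  haveI : IsRegularRing B := inferInstance
  let : Algebra B Γ(X, W) := φ.toRingHom.toAlgebra
  let : Module B Γ(F, W) := Module.compHom _ φ.toRingHom
  have : IsScalarTower B Γ(X, W) Γ(F, W) := IsScalarTower.of_algebraMap_smul fun _ _ => rfl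
  have : Module.Finite Γ(X, W) Γ(F, W) := Groth.QCohMod.finite_sections F hF.2 hW
  have : Module.Finite B Γ(X, W) := Module.Finite.of_surjective (Algebra.linearMap B Γ(X, W)) hφ
  have : Module.Finite B Γ(F, W) := Module.Finite.trans Γ(X, W) _
  let P := Spec (CommRingCat.of B)
  let ι : Spec Γ(X, W) ⟶ P := Spec.map (CommRingCat.ofHom φ.toRingHom)
  haveI : IsClosedImmersion ι := IsClosedImmersion.spec_of_surjective _ hφ
  let gP : P ⟶ S := Spec.map (CommRingCat.ofHom (algebraMap Γ(S, O) B)) ≫ hO.fromSpec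
  have : LocallyOfFiniteType (Spec.map (CommRingCat.ofHom (algebraMap Γ(S, O) B))) := by
    rw [HasRingHomProperty.Spec_iff (P := @LocallyOfFiniteType)]
    exact RingHom.finiteType_algebraMap.2 (inferInstance : Algebra.FiniteType Γ(S, O) B)
  have : LocallyOfFiniteType gP := inferInstanceAs (LocallyOfFiniteType (_ ≫ _))
  haveI : IsLocallyNoetherian P := LocallyOfFiniteType.isLocallyNoetherian gP
  haveI : JacobsonSpace P := LocallyOfFiniteType.jacobsonSpace gP
  have hP : HasDimHeight P := hasDimHeight_of_lft h2 hS gP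
  haveI : JacobsonSpace (Spec Γ(X, W)) := LocallyOfFiniteType.jacobsonSpace (hW.fromSpec ≫ g)
  have hW' : HasDimHeight (Spec Γ(X, W)) := hasDimHeight_of_lft h2 hS (hW.fromSpec ≫ g)
  let eq : ∀ p : PrimeSpectrum B, Localization.AtPrime p.asIdeal ≃+* P.presheaf.stalk p := fun p =>
    (StructureSheaf.stalkIso B p).toRingEquiv
  have hregP : ∀ p : P, IsRegularLocalRing (P.presheaf.stalk p) := fun p => IsRegularLocalRing.of_ringEquiv (eq p)
  have hfin : ∀ p : P, Order.height p ≠ ⊤ := fun p => by
    obtain ⟨z, -, hz, hzc⟩ := exists_closed_le_of_mem (X := P) Set.univ isOpen_univ (Set.mem_univ p)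
    exact (hP z p hz hzc).2
  have hmax : ∀ p : P, maxHeight p ≠ ⊤ := fun p h => by
    have hadd := height_add_ringKrullDim hregP hP p
    have := hregP p
    have hlt : ringKrullDim (P.presheaf.stalk p) < ⊤ := ringKrullDim_lt_top
    obtain ⟨c, hc⟩ := WithBot.ne_bot_iff_exists.1 (ringKrullDim_ne_bot (R := P.presheaf.stalk p))
    rw [← hc] at hadd hlt
    rw [h, ← WithBot.coe_add, WithBot.coe_inj, ENat.add_eq_top] at hadd
    rcases hadd with hadd | hadd
    · exact hfin p hadd
    · exact (WithBot.coe_lt_coe.1 hlt).ne hadd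
  let φh : PrimeSpectrum B → ℕ := fun p => (Order.height (α := P) p).toNat
  let Dh : PrimeSpectrum B → ℕ := fun p => (maxHeight (P := P) p).toNat
  have hopen := isOpen_le_depth_add_of_regular B (fun p => inferInstance) Γ(F, W) φh Dh (fun p => by
      rw [ringKrullDim_eq_of_ringEquiv (eq p), ← WithBot.coe_natCast, ← WithBot.coe_natCast, ENat.natCast_toNat (hfin p),
        ENat.natCast_toNat (hmax p)]
      exact height_add_ringKrullDim hregP hP p)
    (fun p q hpq => congrArg ENat.toNat (maxHeight_eq (P := P) hregP ((PrimeSpectrum.le_iff_specializes p q).1 hpq))) n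
  let j : ↥W → PrimeSpectrum B := fun w => PrimeSpectrum.comap φ.toRingHom (hW.primeIdealOf w)
  have hj : Continuous j := (PrimeSpectrum.continuous_comap φ.toRingHom).comp hW.isoSpec.hom.continuous
  have key : ∀ w : ↥W, LocCoh.depth ↑(X.presheaf.stalk w.1) ↑(F.presheaf.stalk w.1) + Order.height w.1 =
      LocCoh.depth (Localization.AtPrime (j w).asIdeal)
        (TensorProduct B (Localization.AtPrime (j w).asIdeal) Γ(F, W)) + φh (j w) := by
    intro w
    rw [depth_stalk_eq_localization F hW hφ w.1 w.2 (j w) rfl, ENat.natCast_toNat (hfin (j w))]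
    congr 1
    have e1 := height_eq_of_embedding hW.fromSpec hW.fromSpec.isOpenEmbedding.isEmbedding
      (ordConnected_range_of_isOpenImmersion _) hW' hX (hW.primeIdealOf w)
    rw [hW.fromSpec_primeIdealOf] at e1
    exact e1.trans (height_eq_of_embedding ι ι.isClosedEmbedding.isEmbedding
      (ordConnected_range_of_isClosedImmersion _) hW' hP (hW.primeIdealOf w)).symm
  refine ⟨Subtype.val '' (j ⁻¹' {p | (n : ℕ∞) ≤ LocCoh.depth (Localization.AtPrime p.asIdeal)
    (TensorProduct B (Localization.AtPrime p.asIdeal) Γ(F, W)) + φh p}), ?_,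
    W.isOpen.isOpenMap_subtype_val _ (hopen.preimage hj), ⟨x₀, hxW⟩, ?_, rfl⟩
  · rintro _ ⟨w, hw, rfl⟩
    rw [Set.mem_ofPred_eq, key w]
    exact hw
  · rw [Set.mem_preimage, Set.mem_ofPred_eq, ← key ⟨x₀, hxW⟩]
    exact hx₀

end Groth.Ega43FP2

namespace Groth.Ega43FP2

theorem isClosed_singleton_of_isClosed_subtype {X : Scheme.{u}} [JacobsonSpace X] {U : X.Opens} {x : ↥U}
    (h : IsClosed ({x} : Set ↥U)) : IsClosed ({(x : X)} : Set X) := by
  obtain ⟨C, hC, hCx⟩ := isClosed_induced_iff.1 h
  have e : ({(x : X)} : Set X) = (U : Set X) ∩ C := by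
    rw [← Set.image_singleton (f := Subtype.val), ← hCx]
    refine (Subtype.image_preimage_coe _ _).trans ?_
    rfl
  exact isClosed_singleton_of_isLocallyClosed_singleton (e ▸ U.isOpen.isLocallyClosed.inter hC.isLocallyClosed)

theorem height_eq_zero_of_isClosed {X : Scheme.{u}} {x : X} (h : IsClosed ({x} : Set X)) : Order.height x = 0 := by
  refine Order.height_eq_zero.2 fun y hy => le_of_eq ?_
  have := specializes_iff_mem_closure.1 (hy : x ⤳ y)
  rw [h.closure_eq] at this
  exact this.symm

theorem depth_eq_top_iff_stalk {X : Scheme.{u}} [IsLocallyNoetherian X] (F : X.Modules) (hF : Coh.IsCoh F) (x : X) :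
    LocCoh.depth ↑(X.presheaf.stalk x) ↑(F.presheaf.stalk x) = ⊤ ↔ Subsingleton ↑(F.presheaf.stalk x) := by
  have := Groth.SchemeMorphisms.finite_stalk hF x
  refine ⟨fun h => ?_, fun h => if_pos (Subsingleton.elim _ _)⟩
  rcases subsingleton_or_nontrivial ↑(F.presheaf.stalk x) with hs | hs
  · exact hs
  · have h1 := (Groth.LocCohBase.depth_le_supportDim (R := X.presheaf.stalk x) ↑(F.presheaf.stalk x)).trans
      (Module.supportDim_le_ringKrullDim _ _)
    rw [h] at h1
    exact absurd (h1.trans_lt ringKrullDim_lt_top) (lt_irrefl _)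

end Groth.Ega43FP2
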