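import Mathlib
import Groth.Agent.Ega43FP2.RectifiedDepthScheme

/-!
# The rectified depth on regular biequidimensional schemes
-/

set_option autoImplicit false
set_option linter.style.haveILetI false
universe u

open CategoryTheory AlgebraicGeometry TopologicalSpace
open Groth.EGA43Topo.JacobsonDim

set_option synthInstance.maxHeartbeats 400000
set_option maxHeartbeats 1600000

attribute [local instance] pointsOrder

namespace Groth.Ega43FP2

variable {X : Scheme.{u}}
  (hreg : ∀ x : X, IsRegularLocalRing ↑(X.presheaf.stalk x))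
  (hfin : topologicalKrullDim X < ⊤)
  (hcomp : ∀ C ∈ irreducibleComponents (X : Type u), topologicalKrullDim ↥C = topologicalKrullDim X)
  (hchain : ∀ (y : X) (T : Set X), IsClosed T → IsIrreducible T → y ∈ T →
    topologicalKrullDim ↥T = topologicalKrullDim ↥(closure ({y} : Set X)) + topologicalKrullDim ↥{t : X | t ∈ T ∧ t ⤳ y})

include hreg hcomp hchain in
/-- The dimension of a regular biequidimensional scheme at a point. -/
theorem dim_closure_add_ringKrullDim (x : X) :
    ((Order.height x : ℕ∞) : WithBot ℕ∞) + ringKrullDim (X.presheaf.stalk x) = topologicalKrullDim X := by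
  haveI := hreg x
  haveI : IsDomain (X.presheaf.stalk x) := Groth.Ega4Algebra1.isDomain_of_isRegularLocalRing _
  let ξ : X := (X.fromSpecStalk x).base (⊥ : PrimeSpectrum (X.presheaf.stalk x))
  have hgen : ∀ t : X, t ⤳ x → ξ ⤳ t := by
    intro t ht
    obtain ⟨Q, hQ⟩ := exists_fromSpecStalk_eq (s := x) (x := t) ht
    exact hQ ▸ (fromSpecStalk_le_iff x Q ⊥).2 bot_le
  let C := irreducibleComponent x
  have hC : C ∈ irreducibleComponents (X : Type u) := irreducibleComponent_mem_irreducibleComponents x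
  have hη := hC.1.isGenericPoint_genericPoint (isClosed_of_mem_irreducibleComponents C hC)
  have hξη : ξ ⤳ hC.1.genericPoint := hgen _ (hη.specializes mem_irreducibleComponent)
  have hξC : ξ ∈ C := by
    have hsub : C ⊆ closure {ξ} := fun c hc =>
      specializes_iff_mem_closure.1 (hξη.trans (hη.specializes hc))
    exact hC.2 isIrreducible_singleton.closure hsub (subset_closure rfl)
  have hall : ∀ t : X, t ⤳ x → t ∈ C := fun t ht =>
    (hgen t ht).mem_closed (isClosed_of_mem_irreducibleComponents C hC) hξC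
  have hCc := isClosed_of_mem_irreducibleComponents C hC
  haveI := (gen_inter_facts (X := X) hCc x).1
  rw [← hcomp C hC, hchain x C hCc hC.1 mem_irreducibleComponent, Groth.Variety2.Dim.dim_closure_singleton,
    dim_eq_krullDim, ← (gen_inter_facts (X := X) hCc x).2, ringKrullDim]
  congr 1
  have huniv : ((X.fromSpecStalk x).base ⁻¹' C : Set (PrimeSpectrum (X.presheaf.stalk x))) = Set.univ := by
    refine Set.eq_univ_of_forall fun q => hall _ ?_
    have : (X.fromSpecStalk x).base q ∈ Set.range (X.fromSpecStalk x).base := ⟨q, rfl⟩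
    rwa [Scheme.range_fromSpecStalk] at this
  rw [huniv]
  exact (Order.krullDim_eq_of_orderIso OrderIso.Set.univ).symm

include hreg hfin hcomp hchain in
theorem exists_natCast_dim (x : X) :
    ∃ N h : ℕ, topologicalKrullDim X = (N : WithBot ℕ∞) ∧ Order.height x = (h : ℕ∞) := by
  have hadd := dim_closure_add_ringKrullDim hreg hcomp hchain x
  haveI := hreg x
  obtain ⟨c, hc⟩ := WithBot.ne_bot_iff_exists.1 (ringKrullDim_ne_bot (R := X.presheaf.stalk x))
  rw [← hc, ← WithBot.coe_add] at hadd
  rw [← hadd] at hfin ⊢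
  have hne : Order.height x + c ≠ ⊤ := fun h => by
    rw [h] at hfin
    exact lt_irrefl _ hfin
  obtain ⟨N, hN⟩ := ENat.ne_top_iff_exists.1 hne
  obtain ⟨h, hh⟩ := ENat.ne_top_iff_exists.1 (show Order.height x ≠ ⊤ from fun h => hne (by rw [h, top_add]))
  exact ⟨N, h, by rw [← hN]; rfl, hh.symm⟩

include hreg hfin hcomp hchain in
theorem depth_add_height_add_pd (F : X.Modules) (hF : Coh.IsCoh F) (x : X) (hx : x ∈ CohB1.support F) :
    ((LocCoh.depth ↑(X.presheaf.stalk x) ↑(F.presheaf.stalk x) : ℕ∞) : WithBot ℕ∞) +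
        topologicalKrullDim ↥(closure ({x} : Set X)) +
        projectiveDimension (ModuleCat.of ↑(X.presheaf.stalk x) ↑(F.presheaf.stalk x)) =
      topologicalKrullDim X := by
  haveI := hreg x
  haveI := Groth.SchemeMorphisms.finite_stalk hF x
  haveI : Nontrivial ↑(F.presheaf.stalk x) := not_subsingleton_iff_nontrivial.1 hx
  obtain ⟨e, d, he, he', hd, hdim⟩ := exists_pd_depth (X.presheaf.stalk x) (F.presheaf.stalk x)
  have hpd : projectiveDimension (ModuleCat.of ↑(X.presheaf.stalk x) ↑(F.presheaf.stalk x)) = (e : WithBot ℕ∞) :=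
    le_antisymm ((projectiveDimension_le_iff _ e).2 he) ((projectiveDimension_ge_iff _ e).2 he')
  rw [← dim_closure_add_ringKrullDim hreg hcomp hchain x, Groth.Variety2.Dim.dim_closure_singleton, hd, hpd, hdim]
  obtain ⟨N, h, -, hh⟩ := exists_natCast_dim hreg hfin hcomp hchain x
  rw [hh]
  norm_cast
  omega

include hreg hfin hcomp hchain in
theorem isOpen_le_depth_add_height_biequidim [IsLocallyNoetherian X] (F : X.Modules) (hF : Coh.IsCoh F) (n : ℕ) :
    IsOpen {x : X | (n : ℕ∞) ≤ LocCoh.depth ↑(X.presheaf.stalk x) ↑(F.presheaf.stalk x) + Order.height x} := by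
  have : F.IsQuasicoherent := hF.1
  rw [isOpen_iff_forall_mem_open]
  intro x₀ hx₀
  obtain ⟨W, hW, hxW, -⟩ := exists_isAffineOpen_mem_and_subset (U := (⊤ : X.Opens)) (x := x₀) trivial
  haveI : IsRegularRing Γ(X, W) := isRegularRing_sections hreg hW
  haveI : Module.Finite Γ(X, W) Γ(F, W) := Groth.QCohMod.finite_sections F hF.2 hW
  obtain ⟨N, -, hN, -⟩ := exists_natCast_dim hreg hfin hcomp hchain x₀
  let φh : PrimeSpectrum Γ(X, W) → ℕ := fun p => (Order.height (α := X) (hW.fromSpec p)).toNat
  have hh : ∀ x : X, ((Order.height x).toNat : ℕ∞) = Order.height x := fun x => by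
    obtain ⟨-, h, -, hh⟩ := exists_natCast_dim hreg hfin hcomp hchain x
    rw [hh, ENat.toNat_natCast]
  have hopen := isOpen_le_depth_add_of_regular Γ(X, W) (fun p => inferInstance) Γ(F, W) φh (fun _ => N)
    (fun p => by
      have hpW : hW.fromSpec p ∈ W := hW.range_fromSpec.subset ⟨p, rfl⟩
      let _ := (X.presheaf.germ W (hW.fromSpec p) hpW).hom.toAlgebra
      haveI : IsLocalization p.asIdeal.primeCompl (X.presheaf.stalk (hW.fromSpec p)) := hW.isLocalization_stalk' p hpW
      rw [ringKrullDim_eq_of_ringEquiv (IsLocalization.algEquiv p.asIdeal.primeCompl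
        (Localization.AtPrime p.asIdeal) (X.presheaf.stalk (hW.fromSpec p))).toRingEquiv, ← hN,
        ← WithBot.coe_natCast, hh]
      exact dim_closure_add_ringKrullDim hreg hcomp hchain _)
    (fun _ _ _ => rfl) n
  let j : ↥W → PrimeSpectrum Γ(X, W) := fun w => hW.primeIdealOf w
  have hj : Continuous j := hW.isoSpec.hom.continuous
  have key : ∀ w : ↥W, LocCoh.depth ↑(X.presheaf.stalk w.1) ↑(F.presheaf.stalk w.1) + Order.height w.1 =
      LocCoh.depth (Localization.AtPrime (j w).asIdeal)
        (TensorProduct Γ(X, W) (Localization.AtPrime (j w).asIdeal) Γ(F, W)) + φh (j w) := by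
    intro w
    rw [depth_stalk_eq_localization F hW (B := Γ(X, W)) Function.surjective_id w.1 w.2 (j w) rfl]
    show _ = _ + ((Order.height (α := X) (hW.fromSpec (hW.primeIdealOf w))).toNat : ℕ∞)
    rw [hW.fromSpec_primeIdealOf, hh]
  refine ⟨Subtype.val '' (j ⁻¹' {p | (n : ℕ∞) ≤ LocCoh.depth (Localization.AtPrime p.asIdeal)
    (TensorProduct Γ(X, W) (Localization.AtPrime p.asIdeal) Γ(F, W)) + φh p}), ?_,
    W.isOpen.isOpenMap_subtype_val _ (hopen.preimage hj), ⟨x₀, hxW⟩, ?_, rfl⟩
  · rintro _ ⟨w, hw, rfl⟩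
    rw [Set.mem_ofPred_eq, key w]
    exact hw
  · rw [Set.mem_preimage, Set.mem_ofPred_eq, ← key ⟨x₀, hxW⟩]
    exact hx₀

end Groth.Ega43FP2
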