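import Mathlib
import Groth.Agent.Ega43FP2.DepthFibre
import Groth.Agent.Ega4Algebra1.PdBasic

/-!
# Fibre local rings of affine space under base change
-/

set_option autoImplicit false
set_option linter.style.haveILetI false
universe u

open scoped TensorProduct

set_option synthInstance.maxHeartbeats 400000
set_option maxHeartbeats 1600000

attribute [local instance] MvPolynomial.algebraMvPolynomial

namespace Groth.Ega43FP2

variable {A : Type u} [CommRing A] {n : ℕ}

theorem exists_clear_denominators (p : Ideal A) [p.IsPrime] (x : MvPolynomial (Fin n) p.ResidueField) :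
    ∃ a, a ∉ p ∧ ∃ b, MvPolynomial.C (algebraMap A p.ResidueField a) * x =
      MvPolynomial.map (algebraMap A p.ResidueField) b := by
  induction x using MvPolynomial.induction_on with
  | C k =>
    obtain ⟨b, c, hc, rfl⟩ := IsFractionRing.div_surjective (A ⧸ p) k
    obtain ⟨b, rfl⟩ := Ideal.Quotient.mk_surjective b
    obtain ⟨c, rfl⟩ := Ideal.Quotient.mk_surjective c
    have hcp : c ∉ p := fun h => nonZeroDivisors.ne_zero hc (Ideal.Quotient.eq_zero_iff_mem.2 h)
    refine ⟨c, hcp, MvPolynomial.C b, ?_⟩
    rw [← map_mul, MvPolynomial.map_C]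
    congr 1
    show algebraMap A p.ResidueField c * (algebraMap A p.ResidueField b / algebraMap A p.ResidueField c) = _
    rw [mul_div_cancel₀ _ (by rwa [ne_eq, Ideal.algebraMap_residueField_eq_zero])]
  | add x y hx hy =>
    obtain ⟨a, ha, b, hb⟩ := hx
    obtain ⟨a', ha', b', hb'⟩ := hy
    refine ⟨a * a', ‹p.IsPrime›.mul_notMem ha ha', MvPolynomial.C a' * b + MvPolynomial.C a * b', ?_⟩
    rw [map_add, map_mul (MvPolynomial.map _), map_mul (MvPolynomial.map _), ← hb, ← hb', MvPolynomial.map_C,
      MvPolynomial.map_C, map_mul, map_mul]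
    ring
  | mul_X x i hx =>
    obtain ⟨a, ha, b, hb⟩ := hx
    refine ⟨a, ha, b * MvPolynomial.X i, ?_⟩
    rw [map_mul, ← hb, MvPolynomial.map_X, mul_assoc]

/-- The fibre local ring is a localization of the polynomial ring over the residue field. -/
theorem exists_fibre_localization (P : PrimeSpectrum (MvPolynomial (Fin n) A)) :
    ∃ ψ : MvPolynomial (Fin n) (P.asIdeal.under A).ResidueField →+* FibRing P A,
      (∀ b, ψ (MvPolynomial.map (algebraMap A _) b) = algebraMap (MvPolynomial (Fin n) A) (FibRing P A) b) ∧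
      ∃ S : Submonoid (MvPolynomial (Fin n) (P.asIdeal.under A).ResidueField),
        letI := ψ.toAlgebra; IsLocalization S (FibRing P A) := by
  let p := P.asIdeal.under A
  let B := MvPolynomial (Fin n) A
  let BP := Localization.AtPrime P.asIdeal
  let J := p.map (algebraMap A BP)
  let π : BP →+* FibRing P A := Ideal.Quotient.mk J
  have hπ : ∀ b : B, algebraMap B (FibRing P A) b = π (algebraMap B BP b) := fun b => rfl
  have hA : ∀ a : A, algebraMap A (FibRing P A) a = π (algebraMap A BP a) := fun a => rfl
  let θ : p.ResidueField →+* FibRing P A :=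
    Ideal.ResidueField.lift p (algebraMap A (FibRing P A))
      (fun a ha => RingHom.mem_ker.2 ((hA a).trans (Ideal.Quotient.eq_zero_iff_mem.2 (Ideal.mem_map_of_mem _ ha))))
      (fun a ha => by
        show IsUnit (algebraMap A (FibRing P A) a)
        rw [hA, IsScalarTower.algebraMap_apply A B BP]
        exact (IsLocalization.map_units BP (⟨algebraMap A B a, ha⟩ : P.asIdeal.primeCompl)).map π)
  let ψ : MvPolynomial (Fin n) p.ResidueField →+* FibRing P A :=
    MvPolynomial.eval₂Hom θ fun i => algebraMap B (FibRing P A) (MvPolynomial.X i)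
  have hψ : ∀ b, ψ (MvPolynomial.map (algebraMap A _) b) = algebraMap B (FibRing P A) b := by
    intro b
    refine RingHom.congr_fun (f := ψ.comp (MvPolynomial.map (algebraMap A p.ResidueField)))
      (g := algebraMap B (FibRing P A)) ?_ b
    refine MvPolynomial.ringHom_ext (fun a => ?_) fun i => ?_
    · show ψ (MvPolynomial.map _ (MvPolynomial.C a)) = _
      rw [MvPolynomial.map_C, MvPolynomial.eval₂Hom_C, Ideal.ResidueField.lift_algebraMap, ← MvPolynomial.algebraMap_eq,
        ← IsScalarTower.algebraMap_apply]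
    · show ψ (MvPolynomial.map _ (MvPolynomial.X i)) = _
      rw [MvPolynomial.map_X, MvPolynomial.eval₂Hom_X']
  refine ⟨ψ, hψ, (IsUnit.submonoid (FibRing P A)).comap ψ, ?_⟩
  letI := ψ.toAlgebra
  have hs : ∀ s : B, s ∉ P.asIdeal → IsUnit (ψ (MvPolynomial.map (algebraMap A _) s)) := fun s hs => by
    rw [hψ, hπ]
    exact (IsLocalization.map_units BP (⟨s, hs⟩ : P.asIdeal.primeCompl)).map π
  refine (isLocalization_iff _ _).2 ⟨?_, ?_, ?_⟩
  · exact fun y => y.2
  · intro z
    obtain ⟨z, rfl⟩ := Ideal.Quotient.mk_surjective z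
    obtain ⟨⟨b, s⟩, hbs⟩ := IsLocalization.surj P.asIdeal.primeCompl z
    refine ⟨⟨MvPolynomial.map (algebraMap A _) b, ⟨MvPolynomial.map (algebraMap A _) s.1, hs _ s.2⟩⟩, ?_⟩
    show π z * ψ _ = ψ _
    rw [hψ, hψ, hπ, hπ, ← map_mul]
    exact congrArg π hbs
  · intro x y hxy
    obtain ⟨a, ha, b, hb⟩ := exists_clear_denominators p (x - y)
    have h0 : π (algebraMap B BP b) = 0 := by
      rw [← hπ, ← hψ, ← hb, map_mul, map_sub, show ψ x = ψ y from hxy, sub_self, mul_zero]
    rw [Ideal.Quotient.eq_zero_iff_mem] at h0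
    have h1 : algebraMap B BP b ∈ (p.map (algebraMap A B)).map (algebraMap B BP) := by
      rw [Ideal.map_map, ← IsScalarTower.algebraMap_eq]
      exact h0
    obtain ⟨s, hsP, hsb⟩ := (IsLocalization.algebraMap_mem_map_algebraMap_iff P.asIdeal.primeCompl BP _ b).1 h1
    refine ⟨⟨MvPolynomial.map (algebraMap A _) s * MvPolynomial.C (algebraMap A _ a), ?_⟩, ?_⟩
    · show IsUnit (ψ _)
      rw [map_mul]
      refine (hs s hsP).mul ?_
      rw [MvPolynomial.eval₂Hom_C]
      exact (Ne.isUnit (by rwa [ne_eq, Ideal.algebraMap_residueField_eq_zero])).map θ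
    · refine sub_eq_zero.1 ?_
      rw [← mul_sub, mul_assoc, hb, ← map_mul]
      have hle : p.map (algebraMap A B) ≤ RingHom.ker (MvPolynomial.map (σ := Fin n) (algebraMap A p.ResidueField)) := by
        refine Ideal.map_le_iff_le_comap.2 fun c hc => ?_
        show MvPolynomial.map _ (MvPolynomial.C c) = 0
        rw [MvPolynomial.map_C, Ideal.algebraMap_residueField_eq_zero.2 hc, map_zero]
      exact hle hsb

variable {A' : Type u} [CommRing A'] [Algebra A A']

/-- The map of fibre local rings of affine space induced by a base change is flat and local. -/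
theorem exists_fibRing_baseChange (P' : PrimeSpectrum (MvPolynomial (Fin n) A'))
    (P : PrimeSpectrum (MvPolynomial (Fin n) A))
    (hP : P = P'.comap (algebraMap (MvPolynomial (Fin n) A) (MvPolynomial (Fin n) A'))) :
    ∃ φ : FibRing P A →+* FibRing P' A', IsLocalHom φ ∧ φ.Flat ∧
      φ.comp (algebraMap (MvPolynomial (Fin n) A) (FibRing P A)) =
        (algebraMap (MvPolynomial (Fin n) A') (FibRing P' A')).comp
          (algebraMap (MvPolynomial (Fin n) A) (MvPolynomial (Fin n) A')) := by
  subst hP
  set P := P'.comap (algebraMap (MvPolynomial (Fin n) A) (MvPolynomial (Fin n) A')) with hP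
  let B := MvPolynomial (Fin n) A
  let B' := MvPolynomial (Fin n) A'
  let p := P.asIdeal.under A
  let p' := P'.asIdeal.under A'
  have hcomap : P.asIdeal = P'.asIdeal.comap (algebraMap B B') := rfl
  have hBC : ∀ a : A, algebraMap B B' (MvPolynomial.C a) = MvPolynomial.C (algebraMap A A' a) := fun a => by
    rw [MvPolynomial.algebraMap_def, MvPolynomial.map_C]
  have hpp' : p = p'.comap (algebraMap A A') := by
    ext a
    show algebraMap B B' (algebraMap A B a) ∈ P'.asIdeal ↔ algebraMap A' B' (algebraMap A A' a) ∈ P'.asIdeal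
    rw [MvPolynomial.algebraMap_eq, MvPolynomial.algebraMap_eq, hBC]
  -- the local map
  let ℓ : Localization.AtPrime P.asIdeal →+* Localization.AtPrime P'.asIdeal :=
    Localization.localRingHom P.asIdeal P'.asIdeal (algebraMap B B') hcomap
  let φ : FibRing P A →+* FibRing P' A' := Ideal.quotientMap _ ℓ (by
    rw [Ideal.map_le_iff_le_comap]
    intro a ha
    show ℓ (algebraMap A (Localization.AtPrime P.asIdeal) a) ∈ p'.map (algebraMap A' (Localization.AtPrime P'.asIdeal))
    rw [IsScalarTower.algebraMap_apply A B (Localization.AtPrime P.asIdeal),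
      Localization.localRingHom_to_map, MvPolynomial.algebraMap_eq, hBC, ← MvPolynomial.algebraMap_eq,
      ← IsScalarTower.algebraMap_apply]
    exact Ideal.mem_map_of_mem _ ((SetLike.ext_iff.1 hpp' a).1 ha : algebraMap A A' a ∈ p'))
  have hφ : ∀ b : B, φ (algebraMap B (FibRing P A) b) = algebraMap B' (FibRing P' A') (algebraMap B B' b) := by
    intro b
    refine (Ideal.quotientMap_mk (f := ℓ)).trans ?_
    rw [Localization.localRingHom_to_map]
    rfl
  refine ⟨φ, ?_, ?_, RingHom.ext hφ⟩
  · refine ⟨fun z hz => ?_⟩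
    obtain ⟨z, rfl⟩ := Ideal.Quotient.mk_surjective z
    haveI : IsLocalHom (Ideal.Quotient.mk (p'.map (algebraMap A' (Localization.AtPrime P'.asIdeal)))) :=
      IsLocalHom.of_surjective _ Ideal.Quotient.mk_surjective
    refine IsUnit.map (Ideal.Quotient.mk _) (IsUnit.of_map ℓ z ?_)
    exact IsUnit.of_map (Ideal.Quotient.mk (p'.map (algebraMap A' (Localization.AtPrime P'.asIdeal)))) _
      (show IsUnit (Ideal.Quotient.mk (p'.map (algebraMap A' (Localization.AtPrime P'.asIdeal))) (ℓ z)) from hz)
  · obtain ⟨ψ, hψ, S, hS⟩ := exists_fibre_localization P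
    obtain ⟨ψ', hψ', S', hS'⟩ := exists_fibre_localization P'
    let σ : p.ResidueField →+* p'.ResidueField := Ideal.ResidueField.map p p' (algebraMap A A') hpp'
    letI : Algebra p.ResidueField p'.ResidueField := σ.toAlgebra
    let T := MvPolynomial (Fin n) p.ResidueField
    let T' := MvPolynomial (Fin n) p'.ResidueField
    letI := ψ.toAlgebra
    letI := ψ'.toAlgebra
    haveI : IsLocalization S (FibRing P A) := hS
    haveI : IsLocalization S' (FibRing P' A') := hS'
    haveI : Module.Flat T' (FibRing P' A') := IsLocalization.flat _ S'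
    haveI : Module.Flat T T' := Module.Flat.isBaseChange _ _ _ _
      (Algebra.IsPushout.out (R := p.ResidueField) (S := T) (R' := p'.ResidueField) (S' := T'))
    letI : Algebra (FibRing P A) (FibRing P' A') := φ.toAlgebra
    letI : Algebra T (FibRing P' A') := (φ.comp ψ).toAlgebra
    haveI : IsScalarTower T (FibRing P A) (FibRing P' A') := IsScalarTower.of_algebraMap_eq fun _ => rfl
    haveI : IsScalarTower T T' (FibRing P' A') := IsScalarTower.of_algebraMap_eq' (by
      refine MvPolynomial.ringHom_ext (fun k => ?_) fun i => ?_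
      · refine RingHom.congr_fun (Ideal.ResidueField.ringHom_ext (I := p)
          (f := (φ.comp ψ).comp MvPolynomial.C)
          (g := (ψ'.comp (algebraMap T T')).comp MvPolynomial.C) (RingHom.ext fun a => ?_)) k
        show φ (ψ (MvPolynomial.C (algebraMap A _ a))) = ψ' (algebraMap T T' (MvPolynomial.C (algebraMap A _ a)))
        rw [← MvPolynomial.map_C, hψ, hφ, hBC, MvPolynomial.map_C,
          show algebraMap T T' (MvPolynomial.C (algebraMap A p.ResidueField a)) =
            MvPolynomial.C (σ (algebraMap A p.ResidueField a)) by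
            rw [MvPolynomial.algebraMap_def, MvPolynomial.map_C]; rfl,
          Ideal.ResidueField.map_algebraMap, ← MvPolynomial.map_C (algebraMap A' p'.ResidueField), hψ']
      · show φ (ψ (MvPolynomial.X i)) = ψ' (algebraMap T T' (MvPolynomial.X i))
        rw [← MvPolynomial.map_X (algebraMap A p.ResidueField) i, hψ, hφ, MvPolynomial.algebraMap_def,
          MvPolynomial.algebraMap_def, MvPolynomial.map_X, MvPolynomial.map_X, MvPolynomial.map_X,
          ← MvPolynomial.map_X (algebraMap A' p'.ResidueField) i, hψ'])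
    haveI : Module.Flat T (FibRing P' A') := Module.Flat.trans T T' _
    exact RingHom.flat_algebraMap_iff.2 ((Module.flat_iff_of_isLocalization (FibRing P A) S _).2 inferInstance)

/-- The projective dimension of fibre stalks over affine space is invariant under base change. -/
theorem pdLT_fibre_baseChange_iff (N : Type u) [AddCommGroup N] [Module (MvPolynomial (Fin n) A) N]
    [Module.Finite (MvPolynomial (Fin n) A) N] (N' : Type u) [AddCommGroup N'] [Module (MvPolynomial (Fin n) A') N']
    (e : MvPolynomial (Fin n) A' ⊗[MvPolynomial (Fin n) A] N ≃ₗ[MvPolynomial (Fin n) A'] N')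
    (P' : PrimeSpectrum (MvPolynomial (Fin n) A')) (P : PrimeSpectrum (MvPolynomial (Fin n) A))
    (hP : P = P'.comap (algebraMap (MvPolynomial (Fin n) A) (MvPolynomial (Fin n) A'))) (i : ℕ) :
    Groth.Ega4Algebra1.PdLT (FibRing P' A') (FibRing P' A' ⊗[MvPolynomial (Fin n) A'] N') i ↔
      Groth.Ega4Algebra1.PdLT (FibRing P A) (FibRing P A ⊗[MvPolynomial (Fin n) A] N) i := by
  obtain ⟨φ, hloc, hflat, hcomp⟩ := exists_fibRing_baseChange P' P hP
  let B := MvPolynomial (Fin n) A
  let B' := MvPolynomial (Fin n) A'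
  let R := FibRing P A
  let R' := FibRing P' A'
  letI : Algebra R R' := φ.toAlgebra
  haveI : IsLocalHom (algebraMap R R') := hloc
  haveI : Module.Flat R R' := hflat
  haveI : Module.FaithfullyFlat R R' := Module.FaithfullyFlat.of_flat_of_isLocalHom
  haveI : IsScalarTower B B' R' := inferInstance
  haveI : IsScalarTower B R R' := IsScalarTower.of_algebraMap_eq' (R := B) (S := R) (A := R')
    ((IsScalarTower.algebraMap_eq B B' R').trans hcomp.symm)
  let E : R' ⊗[R] (R ⊗[B] N) ≃ₗ[R'] R' ⊗[B'] N' :=
    (TensorProduct.AlgebraTensorModule.cancelBaseChange B R R' R' N).trans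
      ((TensorProduct.AlgebraTensorModule.cancelBaseChange B B' R' R' N).symm.trans
        (TensorProduct.AlgebraTensorModule.congr (LinearEquiv.refl R' R') e))
  constructor
  · intro h
    have h' := Groth.Ega4Algebra1.PdLT.of_equiv (R := R') E.symm h
    cases i with
    | zero =>
      rw [Groth.Ega4Algebra1.PdLT.zero_iff] at h' ⊢
      exact (Module.FaithfullyFlat.subsingleton_tensorProduct_iff_right R R').1 h'
    | succ i => exact Groth.Ega4Algebra1.PdLT.of_baseChange R' i h'
  · exact fun h => Groth.Ega4Algebra1.PdLT.of_equiv (R := R') E (Groth.Ega4Algebra1.PdLT.baseChange R' i h)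

end Groth.Ega43FP2
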