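import Mathlib
import Groth.Agent.Ega43FP2.FibBaseChange
import Groth.Agent.FlatMorOne.FlatStratAlgebra
import Groth.Agent.SpectralTopology.Constructible

/-!
# Constructibility of the loci of projective dimension in the fibres of affine space
-/

set_option autoImplicit false
set_option linter.style.haveILetI false
universe u

open CategoryTheory Topology
open scoped TensorProduct

set_option synthInstance.maxHeartbeats 400000
set_option maxHeartbeats 1600000

attribute [local instance] MvPolynomial.algebraMvPolynomial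

namespace Groth.Ega43FP2

variable {A : Type u} [CommRing A] {n : ℕ}

/-- The locus of `pd < i` in the fibres of affine space. -/
def pdLocus (A : Type u) [CommRing A] (n : ℕ) (N : Type u) [AddCommGroup N] [Module (MvPolynomial (Fin n) A) N] (i : ℕ) :
    Set (PrimeSpectrum (MvPolynomial (Fin n) A)) :=
  {P | Groth.Ega4Algebra1.PdLT (FibRing P A) (FibRing P A ⊗[MvPolynomial (Fin n) A] N) i}

theorem isOpen_pdLocus_of_flat (N : FPFlat A (MvPolynomial (Fin n) A)) (i : ℕ) :
    IsOpen (pdLocus A n N.carrier i) := by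
  convert isOpen_hasProjectiveDimensionLT (A := A) (MvPolynomial (Fin n) A) i N using 1
  ext P
  exact hasProjectiveDimensionLT_stk_iff P i N

theorem preimage_pdLocus {A' : Type u} [CommRing A'] [Algebra A A'] (N : Type u) [AddCommGroup N]
    [Module (MvPolynomial (Fin n) A) N] [Module.Finite (MvPolynomial (Fin n) A) N]
    (N' : Type u) [AddCommGroup N'] [Module (MvPolynomial (Fin n) A') N']
    (e : MvPolynomial (Fin n) A' ⊗[MvPolynomial (Fin n) A] N ≃ₗ[MvPolynomial (Fin n) A'] N') (i : ℕ) :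
    PrimeSpectrum.comap (algebraMap (MvPolynomial (Fin n) A) (MvPolynomial (Fin n) A')) ⁻¹' pdLocus A n N i =
      pdLocus A' n N' i :=
  Set.ext fun P' => (pdLT_fibre_baseChange_iff N N' e P' _ rfl i).symm

/-- The image of `Spec` of a localization of a quotient of the base. -/
theorem exists_point_over (a : A) (p : Ideal A) (P : PrimeSpectrum (MvPolynomial (Fin n) A))
    (hp : p ≤ P.asIdeal.under A) (ha : a ∉ P.asIdeal.under A) :
    ∃ P' : PrimeSpectrum (MvPolynomial (Fin n) (Localization.Away (Ideal.Quotient.mk p a))),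
      PrimeSpectrum.comap (algebraMap (MvPolynomial (Fin n) A) _) P' = P := by
  let A' := Localization.Away (Ideal.Quotient.mk p a)
  let B := MvPolynomial (Fin n) A
  let K := P.asIdeal.ResidueField
  let χ₀ : A ⧸ p →+* K := Ideal.Quotient.lift p ((algebraMap B K).comp (algebraMap A B)) fun x hx => by
    rw [RingHom.comp_apply, Ideal.algebraMap_residueField_eq_zero]
    exact hp hx
  have hu : IsUnit (χ₀ (Ideal.Quotient.mk p a)) := by
    rw [Ideal.Quotient.lift_mk, isUnit_iff_ne_zero, RingHom.comp_apply, ne_eq, Ideal.algebraMap_residueField_eq_zero]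
    exact ha
  let χ : A' →+* K := IsLocalization.Away.lift (Ideal.Quotient.mk p a) hu
  let ev : MvPolynomial (Fin n) A' →+* K :=
    MvPolynomial.eval₂Hom χ fun i => algebraMap B K (MvPolynomial.X i)
  have hev : ev.comp (algebraMap B (MvPolynomial (Fin n) A')) = algebraMap B K := by
    refine MvPolynomial.ringHom_ext (fun x => ?_) fun i => ?_
    · rw [RingHom.comp_apply, MvPolynomial.algebraMap_def, MvPolynomial.map_C, MvPolynomial.eval₂Hom_C,
        IsScalarTower.algebraMap_apply A (A ⧸ p) A', IsLocalization.Away.lift_eq, Ideal.Quotient.algebraMap_eq,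
        Ideal.Quotient.lift_mk]
      rfl
    · rw [RingHom.comp_apply, MvPolynomial.algebraMap_def, MvPolynomial.map_X, MvPolynomial.eval₂Hom_X']
  refine ⟨⟨RingHom.ker ev, RingHom.ker_isPrime ev⟩, PrimeSpectrum.ext ?_⟩
  show Ideal.comap _ (RingHom.ker ev) = P.asIdeal
  rw [RingHom.comap_ker, hev, Ideal.ker_algebraMap_residueField]

theorem exists_isOpen_preimage_eq (a : A) (p : Ideal A)
    (L' : Set (PrimeSpectrum (MvPolynomial (Fin n) (Localization.Away (Ideal.Quotient.mk p a))))) (hL' : IsOpen L') :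
    ∃ O : Set (PrimeSpectrum (MvPolynomial (Fin n) A)), IsOpen O ∧
      PrimeSpectrum.comap (algebraMap (MvPolynomial (Fin n) A) _) ⁻¹' O = L' := by
  let A' := Localization.Away (Ideal.Quotient.mk p a)
  let B' := MvPolynomial (Fin n) A'
  let σ := algebraMap (MvPolynomial (Fin n) A) B'
  have hA : ∀ x : A', ∃ b s, IsUnit (algebraMap A A' s) ∧ algebraMap A A' s * x = algebraMap A A' b := by
    intro x
    obtain ⟨k, b, hb⟩ := IsLocalization.Away.surj (Ideal.Quotient.mk p a) x
    obtain ⟨b, rfl⟩ := Ideal.Quotient.mk_surjective b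
    refine ⟨b, a ^ k, ?_, ?_⟩
    · rw [map_pow, IsScalarTower.algebraMap_apply A (A ⧸ p) A']
      exact (IsLocalization.Away.algebraMap_isUnit (S := A') (Ideal.Quotient.mk p a)).pow k
    · rw [map_pow, IsScalarTower.algebraMap_apply A (A ⧸ p) A', IsScalarTower.algebraMap_apply A (A ⧸ p) A', mul_comm]
      exact hb
  have hσC : ∀ x : A, σ (MvPolynomial.C x) = MvPolynomial.C (algebraMap A A' x) := fun x => by
    show algebraMap (MvPolynomial (Fin n) A) B' (MvPolynomial.C x) = _
    rw [MvPolynomial.algebraMap_def, MvPolynomial.map_C]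
  have hσX : ∀ i, σ (MvPolynomial.X i) = MvPolynomial.X i := fun i => by
    show algebraMap (MvPolynomial (Fin n) A) B' (MvPolynomial.X i) = _
    rw [MvPolynomial.algebraMap_def, MvPolynomial.map_X]
  have hB : ∀ x : B', ∃ (b : MvPolynomial (Fin n) A) (u : B'), IsUnit u ∧ u * x = σ b := by
    intro x
    suffices ∃ (b : MvPolynomial (Fin n) A) (s : A), IsUnit (algebraMap A A' s) ∧
        MvPolynomial.C (algebraMap A A' s) * x = σ b by
      obtain ⟨b, s, hs, h⟩ := this
      exact ⟨b, _, hs.map MvPolynomial.C, h⟩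
    induction x using MvPolynomial.induction_on with
    | C k =>
      obtain ⟨b, s, hs, h⟩ := hA k
      exact ⟨MvPolynomial.C b, s, hs, by rw [← map_mul, h, hσC]⟩
    | add x y hx hy =>
      obtain ⟨b, s, hs, hb⟩ := hx
      obtain ⟨b', s', hs', hb'⟩ := hy
      refine ⟨MvPolynomial.C s' * b + MvPolynomial.C s * b', s * s', (by rw [map_mul]; exact hs.mul hs'), ?_⟩
      rw [map_add, map_mul σ, map_mul σ, ← hb, ← hb', hσC, hσC, map_mul, map_mul]
      ring
    | mul_X x i hx =>
      obtain ⟨b, s, hs, hb⟩ := hx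
      exact ⟨b * MvPolynomial.X i, s, hs, by
        rw [map_mul, ← hb, hσX, mul_assoc]⟩
  refine ⟨⋃ b ∈ {b : MvPolynomial (Fin n) A | PrimeSpectrum.comap σ ⁻¹'
      (PrimeSpectrum.basicOpen b : Set (PrimeSpectrum (MvPolynomial (Fin n) A))) ⊆ L'},
    (PrimeSpectrum.basicOpen b : Set (PrimeSpectrum (MvPolynomial (Fin n) A))),
    isOpen_iUnion fun b => isOpen_iUnion fun _ => PrimeSpectrum.isOpen_basicOpen, ?_⟩
  ext P'
  simp only [Set.mem_preimage, Set.mem_iUnion, Set.mem_ofPred_eq, exists_prop]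
  constructor
  · rintro ⟨b, hb, hP⟩
    exact hb hP
  · intro hP
    obtain ⟨_, ⟨x, rfl⟩, hxP, hxL⟩ := PrimeSpectrum.isTopologicalBasis_basic_opens.isOpen_iff.mp hL' P' hP
    obtain ⟨b, v, hv, hb⟩ := hB x
    have hiff : ∀ Q : PrimeSpectrum B', σ b ∈ Q.asIdeal ↔ x ∈ Q.asIdeal := fun Q => by
      rw [← hb]
      exact ⟨fun h => (Q.isPrime.mem_or_mem h).resolve_left fun h' => Q.isPrime.ne_top (Ideal.eq_top_of_isUnit_mem _ h' hv),
        fun h => Ideal.mul_mem_left _ _ h⟩
    exact ⟨b, fun Q hQ => hxL (fun h => hQ ((hiff Q).2 h)), fun h => hxP ((hiff P').1 h)⟩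

theorem isConstructible_pdLocus_noetherian [IsNoetherianRing A] (N : Type u) [AddCommGroup N]
    [Module (MvPolynomial (Fin n) A) N] [Module.Finite (MvPolynomial (Fin n) A) N] (i : ℕ) :
    IsConstructible (pdLocus A n N i) := by
  letI : Module A N := Module.compHom N (algebraMap A (MvPolynomial (Fin n) A))
  haveI : IsScalarTower A (MvPolynomial (Fin n) A) N := IsScalarTower.of_algebraMap_smul fun _ _ => rfl
  refine Groth.SpectralTopology.isConstructible_of_forall_irreducible fun Z hZ hirr => ?_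
  obtain ⟨ζ, hζ⟩ := QuasiSober.sober hirr hZ
  have hζZ : ζ ∈ Z := hζ.def ▸ subset_closure rfl
  let p := ζ.asIdeal.under A
  obtain ⟨a, hap, hflat⟩ := Groth.FlatMorOne.exists_notMem_algStratFlat (M := N)
    (MvPolynomial (Fin n) A) p (Ideal.IsPrime.isRadical inferInstance) (Ideal.IsPrime.ne_top inferInstance)
  let A' := Localization.Away (Ideal.Quotient.mk p a)
  let B' := MvPolynomial (Fin n) A'
  let N' := B' ⊗[MvPolynomial (Fin n) A] N
  haveI : Module.Flat A' (A' ⊗[A] N) := by
    refine hflat A' ?_ ?_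
    · refine eq_bot_iff.2 (Ideal.map_le_iff_le_comap.2 fun x hx => ?_)
      rw [Ideal.mem_comap, Ideal.mem_bot, IsScalarTower.algebraMap_apply A (A ⧸ p) A',
        Ideal.Quotient.algebraMap_eq, Ideal.Quotient.eq_zero_iff_mem.2 hx, map_zero]
    · refine Ideal.eq_top_of_isUnit_mem _ (Ideal.mem_map_of_mem _ (Ideal.mem_sup_right (Ideal.mem_span_singleton_self a))) ?_
      rw [IsScalarTower.algebraMap_apply A (A ⧸ p) A']
      exact IsLocalization.Away.algebraMap_isUnit (S := A') (Ideal.Quotient.mk p a)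
  haveI : Module.Flat A' N' :=
    Module.Flat.of_linearEquiv (Algebra.IsPushout.cancelBaseChange A A' (MvPolynomial (Fin n) A) B' N)
  haveI : Module.FinitePresentation B' N' := Module.finitePresentation_of_finite B' N'
  let NF : FPFlat A' B' := ⟨N'⟩
  obtain ⟨O, hO, hOpre⟩ := exists_isOpen_preimage_eq a p _ (isOpen_pdLocus_of_flat NF i)
  rw [← preimage_pdLocus N N' (LinearEquiv.refl B' _)] at hOpre
  let D : Set (PrimeSpectrum (MvPolynomial (Fin n) A)) :=
    PrimeSpectrum.basicOpen (algebraMap A (MvPolynomial (Fin n) A) a)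
  have hD : IsOpen D := PrimeSpectrum.isOpen_basicOpen
  have hmem : ∀ P ∈ Z, P ∈ D → (P ∈ pdLocus A n N i ↔ P ∈ O) := by
    intro P hP hPD
    obtain ⟨P', rfl⟩ := exists_point_over a p P
      (Ideal.comap_mono ((PrimeSpectrum.le_iff_specializes _ _).2 (hζ.specializes hP))) hPD
    exact (Set.ext_iff.1 hOpre P').symm
  have hζD : ζ ∈ D := hap
  by_cases hE : ζ ∈ O
  · exact Or.inr ⟨O ∩ D, hO.inter hD, ⟨ζ, ⟨hE, hζD⟩, hζZ⟩, fun P hP => (hmem P hP.2 hP.1.2).2 hP.1.1⟩
  · left
    rw [IsNowhereDense, Set.eq_empty_iff_forall_notMem]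
    intro z hz
    obtain ⟨V, hVsub, hV, hzV⟩ := mem_interior.1 hz
    obtain ⟨V', hV', rfl⟩ := isOpen_induced_iff.1 hV
    have hζV : ζ ∈ V' := (hζ.specializes z.2).mem_open hV' hzV
    obtain ⟨w, hwD, hw⟩ := mem_closure_iff.1 (hVsub (show (⟨ζ, hζZ⟩ : Z) ∈ Subtype.val ⁻¹' V' from hζV))
      (Subtype.val ⁻¹' D) (hD.preimage continuous_subtype_val) hζD
    exact hE ((hζ.specializes w.2).mem_open hO ((hmem w.1 w.2 hwD).1 hw))

/-- The locus of `pd < i` in the fibres of affine space over any ring is constructible. -/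
theorem isConstructible_pdLocus (N : Type u) [AddCommGroup N] [Module (MvPolynomial (Fin n) A) N]
    [Module.FinitePresentation (MvPolynomial (Fin n) A) N] (i : ℕ) :
    IsConstructible (pdLocus A n N i) := by
  classical
  let B := MvPolynomial (Fin n) A
  obtain ⟨m, K, e, hK⟩ := Module.FinitePresentation.exists_fin (R := B) (M := N)
  obtain ⟨t, ht⟩ := hK
  let coe : Set A := ⋃ (v ∈ (t : Set (Fin m → B))) (i : Fin m), ((v i).coeffs : Set A)
  have hfin : coe.Finite := t.finite_toSet.biUnion fun v _ => Set.finite_iUnion fun i => Finset.finite_toSet _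
  let A₀ : Subalgebra ℤ A := Algebra.adjoin ℤ coe
  haveI : Algebra.FiniteType ℤ A₀ := .adjoin_of_finite hfin
  haveI : IsNoetherianRing A₀ := Algebra.FiniteType.isNoetherianRing ℤ A₀
  let B₀ := MvPolynomial (Fin n) A₀
  have hrange : ∀ v ∈ t, ∀ i, ∃ b₀ : B₀, algebraMap B₀ B b₀ = v i := by
    intro v hv i
    have : v i ∈ Set.range (MvPolynomial.map (algebraMap A₀ A)) := by
      rw [MvPolynomial.mem_range_map_iff_coeffs_subset]
      intro x hx
      exact ⟨⟨x, Algebra.subset_adjoin (Set.mem_biUnion hv (Set.mem_iUnion.mpr ⟨i, hx⟩))⟩, rfl⟩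
    exact this
  choose! v₀ hv₀ using hrange
  let k₀ : t → Fin m → B₀ := fun v i => v₀ v.1 i
  have hK' : K = Submodule.span B (Set.range fun j => fun i => algebraMap B₀ B (k₀ j i)) := by
    rw [← ht]
    refine congrArg (Submodule.span B) ?_
    ext v
    exact ⟨fun hv => ⟨⟨v, hv⟩, funext fun i => hv₀ v hv i⟩, by
      rintro ⟨⟨w, hw⟩, rfl⟩
      have : (fun i => algebraMap B₀ B (k₀ ⟨w, hw⟩ i)) = w := funext fun i => hv₀ w hw i
      simp only [this]
      exact Finset.mem_coe.mpr hw⟩
  letI : Module B₀ N := Module.compHom N (algebraMap B₀ B)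
  haveI : IsScalarTower B₀ B N := IsScalarTower.of_algebraMap_smul fun _ _ => rfl
  obtain ⟨f, hf⟩ := Groth.FlatMorOne.isBaseChange_quotient_span k₀ K e hK'
  haveI : Module.FinitePresentation B₀ ((Fin m → B₀) ⧸ Submodule.span B₀ (Set.range k₀)) :=
    Module.finitePresentation_of_finite _ _
  rw [← preimage_pdLocus _ N hf.equiv i]
  exact (AlgebraicGeometry.Spec.map (CommRingCat.ofHom (algebraMap B₀ B))).isConstructible_preimage (isConstructible_pdLocus_noetherian _ i)

end Groth.Ega43FP2
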