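import Mathlib
import Groth.Agent.Ega43FP2.PdConstructible
import Groth.Agent.Ega43FP2.DepthScheme
import Groth.Agent.FibreDim.Retrocompact

/-!
# Constructibility of the loci of rectified depth and codepth in the fibres
-/

set_option autoImplicit false
set_option linter.style.haveILetI false
universe u

open CategoryTheory AlgebraicGeometry Topology
open scoped TensorProduct

set_option synthInstance.maxHeartbeats 400000
set_option maxHeartbeats 3200000

namespace Groth.Ega43FP2

section Algebra

variable {A : Type u} [CommRing A] {n : ℕ} (P : PrimeSpectrum (MvPolynomial (Fin n) A))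
  (N : Type u) [AddCommGroup N] [Module (MvPolynomial (Fin n) A) N] [Module.Finite (MvPolynomial (Fin n) A) N]

/-- Rectified depth of the fibre stalk in terms of the projective dimension, without flatness. -/
theorem le_depth_add_iff_pdLT (m : ℕ) :
    (m : ℕ∞) ≤ LocCoh.depth (FibRing P A) (FibRing P A ⊗[MvPolynomial (Fin n) A] N) + fibTr P ↔
      P ∈ pdLocus A n N (n + 1 - m) := by
  classical
  let R := FibRing P A
  let F := R ⊗[MvPolynomial (Fin n) A] N
  cases subsingleton_or_nontrivial F with
  | inl hs =>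
    have h0 : LocCoh.depth R F = ⊤ := if_pos (Subsingleton.elim _ _)
    refine iff_of_true ?_ ?_
    · rw [h0, top_add]; exact le_top
    · exact Groth.Ega4Algebra1.PdLT.mono (Nat.zero_le _) (Groth.Ega4Algebra1.PdLT.zero_iff.2 hs)
  | inr hs =>
    have hne : ¬ Groth.Ega4Algebra1.PdLT R F 0 := fun h =>
      not_subsingleton F (Groth.Ega4Algebra1.PdLT.zero_iff.1 h)
    have hex : ∃ e, Groth.Ega4Algebra1.PdLT R F (e + 1) :=
      ⟨fibHt P, Groth.Ega4Algebra1.pdLT_all_of_isRegularLocalRing R (fibHt P) (ringKrullDim_fibRing P) _⟩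
    let e := Nat.find hex
    have he' : ¬ Groth.Ega4Algebra1.PdLT R F e := by
      intro h
      cases hz : e with
      | zero => exact hne (hz ▸ h)
      | succ k => exact Nat.find_min hex (show k < e by omega) (hz ▸ h)
    have hab := Groth.FrobLCI.auslander_buchsbaum e F (Nat.find_spec hex) he'
    rw [show LocCoh.depth R R = (fibHt P : ℕ∞) from depth_fibRing P] at hab
    obtain ⟨d, hd⟩ : ∃ d : ℕ, LocCoh.depth R F = (d : ℕ∞) := by
      refine ENat.ne_top_iff_exists.1 (fun h => ?_) |>.imp fun _ => Eq.symm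
      rw [h, add_top] at hab
      exact ENat.natCast_ne_top _ hab
    have hh : fibHt P = e + d := by rw [hd] at hab; exact_mod_cast hab
    show (m : ℕ∞) ≤ LocCoh.depth R F + fibTr P ↔ Groth.Ega4Algebra1.PdLT R F (n + 1 - m)
    rw [hd, ← Nat.cast_add, Nat.cast_le, fibTr]
    have hn := fibHt_le P
    constructor
    · intro h
      exact Groth.Ega4Algebra1.PdLT.mono (show e + 1 ≤ n + 1 - m by omega) (Nat.find_spec hex)
    · intro h
      by_contra hlt
      exact he' (Groth.Ega4Algebra1.PdLT.mono (show n + 1 - m ≤ e by omega) h)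

/-- The rectified depth is infinite when it exceeds the dimension of the affine space. -/
theorem depth_eq_top_of_le (h : ((n + 1 : ℕ) : ℕ∞) ≤
    LocCoh.depth (FibRing P A) (FibRing P A ⊗[MvPolynomial (Fin n) A] N) + fibTr P) :
    LocCoh.depth (FibRing P A) (FibRing P A ⊗[MvPolynomial (Fin n) A] N) = ⊤ := by
  rw [le_depth_add_iff_pdLT, Nat.sub_self] at h
  haveI := Groth.Ega4Algebra1.PdLT.zero_iff.1 h
  exact if_pos (Subsingleton.elim _ _)

omit [Module.Finite (MvPolynomial (Fin n) A) N] in
theorem isConstructible_depth_add_eq [Module.FinitePresentation (MvPolynomial (Fin n) A) N] (k : ℕ∞) :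
    IsConstructible {P : PrimeSpectrum (MvPolynomial (Fin n) A) |
      LocCoh.depth (FibRing P A) (FibRing P A ⊗[MvPolynomial (Fin n) A] N) + fibTr P = k} := by
  have h : ∀ m : ℕ, IsConstructible {P : PrimeSpectrum (MvPolynomial (Fin n) A) |
      (m : ℕ∞) ≤ LocCoh.depth (FibRing P A) (FibRing P A ⊗[MvPolynomial (Fin n) A] N) + fibTr P} := fun m => by
    simp only [le_depth_add_iff_pdLT]
    exact isConstructible_pdLocus N _
  cases k using ENat.recTopCoe with
  | top =>
    convert h (n + 1) using 1
    ext P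
    refine ⟨fun hP => hP.ge.trans' le_top, fun hP => ?_⟩
    rw [Set.mem_ofPred_eq, depth_eq_top_of_le P N hP, top_add]
  | coe k =>
    convert (h k).sdiff (h (k + 1)) using 1
    ext P
    simp only [Set.mem_ofPred_eq, Set.mem_sdiff, Nat.cast_add, Nat.cast_one]
    generalize LocCoh.depth (FibRing P A) (FibRing P A ⊗[MvPolynomial (Fin n) A] N) + fibTr P = v
    cases v using ENat.recTopCoe with
    | top => simp
    | coe v => norm_cast; omega

end Algebra

variable {X Y : Scheme.{u}} (f : X ⟶ Y) (F : X.Modules)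

/-- Local constructibility from affine pieces. -/
theorem isLocallyConstructible_of_charts [LocallyOfFinitePresentation f] (E : Set X)
    (h : ∀ {W : X.Opens} (hW : IsAffineOpen W) {O : Y.Opens} (_ : IsAffineOpen O) (_ : W ≤ f ⁻¹ᵁ O),
      IsConstructible (hW.fromSpec ⁻¹' E)) : IsLocallyConstructible E := by
  intro x
  obtain ⟨O, hO, hxO, -⟩ := exists_isAffineOpen_mem_and_subset (U := (⊤ : Y.Opens)) (x := f x) trivial
  obtain ⟨W, hW, hxW, hWO⟩ := exists_isAffineOpen_mem_and_subset (U := f ⁻¹ᵁ O) (x := x) hxO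
  refine ⟨W, W.2.mem_nhds hxW, W.2, ?_⟩
  convert! hW.isoSpec.hom.isConstructible_preimage (h hW hO hWO)
  ext z
  show z.1 ∈ E ↔ hW.fromSpec (hW.isoSpec.hom z) ∈ E
  rw [← Scheme.Hom.comp_apply, hW.isoSpec_hom_fromSpec]
  rfl

section Chart

variable [LocallyOfFinitePresentation f] {W : X.Opens} (hW : IsAffineOpen W) {O : Y.Opens} (hO : IsAffineOpen O)
  (hWO : W ≤ f ⁻¹ᵁ O)

include hO hWO in
/-- The rectified depth on a chart read on affine space. -/
theorem exists_chart_depth (G : Type u) [AddCommGroup G] [Module Γ(X, W) G] [Module.FinitePresentation Γ(X, W) G] :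
    ∃ (n : ℕ) (π : MvPolynomial (Fin n) Γ(Y, O) →+* Γ(X, W)) (_ : Module (MvPolynomial (Fin n) Γ(Y, O)) G),
      Module.FinitePresentation (MvPolynomial (Fin n) Γ(Y, O)) G ∧
      ∀ w : Spec Γ(X, W), ∀ (hz : f.fiberι (f (hW.fromSpec w)) (f.asFiber (hW.fromSpec w)) ∈ W),
        letI := Groth.SchDom.secAlg (f.fiberι _) (f.asFiber (hW.fromSpec w)) hz
        LocCoh.depth ((f.fiber _).presheaf.stalk (f.asFiber (hW.fromSpec w)))
            ((f.fiber _).presheaf.stalk (f.asFiber (hW.fromSpec w)) ⊗[Γ(X, W)] G) =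
          LocCoh.depth (FibRing (PrimeSpectrum.comap π w) Γ(Y, O))
            (FibRing (PrimeSpectrum.comap π w) Γ(Y, O) ⊗[MvPolynomial (Fin n) Γ(Y, O)] G) ∧
        Order.height (f.asFiber (hW.fromSpec w)) = (fibTr (PrimeSpectrum.comap π w) : ℕ∞) := by
  let : Algebra Γ(Y, O) Γ(X, W) := (f.appLE O W hWO).hom.toAlgebra
  have : Algebra.FinitePresentation Γ(Y, O) Γ(X, W) := f.finitePresentation_appLE hO hW hWO
  obtain ⟨n, φ, hφ, hker⟩ := Algebra.FinitePresentation.out (R := Γ(Y, O)) (A := Γ(X, W))
  let B := MvPolynomial (Fin n) Γ(Y, O)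
  let : Algebra B Γ(X, W) := φ.toRingHom.toAlgebra
  let mG : Module B G := Module.compHom G φ.toRingHom
  have : IsScalarTower B Γ(X, W) G := IsScalarTower.of_algebraMap_smul fun _ _ => rfl
  have hAlg : ∀ a : Γ(Y, O), φ (algebraMap Γ(Y, O) B a) = algebraMap Γ(Y, O) Γ(X, W) a := fun a => φ.commutes a
  have : Module.FinitePresentation B Γ(X, W) :=
    Module.finitePresentation_of_surjective (Algebra.linearMap B Γ(X, W)) hφ (by exact hker)
  have hfp : Module.FinitePresentation B G := Module.FinitePresentation.trans B G Γ(X, W)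
  refine ⟨n, φ.toRingHom, mG, hfp, fun w hz => ?_⟩
  have hP : chartPt f hW φ.toRingHom _ (f.asFiber (hW.fromSpec w)) hz = PrimeSpectrum.comap φ.toRingHom w := by
    refine congrArg (PrimeSpectrum.comap φ.toRingHom) (hW.fromSpec.isOpenEmbedding.injective ?_)
    rw [hW.fromSpec_primeIdealOf]
    exact f.fiberι_asFiber _
  rw [← hP]
  obtain ⟨μ, hμ, hcomm, hkerμ⟩ := exists_fibRing_hom f hO hW hWO φ.toRingHom hφ hAlg _ _ hz
  let := Groth.SchDom.secAlg (f.fiberι _) (f.asFiber (hW.fromSpec w)) hz
  exact ⟨(depth_supportDim_transfer (G := G) (F := FibRing _ Γ(Y, O)) hφ μ hμ hcomm hkerμ).1,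
    height_eq_fibTr f hO hW hWO φ.toRingHom hφ hAlg _ _ hz⟩

end Chart

/-- The level sets of the rectified depth of the fibres are locally constructible. -/
theorem isLocallyConstructible_depth_add_eq [LocallyOfFinitePresentation f] (hF : CohB1.IsFP F) (k : ℕ∞) :
    IsLocallyConstructible {x : X | (depthAt f F _ (f.asFiber x) : WithBot ℕ∞) + clDimAt f _ (f.asFiber x) =
      ((k : ℕ∞) : WithBot ℕ∞)} := by
  have : F.IsQuasicoherent := inferInstance
  refine isLocallyConstructible_of_charts f _ fun {W} hW {O} hO hWO => ?_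
  have : Module.FinitePresentation Γ(X, W) Γ(F, W) := Groth.Flatmor4.finitePresentation_sections_of_isFP F hF hW
  obtain ⟨n, π, mG, hfp, h⟩ := exists_chart_depth f hW hO hWO Γ(F, W)
  convert! (Spec.map (CommRingCat.ofHom π)).isConstructible_preimage (isConstructible_depth_add_eq Γ(F, W) k) using 1
  ext w
  have hmem : hW.fromSpec w ∈ W := hW.range_fromSpec.subset ⟨w, rfl⟩
  have hz : f.fiberι _ (f.asFiber (hW.fromSpec w)) ∈ W := (f.fiberι_asFiber _).symm ▸ hmem
  obtain ⟨h1, h2⟩ := h w hz
  let := Groth.SchDom.secAlg (f.fiberι _) (f.asFiber (hW.fromSpec w)) hz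
  obtain ⟨θ⟩ := Groth.SchDom.nonempty_pullStalk_equiv (f.fiberι _) F hW (f.asFiber (hW.fromSpec w)) hz
  simp only [Set.mem_preimage, Set.mem_ofPred_eq, depthAt]
  rw [← Groth.Ega4b.depth_congr' θ, h1,
    show clDimAt f _ (f.asFiber (hW.fromSpec w)) = ((Order.height (f.asFiber (hW.fromSpec w)) : ℕ∞) : WithBot ℕ∞) from
      Groth.Variety2.Dim.dim_closure_singleton _, h2, ← WithBot.coe_add, WithBot.coe_inj]
  rfl

/-- The level sets of the codepth of the fibres are locally constructible. -/
theorem isLocallyConstructible_codepth_eq [LocallyOfFinitePresentation f] (k : ℕ) :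
    IsLocallyConstructible {x : X |
      ringKrullDim ((f.fiber (f.base x)).presheaf.stalk (f.asFiber x)) =
        ((LocCoh.depth ((f.fiber (f.base x)).presheaf.stalk (f.asFiber x))
          ((f.fiber (f.base x)).presheaf.stalk (f.asFiber x)) : ℕ∞) : WithBot ℕ∞) + k} := by
  refine isLocallyConstructible_of_charts f _ fun {W} hW {O} hO hWO => ?_
  obtain ⟨n, π, mG, hfp, h⟩ := exists_chart_depth f hW hO hWO Γ(X, W)
  have hdim : ∀ j : ℕ, IsConstructible (hW.fromSpec ⁻¹' {x : X | FlatMor.fibreDimAt f x = (j : WithBot ℕ∞)}) := by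
    intro j
    have hle : ∀ i : ℕ, IsConstructible {x : X | FlatMor.fibreDimAt f x ≤ i} := fun i =>
      (Groth.FibreDim.isRetrocompact_fibreDimAt_le f i).isConstructible (Groth.FibreDim.isOpen_fibreDimAt_le f i)
    have hE : IsConstructible {x : X | FlatMor.fibreDimAt f x = (j : WithBot ℕ∞)} := by
      cases j with
      | zero =>
        convert hle 0 using 1
        ext x
        refine ⟨fun h => h.le, fun h => le_antisymm h ?_⟩
        let z := f.asFiber x
        have : Nonempty (f.fiber (f.base x)) := ⟨z⟩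
        exact le_iInf fun U => (by
          haveI : Nonempty (TopologicalSpace.IrreducibleCloseds ↥U.1) :=
            ⟨⟨closure {⟨_, U.2⟩}, isIrreducible_singleton.closure, isClosed_closure⟩⟩
          exact Order.krullDim_nonneg)
      | succ j =>
        convert (hle (j + 1)).sdiff (hle j) using 1
        ext x
        simp only [Set.mem_ofPred_eq, Set.mem_sdiff]
        generalize FlatMor.fibreDimAt f x = v
        simp only [← WithBot.coe_natCast]
        induction v with
        | bot => exact ⟨fun h => absurd h WithBot.bot_ne_coe, fun h => absurd bot_le h.2⟩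
        | coe v =>
          simp only [WithBot.coe_inj, WithBot.coe_le_coe]
          cases v using ENat.recTopCoe with
          | top => exact ⟨fun h => absurd h (ENat.top_ne_natCast _), fun h => absurd (top_le_iff.1 h.1) (ENat.natCast_ne_top _)⟩
          | coe v =>
            rw [Nat.cast_inj, Nat.cast_le, Nat.cast_le]
            omega
    exact hW.fromSpec.isConstructible_preimage hE
  convert! IsConstructible.biUnion (Set.finite_Iic (n + 1)) fun j _ =>
    (hdim (j + k)).inter ((Spec.map (CommRingCat.ofHom π)).isConstructible_preimage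
      (isConstructible_depth_add_eq Γ(X, W) (j : ℕ∞))) using 1
  ext w
  have hmem : hW.fromSpec w ∈ W := hW.range_fromSpec.subset ⟨w, rfl⟩
  have hz : f.fiberι _ (f.asFiber (hW.fromSpec w)) ∈ W := (f.fiberι_asFiber _).symm ▸ hmem
  obtain ⟨h1, h2⟩ := h w hz
  let z := f.asFiber (hW.fromSpec w)
  let R0 := (f.fiber (f (hW.fromSpec w))).presheaf.stalk z
  let := Groth.SchDom.secAlg (f.fiberι _) z hz
  rw [Groth.Ega4b.depth_congr' (TensorProduct.AlgebraTensorModule.rid Γ(X, W) R0 R0)] at h1
  let : (f.fiber (f (hW.fromSpec w))).Over (Spec (CommRingCat.of (Y.residueField (f (hW.fromSpec w))))) :=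
    ⟨f.fiberToSpecResidueField _⟩
  have : LocallyOfFiniteType ((f.fiber (f (hW.fromSpec w))) ↘ Spec (CommRingCat.of (Y.residueField (f (hW.fromSpec w))))) :=
    inferInstanceAs (LocallyOfFiniteType (f.fiberToSpecResidueField _))
  have hfd : FlatMor.fibreDimAt f (hW.fromSpec w) =
      (Order.height z : ℕ∞) + ringKrullDim R0 :=
    Groth.VarietyBC.localDim_eq_height_add (Y.residueField (f (hW.fromSpec w))) z
  rw [h2] at hfd
  let P := PrimeSpectrum.comap π w
  have hbound := depth_eq_top_of_le P Γ(X, W)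
  simp only [Set.mem_preimage, Set.mem_ofPred_eq, Set.mem_iUnion, Set.mem_inter_iff, Set.mem_Iic, exists_prop]
  change ringKrullDim R0 = (LocCoh.depth R0 R0 : WithBot ℕ∞) + k ↔
    ∃ j, j ≤ n + 1 ∧ FlatMor.fibreDimAt f (hW.fromSpec w) = ((j + k : ℕ) : WithBot ℕ∞) ∧
      LocCoh.depth (FibRing P Γ(Y, O)) (FibRing P Γ(Y, O) ⊗[MvPolynomial (Fin n) Γ(Y, O)] Γ(X, W)) + fibTr P = (j : ℕ∞)
  rw [hfd, ← h1]
  rw [← h1] at hbound
  haveI : IsLocallyNoetherian (f.fiber (f (hW.fromSpec w))) :=
    LocallyOfFiniteType.isLocallyNoetherian (f.fiberToSpecResidueField _)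
  haveI : IsNoetherianRing R0 := inferInstanceAs (IsNoetherianRing ((f.fiber (f (hW.fromSpec w))).presheaf.stalk z))
  have hle := Groth.LocCohBase.depth_le_supportDim (R := R0) R0
  rw [Module.supportDim_self_eq_ringKrullDim] at hle
  have hfin : ringKrullDim R0 < ⊤ := ringKrullDim_lt_top
  revert hle hfin hbound
  change (_ → _) → _ → _ → _
  generalize LocCoh.depth R0 R0 = d
  generalize fibTr P = t
  generalize ringKrullDim R0 = r
  intro hbound hle hfin
  induction r with
  | bot => exact absurd hle (by simp)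
  | coe r =>
    cases r using ENat.recTopCoe with
    | top => exact absurd hfin (lt_irrefl _)
    | coe r =>
      cases d using ENat.recTopCoe with
      | top => exact absurd (WithBot.coe_le_coe.1 hle) (by simp)
      | coe d =>
        have hb : ¬ n + 1 ≤ d + t := fun h => ENat.natCast_ne_top d (hbound (by exact_mod_cast h))
        simp only [← WithBot.coe_natCast, ← WithBot.coe_add, WithBot.coe_inj]
        constructor
        · intro h
          refine ⟨d + t, by omega, ?_, by norm_cast⟩
          norm_cast at h ⊢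
          omega
        · rintro ⟨j, -, h, h'⟩
          norm_cast at h h' ⊢
          omega

end Groth.Ega43FP2
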