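import Mathlib
import Groth.Agent.FibreDim.DimFormulaCor
import Groth.Agent.FibreDim.Component
import Groth.Agent.Variety2.DimScheme

/-!
# Maximal dimension along an irreducible closed subset
-/

set_option autoImplicit false
set_option linter.style.haveILetI false
universe u

open CategoryTheory AlgebraicGeometry TopologicalSpace Topology

namespace Groth.Ega43FP2

set_option maxHeartbeats 1600000

theorem coheight_le_of_isClosedImmersion {Z X : Scheme.{u}} (i : Z ⟶ X) [IsClosedImmersion i] (z : Z) :
    Order.coheight z ≤ Order.coheight (i z) := by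
  refine Order.coheight_le_coheight_apply_of_strictMono i.base (fun p q hpq => ?_) z
  have hi : ∀ p q, (i q ⤳ i p) ↔ (q ⤳ p) := fun p q => i.isClosedEmbedding.toIsInducing.specializes_iff
  exact ⟨(hi p q).2 hpq.1, fun h => hpq.2 ((hi q p).1 h)⟩

theorem dim_eq_iff_of_irreducible {X Y Z V : Scheme.{u}} [IsLocallyNoetherian Y] (f : X ⟶ Y)
    [LocallyOfFiniteType f] (ι : Z ⟶ X) [IsClosedImmersion ι] [IrreducibleSpace Z]
    (j : V ⟶ Y) [IsClosedImmersion j] (hj : Set.range j.base = closure (f.base '' Set.range ι.base))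
    (w : Z) (v : V) (hv : j.base v = f.base (ι.base w)) (η' : Y)
    (hη' : closure ({η'} : Set Y) = closure (f.base '' Set.range ι.base)) :
    (ringKrullDim (Z.presheaf.stalk w) =
        ringKrullDim (Y.presheaf.stalk (f.base (ι.base w))) +
          ringKrullDim ((f.fiber (f.base (ι.base w))).presheaf.stalk (f.asFiber (ι.base w))) ↔
      (ringKrullDim (V.presheaf.stalk v) = ringKrullDim (Y.presheaf.stalk (f.base (ι.base w))) ∧
        ringKrullDim (((ι ≫ f).fiber ((ι ≫ f).base w)).presheaf.stalk ((ι ≫ f).asFiber w)) =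
          ringKrullDim ((f.fiber (f.base (ι.base w))).presheaf.stalk (f.asFiber (ι.base w))) ∧
        FlatMor.fibreDimAt (ι ≫ f) w =
          topologicalKrullDim ↥(Set.range ι.base ∩ f.base ⁻¹' {η'}) ∧
        ringKrullDim (Z.presheaf.stalk w) = ringKrullDim (V.presheaf.stalk v) +
          ringKrullDim (((ι ≫ f).fiber ((ι ≫ f).base w)).presheaf.stalk ((ι ≫ f).asFiber w)))) := by
  refine ⟨fun hB => ?_, fun ⟨h1, h2, _, h4⟩ => by rw [h4, h1, h2]⟩
  haveI : IsLocallyNoetherian X := LocallyOfFiniteType.isLocallyNoetherian f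
  let h := ι ≫ f
  haveI : IsLocallyNoetherian Z := LocallyOfFiniteType.isLocallyNoetherian h
  haveI : IsLocallyNoetherian V := LocallyOfFiniteType.isLocallyNoetherian j
  let ξ := genericPoint Z
  -- the image of the generic point
  have hξη : h ξ = η' := by
    have h1 : IsGenericPoint (h ξ) (closure (h.base '' Set.univ)) := (genericPoint_spec Z).image h.continuous
    rw [Set.image_univ, show Set.range h.base = f.base '' Set.range ι.base from by
      rw [← Set.range_comp]; rfl] at h1
    exact h1.eq hη'
  obtain ⟨t, t₀, a, b, ht, ht₀, hle, -, hac, hchain, hbc, -, -, htop, hB', ⟨sb, hb1, hb2, hb3⟩, -⟩ :=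
    Groth.FibreDim.exists_dim_formula_along h (genericPoint_specializes w : ξ ⤳ w)
  have ha : Order.coheight w = (a : ℕ∞) := by
    refine le_antisymm (Order.coheight_le fun s hs => ?_) hac
    exact_mod_cast hchain s hs.ge (genericPoint_specializes s.last)
  have hbV : Order.coheight v = (b : ℕ∞) := by
    have hjs : ∀ p q : V, j p ≤ j q ↔ p ≤ q := fun p q => j.isClosedEmbedding.toIsInducing.specializes_iff
    have hlast : ∀ p : V, η' ⤳ j p := fun p => by
      rw [specializes_iff_mem_closure, hη', ← hj]
      exact ⟨p, rfl⟩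
    refine le_antisymm (Order.coheight_le fun s hs => ?_) ?_
    · let s' : LTSeries Y := LTSeries.map s j.base fun p q hpq =>
        ⟨(hjs p q).2 hpq.1, fun hc => hpq.2 ((hjs q p).1 hc)⟩
      have h1 : h.base w ≤ s'.head := by
        show f.base (ι.base w) ≤ _
        rw [← hv]
        exact le_of_eq (congrArg j.base hs.symm)
      have h2 : s'.last ≤ h.base ξ := by
        show h.base ξ ⤳ j.base s.last
        rw [show h.base ξ = η' from hξη]
        exact hlast s.last
      exact_mod_cast hB' s' h1 h2
    · have hmem : ∀ i, sb i ∈ Set.range j.base := fun i => by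
        rw [hj, ← hη']
        have h3 : h.base ξ ⤳ sb i := (sb.monotone (Fin.le_last i)).trans hb2
        rw [show h.base ξ = η' from hξη] at h3
        exact specializes_iff_mem_closure.1 h3
      choose p hp using hmem
      let q : LTSeries V := LTSeries.mk sb.length p fun i i' hii => by
        have h5 := sb.strictMono hii
        rw [← hp, ← hp] at h5
        exact ⟨(hjs _ _).1 h5.1, fun hc => h5.2 ((hjs _ _).2 hc)⟩
      rw [← hb3]
      refine Order.length_le_coheight (p := q) ((hjs _ _).1 ?_)
      show j.base v ≤ j.base (p 0)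
      rw [hp, hv]
      exact hb1
  have hkle : Order.coheight (h.asFiber w) ≤ Order.coheight (f.asFiber (ι.base w)) := by
    have hmem : ∀ z : h.fiber (h.base w), ι.base ((h.fiberι _).base z) ∈
        Set.range (f.fiberι (f.base (ι.base w))).base := fun z =>
      (f.range_fiberι _).ge (Groth.FibreDim.apply_fiberι h _ z)
    choose m hm using hmem
    have hms : ∀ p q, (m q ⤳ m p) ↔ (q ⤳ p) := fun p q => by
      rw [← (f.fiberι _).isEmbedding.toIsInducing.specializes_iff, hm, hm,
        ι.isClosedEmbedding.toIsInducing.specializes_iff,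
        (h.fiberι _).isEmbedding.toIsInducing.specializes_iff]
    have h0 : m (h.asFiber w) = f.asFiber (ι.base w) :=
      (f.fiberι _).isEmbedding.injective ((hm _).trans (by rw [h.fiberι_asFiber, f.fiberι_asFiber]))
    rw [← h0]
    exact Order.coheight_le_coheight_apply_of_strictMono m
      (fun p q hpq => lt_of_le_not_ge (α := ↥(f.fiber (f.base (ι.base w)))) ((hms p q).2 hpq.le)
        (fun hc => hpq.not_ge ((hms q p).1 hc))) _
  haveI : LocallyOfFiniteType (h.fiberToSpecResidueField (h.base w)) :=
    inferInstanceAs (LocallyOfFiniteType (Limits.pullback.snd h (Y.fromSpecResidueField (h.base w))))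
  haveI : IsLocallyNoetherian (h.fiber (h.base w)) :=
    LocallyOfFiniteType.isLocallyNoetherian (h.fiberToSpecResidueField (h.base w))
  haveI : LocallyOfFiniteType (f.fiberToSpecResidueField (f.base (ι.base w))) :=
    inferInstanceAs (LocallyOfFiniteType (Limits.pullback.snd f (Y.fromSpecResidueField (f.base (ι.base w)))))
  haveI : IsLocallyNoetherian (f.fiber (f.base (ι.base w))) :=
    LocallyOfFiniteType.isLocallyNoetherian (f.fiberToSpecResidueField (f.base (ι.base w)))
  obtain ⟨dA, hA⟩ := Groth.FibreDim.exists_ringKrullDim_eq_natCast (Y.presheaf.stalk (f.base (ι.base w)))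
  obtain ⟨K, hK⟩ := Groth.FibreDim.exists_ringKrullDim_eq_natCast
    ((f.fiber (f.base (ι.base w))).presheaf.stalk (f.asFiber (ι.base w)))
  obtain ⟨k, hk⟩ := Groth.FibreDim.exists_ringKrullDim_eq_natCast
    ((h.fiber (h.base w)).presheaf.stalk (h.asFiber w))
  have cA : Order.coheight (f.base (ι.base w)) = (dA : ℕ∞) := by
    rw [ringKrullDim_stalk_eq_coheight] at hA
    exact WithBot.coe_inj.1 hA
  have cK : Order.coheight (f.asFiber (ι.base w)) = (K : ℕ∞) := by
    rw [ringKrullDim_stalk_eq_coheight] at hK
    exact WithBot.coe_inj.1 hK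
  have ck : Order.coheight (h.asFiber w) = (k : ℕ∞) := by
    rw [ringKrullDim_stalk_eq_coheight] at hk
    exact WithBot.coe_inj.1 hk
  rw [ringKrullDim_stalk_eq_coheight, ha, hA, hK] at hB
  rw [cK, ck, Nat.cast_le] at hkle
  rw [show Order.coheight (h.base w) = (dA : ℕ∞) from cA, Nat.cast_le] at hbc
  rw [ck] at htop
  have htop' : t₀ ≤ t + k := by exact_mod_cast htop
  have hB'' : a = dA + K := by exact_mod_cast hB
  obtain ⟨e1, e2, e3⟩ : b = dA ∧ k = K ∧ t + k = t₀ := by omega
  refine ⟨?_, ?_, ?_, ?_⟩
  · rw [ringKrullDim_stalk_eq_coheight, hbV, hA, e1]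
    rfl
  · exact hk.trans (by rw [hK, e2])
  · have hfib : topologicalKrullDim ↥(Set.range ι.base ∩ f.base ⁻¹' {η'}) = (t₀ : WithBot ℕ∞) := by
      rw [← hξη]
      have he : IsEmbedding (ι.base ∘ (h.fiberι (h.base ξ)).base) :=
        ι.isClosedEmbedding.isEmbedding.comp (h.fiberι _).isEmbedding
      have hr : Set.range (ι.base ∘ (h.fiberι (h.base ξ)).base) = Set.range ι.base ∩ f.base ⁻¹' {h.base ξ} := by
        rw [Set.range_comp, h.range_fiberι]
        ext x
        constructor
        · rintro ⟨z, hz, rfl⟩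
          exact ⟨⟨z, rfl⟩, hz⟩
        · rintro ⟨⟨z, rfl⟩, hz⟩
          exact ⟨z, hz, rfl⟩
      rw [← (he.toHomeomorph.trans (Homeomorph.setCongr hr)).isHomeomorph.topologicalKrullDim_eq]
      have hcl : closure ({h.asFiber ξ} : Set (h.fiber (h.base ξ))) = Set.univ :=
        Set.eq_univ_of_forall fun z => specializes_iff_mem_closure.1
          ((h.fiberι _).isEmbedding.toIsInducing.specializes_iff.1 (by
            rw [h.fiberι_asFiber]
            exact genericPoint_specializes _))
      rw [← (Homeomorph.Set.univ _).isHomeomorph.topologicalKrullDim_eq, ← hcl,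
        Groth.Variety2.Dim.dim_closure_singleton, ht₀]
      rfl
    rw [hfib, Groth.FibreDim.fibreDimAt_eq_height_add, ht, hk, ← e3]
    push_cast
    rfl
  · rw [ringKrullDim_stalk_eq_coheight, ha, ringKrullDim_stalk_eq_coheight, hbV, hk, hB'', e1, e2]
    push_cast
    rfl

end Groth.Ega43FP2
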