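import Mathlib
import Groth.Agent.Ega43FP2.AssFibre
import Groth.Prelude.Def_EGA4b

/-!
# Equidimensional fibre stalks with `(S_k)`
-/

set_option autoImplicit false
universe u

open CategoryTheory AlgebraicGeometry

set_option synthInstance.maxHeartbeats 400000
set_option maxHeartbeats 3200000
set_option linter.unusedSectionVars false

namespace Groth.Ega43FP2

/-- Intervals in a scheme locally of finite type over a field have the expected length. -/
theorem krullDim_Icc_eq {k : Type u} [Field k] {Z : Scheme.{u}} (q : Z ⟶ Spec (CommRingCat.of k))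
    [LocallyOfFiniteType q] {z w : Z} (h : z ≤ w) {a b : ℕ} (ha : Order.height z = (a : ℕ∞))
    (hb : Order.height w = (b : ℕ∞)) : Order.krullDim ↥(Set.Icc z w) = ((b - a : ℕ) : WithBot ℕ∞) := by
  refine le_antisymm ?_ ?_
  · refine iSup_le fun l => WithBot.coe_le_coe.2 (Nat.cast_le.2 ?_)
    have key : ∀ i : Fin (l.length + 1), ((a + (i : ℕ) : ℕ) : ℕ∞) ≤ Order.height (l i).1 := by
      intro i
      induction i using Fin.induction with
      | zero =>
        rw [Fin.val_zero, add_zero, ← ha]
        exact Order.height_mono (l 0).2.1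
      | succ i ih =>
        have := Groth.Variety2.Dim.height_toNat_lt q (show (l i.castSucc).1 < (l i.succ).1 from l.step i)
        refine le_trans ?_ (Order.add_one_le_of_lt (lt_of_le_of_lt ih this))
        simp only [Fin.val_castSucc, Fin.val_succ]
        push_cast
        rw [add_assoc]
    have := (key (Fin.last _)).trans ((Order.height_mono (l (Fin.last _)).2.2).trans hb.le)
    rw [Nat.cast_le, Fin.val_last] at this
    omega
  · suffices hs : ∀ (j : ℕ) (c : Z) (hcz : z ≤ c) (hcw : c ≤ w), Order.height w ≤ Order.height c + j + 0 →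
        ∀ e : ℕ, Order.height c + e ≤ Order.height w →
          ∃ l : LTSeries ↥(Set.Icc z w), l.length = e ∧ l.head = ⟨c, hcz, hcw⟩ by
      obtain ⟨l, hl, -⟩ := hs b z le_rfl h (by rw [hb, add_zero]; exact le_add_self) (b - a) (by
        rw [ha, hb, ← Nat.cast_add, Nat.cast_le]
        have : a ≤ b := by
          have := Order.height_mono h
          rw [ha, hb, Nat.cast_le] at this
          exact this
        omega)
      exact hl ▸ Order.LTSeries.length_le_krullDim l
    intro j
    induction j with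
    | zero =>
      intro c hcz hcw hle e he
      obtain ⟨n, hn⟩ := Groth.Variety2.Dim.exists_height_eq q c
      rw [hn, hb, Nat.cast_zero, add_zero, add_zero, Nat.cast_le] at hle
      rw [hn, hb, ← Nat.cast_add, Nat.cast_le] at he
      exact ⟨RelSeries.singleton _ ⟨c, hcz, hcw⟩, by simp; omega, rfl⟩
    | succ j ih =>
      intro c hcz hcw hle e he
      cases e with
      | zero => exact ⟨RelSeries.singleton _ ⟨c, hcz, hcw⟩, rfl, rfl⟩
      | succ e =>
        obtain ⟨n, hn⟩ := Groth.Variety2.Dim.exists_height_eq q c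
        have hne : ¬ w ≤ c := fun hwc => by
          have := he.trans (Order.height_mono hwc)
          rw [hn, ← Nat.cast_add, Nat.cast_le] at this
          omega
        obtain ⟨d, hcd, hdmin⟩ := WellFounded.has_min
          (InvImage.wf (fun v : Z => Order.height v) (wellFounded_lt (α := ℕ∞)))
          {v : Z | c < v ∧ v ≤ w} ⟨w, lt_of_le_not_ge hcw hne, le_rfl⟩
        have hcov : c ⋖ d := ⟨hcd.1, fun e' h1 h2 =>
          hdmin e' ⟨h1, h2.le.trans hcd.2⟩ (Groth.Variety2.Dim.height_toNat_lt q h2)⟩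
        have hd := Groth.Variety2.Dim.height_eq_of_covBy q hcov
        obtain ⟨l, hl, hlh⟩ := ih d (hcz.trans hcd.1.le) hcd.2 (by
          rw [hn, hb] at hle
          rw [hd, hn, hb]
          norm_cast at hle ⊢
          omega) e (by
          rw [hd, hn, hb, ← Nat.cast_one, ← Nat.cast_add, ← Nat.cast_add, Nat.cast_le]
          rw [hn, hb, ← Nat.cast_add, Nat.cast_le] at he
          omega)
        refine ⟨l.cons ⟨c, hcz, hcw⟩ (by rw [hlh]; exact hcd.1), ?_, RelSeries.head_cons _ _ _⟩
        rw [RelSeries.cons_length, hl]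

variable {X Y : Scheme.{u}} (f : X ⟶ Y) [LocallyOfFinitePresentation f]

/-- The dimension of the quotient of a fibre stalk by a prime. -/
theorem ringKrullDim_quotient_fibre (y : Y) (z : f.fiber y) (p : PrimeSpectrum ((f.fiber y).presheaf.stalk z))
    {a b : ℕ} (ha : Order.height z = (a : ℕ∞)) (hb : Order.height ((f.fiber y).fromSpecStalk z p) = (b : ℕ∞)) :
    a ≤ b ∧ ringKrullDim ((f.fiber y).presheaf.stalk z ⧸ p.asIdeal) = ((b - a : ℕ) : WithBot ℕ∞) := by
  let R := (f.fiber y).presheaf.stalk z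
  let φ := ((f.fiber y).fromSpecStalk z).base
  have hemb := ((f.fiber y).fromSpecStalk z).isEmbedding
  have hgen : ∀ q : PrimeSpectrum R, φ q ⤳ z := fun q => by
    have : φ q ∈ Set.range ((f.fiber y).fromSpecStalk z).base := ⟨q, rfl⟩
    rw [Scheme.range_fromSpecStalk] at this
    exact this
  have hle : z ≤ φ p := Scheme.le_iff_specializes.2 (hgen p)
  refine ⟨by have := Order.height_mono hle; rw [ha, hb, Nat.cast_le] at this; exact this, ?_⟩
  rw [← krullDim_Icc_eq (f.fiberToSpecResidueField y) (k := Y.residueField y) hle ha hb,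
    ringKrullDim_quotient, ← Order.krullDim_orderDual]
  have hord : ∀ q q' : PrimeSpectrum R, φ q ≤ φ q' ↔ q' ≤ q := fun q q' => by
    rw [Scheme.le_iff_specializes, PrimeSpectrum.le_iff_specializes]
    exact hemb.toIsInducing.specializes_iff
  refine Order.krullDim_eq_of_orderIso
    { toFun := fun q => ⟨φ (OrderDual.ofDual q).1, Scheme.le_iff_specializes.2 (hgen _),
        (hord _ _).2 (OrderDual.ofDual q).2⟩
      invFun := fun v => OrderDual.toDual
        ⟨(((f.fiber y).range_fromSpecStalk (x := z)).ge (Scheme.le_iff_specializes.1 v.2.1)).choose, by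
          refine (hord _ p).1 ?_
          rw [show φ _ = v.1 from (((f.fiber y).range_fromSpecStalk (x := z)).ge (Scheme.le_iff_specializes.1 v.2.1)).choose_spec]
          exact v.2.2⟩
      left_inv := fun q => ?_
      right_inv := fun v => ?_
      map_rel_iff' := ?_ }
  · apply OrderDual.ofDual.injective
    apply Subtype.ext
    exact hemb.injective (((f.fiber y).range_fromSpecStalk (x := z)).ge (Scheme.le_iff_specializes.1
      (Scheme.le_iff_specializes.2 (hgen (OrderDual.ofDual q).1)))).choose_spec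
  · exact Subtype.ext (((f.fiber y).range_fromSpecStalk (x := z)).ge (Scheme.le_iff_specializes.1 v.2.1)).choose_spec
  · intro q q'
    exact hord _ _

variable (F : X.Modules) [F.IsQuasicoherent]

theorem fromSpecStalk_mem_suppFib_iff (hF : CohB1.IsFT F) (y : Y) (z : f.fiber y)
    (q : PrimeSpectrum ((f.fiber y).presheaf.stalk z)) :
    (f.fiber y).fromSpecStalk z q ∈ suppFib f F y ↔
      q ∈ PrimeSpectrum.zeroLocus (Module.annihilator ((f.fiber y).presheaf.stalk z)
        (((Scheme.Modules.pullback (f.fiberι y)).obj F).presheaf.stalk z) : Set _) := by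
  have := finite_fibre_stalk f F hF y z
  rw [← Module.support_eq_zeroLocus, Module.mem_support_iff, mem_suppFib_iff,
    ← (fibre_localization f F hF y z q.asIdeal).2, Module.supportDim_ne_bot_iff_nontrivial]

/-- Equidimensionality of a fibre stalk in terms of the maximal points of the support. -/
theorem isEquidimModule_fibre_iff (hF : CohB1.IsFT F) (y : Y) (z : f.fiber y) :
    EGA4.IsEquidimModule ((f.fiber y).presheaf.stalk z) (((Scheme.Modules.pullback (f.fiberι y)).obj F).presheaf.stalk z) ↔
      ∃ τ : ℕ, ∀ w ∈ suppFib f F y, (∀ v ∈ suppFib f F y, v ⤳ w → v = w) → w ⤳ z →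
        Order.height w = (τ : ℕ∞) := by
  let R := (f.fiber y).presheaf.stalk z
  let M := ((Scheme.Modules.pullback (f.fiberι y)).obj F).presheaf.stalk z
  let J := Module.annihilator R M
  have := finite_fibre_stalk f F hF y z
  let φ := ((f.fiber y).fromSpecStalk z).base
  have hemb := ((f.fiber y).fromSpecStalk z).isEmbedding
  have hgen : ∀ q : PrimeSpectrum R, φ q ⤳ z := fun q => by
    have : φ q ∈ Set.range ((f.fiber y).fromSpecStalk z).base := ⟨q, rfl⟩
    rw [Scheme.range_fromSpecStalk] at this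
    exact this
  obtain ⟨a, ha⟩ := exists_height_eq_nat f y z
  have hmin : ∀ q : PrimeSpectrum R, q.asIdeal ∈ J.minimalPrimes ↔
      (φ q ∈ suppFib f F y ∧ ∀ v ∈ suppFib f F y, v ⤳ φ q → v = φ q) := by
    intro q
    rw [fromSpecStalk_mem_suppFib_iff f F hF]
    constructor
    · intro hq
      refine ⟨hq.1.2, fun v hv hvq => ?_⟩
      obtain ⟨q', rfl⟩ : v ∈ Set.range ((f.fiber y).fromSpecStalk z).base := by
        rw [Scheme.range_fromSpecStalk]; exact hvq.trans (hgen q)
      have h1 : q'.asIdeal ≤ q.asIdeal := (PrimeSpectrum.le_iff_specializes _ _).2 (hemb.toIsInducing.specializes_iff.1 hvq)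
      have h2 := hq.2 ⟨q'.2, (fromSpecStalk_mem_suppFib_iff f F hF y z q').1 hv⟩ h1
      rw [show q' = q from PrimeSpectrum.ext (le_antisymm h1 h2)]
    · rintro ⟨hq, hmax⟩
      refine ⟨⟨q.2, hq⟩, fun Q hQ hle => ?_⟩
      have := hmax (φ ⟨Q, hQ.1⟩) ((fromSpecStalk_mem_suppFib_iff f F hF y z ⟨Q, hQ.1⟩).2 hQ.2)
        (((PrimeSpectrum.le_iff_specializes (⟨Q, hQ.1⟩ : PrimeSpectrum R) q).1 hle).map
          ((f.fiber y).fromSpecStalk z).continuous)
      exact (congrArg PrimeSpectrum.asIdeal (hemb.injective this)).ge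
  constructor
  · intro h
    by_cases hne : J.minimalPrimes.Nonempty
    · obtain ⟨P, hP⟩ := hne
      obtain ⟨τ, hτ⟩ := exists_height_eq_nat f y (φ ⟨P, hP.1.1⟩)
      refine ⟨τ, fun w hw hmax hwz => ?_⟩
      obtain ⟨q, rfl⟩ : w ∈ Set.range ((f.fiber y).fromSpecStalk z).base := by
        rw [Scheme.range_fromSpecStalk]; exact hwz
      obtain ⟨b, hb⟩ := exists_height_eq_nat f y (φ q)
      have h1 := (ringKrullDim_quotient_fibre f y z q ha hb)
      have h2 := (ringKrullDim_quotient_fibre f y z ⟨P, hP.1.1⟩ ha hτ)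
      have h3 := (h _ ((hmin q).2 ⟨hw, hmax⟩)).trans (h P hP).symm
      rw [h1.2, h2.2, Nat.cast_inj] at h3
      rw [hb, Nat.cast_inj]
      omega
    · refine ⟨0, fun w hw hmax hwz => ?_⟩
      obtain ⟨q, rfl⟩ : w ∈ Set.range ((f.fiber y).fromSpecStalk z).base := by
        rw [Scheme.range_fromSpecStalk]; exact hwz
      exact absurd ⟨_, (hmin q).2 ⟨hw, hmax⟩⟩ hne
  · rintro ⟨τ, hτ⟩ P hP
    have hdim : ∀ Q ∈ J.minimalPrimes, ringKrullDim (R ⧸ Q) = ((τ - a : ℕ) : WithBot ℕ∞) := by
      intro Q hQ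
      have hm := (hmin ⟨Q, hQ.1.1⟩).1 hQ
      exact (ringKrullDim_quotient_fibre f y z ⟨Q, hQ.1.1⟩ ha (hτ _ hm.1 hm.2 (hgen _))).2
    rw [hdim P hP]
    refine le_antisymm ?_ ?_
    · rw [← hdim P hP, Module.supportDim_eq_ringKrullDim_quotient_annihilator]
      exact ringKrullDim_le_of_surjective (Ideal.Quotient.factor hP.1.2) (Ideal.Quotient.factor_surjective _)
    · refine iSup_le fun l => ?_
      obtain ⟨Q, hQ, hQl⟩ := Ideal.exists_minimalPrimes_le
        (I := J) (J := (l 0).1.asIdeal) ((Module.support_eq_zeroLocus (R := R) (M := M)).subset (l 0).2)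
      rw [← hdim Q hQ, ringKrullDim_quotient]
      let ψ : LTSeries ↥(PrimeSpectrum.zeroLocus (Q : Set R)) :=
        ⟨l.length, fun i => ⟨(l i).1, fun r hr => (show (l 0).1 ≤ (l i).1 from l.monotone (Fin.zero_le i)) (hQl hr)⟩,
          fun i => l.step i⟩
      exact Order.LTSeries.length_le_krullDim ψ

/-- Equidimensional `(S_k)` fibre stalks form an open set. -/
theorem isOpen_isEquidim_hasSk (hF : CohB1.IsFP F) (hflat : FlatMod.IsFlatOver f F) (k : ℕ) (hk : 1 ≤ k) :
    IsOpen {x : X | EGA4.IsEquidimModule ((f.fiber (f.base x)).presheaf.stalk (f.asFiber x))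
        (((Scheme.Modules.pullback (f.fiberι (f.base x))).obj F).presheaf.stalk (f.asFiber x)) ∧
      LocCoh.HasSk k ((f.fiber (f.base x)).presheaf.stalk (f.asFiber x))
        (((Scheme.Modules.pullback (f.fiberι (f.base x))).obj F).presheaf.stalk (f.asFiber x))} := by
  have hFT : CohB1.IsFT F := inferInstance
  convert (isOpen_iUnion fun τ : ℕ => isOpen_assDims f F hF hflat {τ}).inter (isOpen_hasSk f F hF hflat k) using 1
  ext x
  rw [Set.mem_inter_iff, Set.mem_iUnion, Set.mem_ofPred_eq, Set.mem_ofPred_eq]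
  refine and_congr_left fun hsk => ?_
  rw [isEquidimModule_fibre_iff f F hFT]
  refine exists_congr fun τ => ⟨fun h z hz hxz => ⟨τ, rfl, ?_⟩, fun h w hw hmax hwx => ?_⟩
  · rw [mem_ass_fibre_iff f F hFT] at hz
    have hzs := mem_suppFib_of_depth_eq_zero f F hz
    obtain ⟨w, hw, hwz, hmax⟩ := exists_max_above f F hFT hzs
    have h1 := (noEmbedded_iff_hasSk_one f F hF _ (f.asFiber x)).2
    have hsk1 : ∀ v, v ⤳ f.asFiber x →
        min ((1 : ℕ) : WithBot ℕ∞) (suppAt f F _ v) ≤ (depthAt f F _ v : WithBot ℕ∞) := fun v hv =>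
      (min_le_min_right _ (by exact_mod_cast hk)).trans ((hasSk_fibre_iff f F hFT _ _ k).1 hsk v hv)
    obtain rfl : w = z := h1 ((hasSk_fibre_iff f F hFT _ _ 1).2 hsk1) z ((mem_ass_fibre_iff f F hFT _ z).2 hz) hxz w
      ((mem_ass_fibre_iff f F hFT _ w).2 (depthAt_eq_zero_of_max f F hFT hw hmax).2) (specializes_iff_mem_closure.1 hwz)
    refine (clDimAt_eq f _ w).trans ?_
    rw [h w hw hmax (specializes_iff_mem_closure.2 hxz)]
    rfl
  · obtain ⟨n, hn, hd⟩ := h w ((mem_ass_fibre_iff f F hFT _ w).2 (depthAt_eq_zero_of_max f F hFT hw hmax).2)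
      (specializes_iff_mem_closure.1 hwx)
    rw [Set.mem_singleton_iff] at hn
    have := (clDimAt_eq f _ w).symm.trans hd
    rw [← WithBot.coe_natCast, WithBot.coe_inj] at this
    rw [this, hn]

end Groth.Ega43FP2
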