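import Mathlib
import Groth.Agent.EGA41Two.FlatRegularFibre
import Groth.Agent.FlatMorOne.FlatLocusOpen
import Groth.Agent.Misc6.FlatInj

/-!
# Openness of the locus of sequences regular on the fibres
-/

set_option autoImplicit false
set_option linter.style.haveILetI false
universe u

open RingTheory.Sequence TensorProduct
open scoped Pointwise

set_option synthInstance.maxHeartbeats 400000
set_option maxHeartbeats 1600000

namespace Groth.Ega43FP2

variable {A C : Type u} [CommRing A] [CommRing C] [Algebra A C]

/-- The fibre at a prime of a module. -/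
abbrev fibreAt (A : Type u) [CommRing A] {C : Type u} [CommRing C] [Algebra A C] (q : PrimeSpectrum C) (M : Type u)
    [AddCommGroup M] [Module C M] : Type u :=
  (Localization.AtPrime q.asIdeal ⊗[C] M) ⧸
    ((q.asIdeal.under A).map (algebraMap A C) • (⊤ : Submodule C (Localization.AtPrime q.asIdeal ⊗[C] M)))

variable (M : Type u) [AddCommGroup M] [Module C M] [Module A M] [IsScalarTower A C M]

/-- Regularity on the fibre of a flat module: regularity, and flatness of the quotient. -/
theorem regular_and_flat_at [IsNoetherianRing C] [Module.Finite C M] (q : PrimeSpectrum C) (g : C)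
    [Module.Flat A (Localization.AtPrime q.asIdeal ⊗[C] M)] (h : IsSMulRegular (fibreAt A q M) g) :
    IsSMulRegular (Localization.AtPrime q.asIdeal ⊗[C] M) g ∧
      Module.Flat A (Localization.AtPrime q.asIdeal ⊗[C] QuotSMulTop g M) := by
  let p := q.asIdeal.under A
  let Aq := Localization.AtPrime p
  let Cq := Localization.AtPrime q.asIdeal
  letI : Algebra Aq Cq := (Localization.localRingHom p q.asIdeal (algebraMap A C) rfl).toAlgebra
  haveI : IsLocalHom (algebraMap Aq Cq) := Localization.isLocalHom_localRingHom p q.asIdeal (algebraMap A C) rfl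
  haveI : IsScalarTower A Aq Cq := IsScalarTower.of_algebraMap_eq fun a => by
    show _ = Localization.localRingHom p q.asIdeal (algebraMap A C) rfl (algebraMap A Aq a)
    rw [Localization.localRingHom_to_map]
    exact IsScalarTower.algebraMap_apply A C Cq a
  haveI : SMulCommClass C Aq Cq := ⟨fun c a x => by
    rw [Algebra.smul_def, Algebra.smul_def, Algebra.smul_def, Algebra.smul_def, mul_left_comm]⟩
  haveI : Module.Flat Aq (Cq ⊗[C] M) :=
    (Module.flat_iff_of_isLocalization Aq p.primeCompl _).2 inferInstance
  have hJ : (((IsLocalRing.maximalIdeal Aq).map (algebraMap Aq Cq)) • (⊤ : Submodule Cq (Cq ⊗[C] M))).restrictScalars C =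
      (p.map (algebraMap A C)) • (⊤ : Submodule C (Cq ⊗[C] M)) := by
    have : (IsLocalRing.maximalIdeal Aq).map (algebraMap Aq Cq) = (p.map (algebraMap A C)).map (algebraMap C Cq) := by
      rw [← Localization.AtPrime.map_eq_maximalIdeal, Ideal.map_map, Ideal.map_map, ← IsScalarTower.algebraMap_eq,
        ← IsScalarTower.algebraMap_eq]
    rw [this, Groth.EGA41Two.FlatFibre.smul_restrictScalars_eq]
  let e := (Submodule.quotEquivOfEq _ _ hJ).symm.trans (Submodule.Quotient.restrictScalarsEquiv C _)
  have h' : IsSMulRegular ((Cq ⊗[C] M) ⧸ (((IsLocalRing.maximalIdeal Aq).map (algebraMap Aq Cq)) •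
      (⊤ : Submodule Cq (Cq ⊗[C] M)))) (algebraMap C Cq g) := fun x y hxy => by
    obtain ⟨x, rfl⟩ := e.surjective x
    obtain ⟨y, rfl⟩ := e.surjective y
    simp only [algebraMap_smul, ← map_smul] at hxy
    exact congrArg e (h (e.injective hxy))
  haveI : Module.Finite Cq (Cq ⊗[C] M) := inferInstance
  obtain ⟨h1, h2⟩ := Groth.EGA41Two.FlatFibre.regular_and_flat (A := Aq) (Cq ⊗[C] M) (algebraMap C Cq g) h'
  refine ⟨fun x y hxy => h1 (by simpa only [algebraMap_smul] using hxy), ?_⟩
  haveI : Module.Flat A (QuotSMulTop (algebraMap C Cq g) (Cq ⊗[C] M)) := Module.Flat.trans A Aq _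
  exact Module.Flat.of_linearEquiv
    ((QuotSMulTop.algebraMapTensorEquivTensorQuotSMulTop g M Cq).restrictScalars A).symm

/-- Regularity with flat quotient passes to the reduction modulo an ideal of the base. -/
theorem regular_reduction_of_flat (N : Type u) [AddCommGroup N] [Module C N] [Module A N] [IsScalarTower A C N]
    (p : Ideal A) (g : C) (h : IsSMulRegular N g) [Module.Flat A (QuotSMulTop g N)] :
    IsSMulRegular (N ⧸ (p.map (algebraMap A C) • (⊤ : Submodule C N))) g := by
  let u : N →ₗ[A] N := (LinearMap.lsmul C N g).restrictScalars A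
  let π : N →ₗ[A] QuotSMulTop g N := (g • (⊤ : Submodule C N)).mkQ.restrictScalars A
  have hexact : Function.Exact u π := fun m => by
    show Submodule.Quotient.mk m = 0 ↔ _
    rw [Submodule.Quotient.mk_eq_zero, Submodule.mem_smul_pointwise_iff_exists]
    exact ⟨fun ⟨a, _, ha⟩ => ⟨a, ha⟩, fun ⟨a, ha⟩ => ⟨a, trivial, ha⟩⟩
  have hinj : Function.Injective (u.lTensor (A ⧸ p)) :=
    Groth.Misc6.flatInjKer (F := A) (P := A ⧸ p) p.mkQ (Submodule.mkQ_surjective _) u π h hexact
      (Submodule.mkQ_surjective _)
  let e : (A ⧸ p) ⊗[A] N ≃ₗ[A] N ⧸ (p.map (algebraMap A C) • (⊤ : Submodule C N)) :=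
    TensorProduct.quotTensorEquivQuotSMul N p ≪≫ₗ
      Submodule.quotEquivOfEq _ _ (Groth.EGA41Two.FlatFibre.smul_restrictScalars_eq (B := C) p N).symm ≪≫ₗ
      Submodule.Quotient.restrictScalarsEquiv A _
  have hcomm : ∀ x, e (u.lTensor _ x) = g • e x := by
    intro x
    induction x using TensorProduct.induction_on with
    | zero => simp
    | add a b ha hb => simp only [map_add, ha, hb, smul_add]
    | tmul c m =>
      obtain ⟨c, rfl⟩ := Ideal.Quotient.mk_surjective c
      show (Submodule.Quotient.mk (c • (g • m)) : N ⧸ (p.map (algebraMap A C) • (⊤ : Submodule C N))) =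
        g • Submodule.Quotient.mk (c • m)
      rw [← Submodule.Quotient.mk_smul, smul_comm]
  intro x y hxy
  obtain ⟨x, rfl⟩ := e.surjective x
  obtain ⟨y, rfl⟩ := e.surjective y
  exact congrArg e (hinj (e.injective (((hcomm x).trans hxy).trans (hcomm y).symm)))

/-- The points where the module is flat over the base and the sequence is regular on the fibre form an open set. -/
theorem isOpen_flat_fibreRegular [IsNoetherianRing A] [Algebra.FiniteType A C] :
    ∀ (gs : List C) (M : Type u) [AddCommGroup M] [Module C M] [Module A M] [IsScalarTower A C M] [Module.Finite C M],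
      IsOpen {q : PrimeSpectrum C | Module.Flat A (Localization.AtPrime q.asIdeal ⊗[C] M) ∧
        IsWeaklyRegular (fibreAt A q M) gs}
  | [], M, _, _, _, _, _ => by
    haveI : IsNoetherianRing C := Algebra.FiniteType.isNoetherianRing A C
    haveI : Algebra.FinitePresentation A C := Algebra.FinitePresentation.of_finiteType.1 inferInstance
    haveI : Module.FinitePresentation C M := Module.finitePresentation_of_finite C M
    convert Groth.FlatMorOne.isOpen_flatLocus A C M using 1
    ext q
    rw [Set.mem_ofPred_eq, Set.mem_ofPred_eq]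
    exact (and_iff_left (IsWeaklyRegular.nil C _)).trans
      (Module.Flat.equiv_iff ((LocalizedModule.equivTensorProduct q.asIdeal.primeCompl M).restrictScalars A)).symm
  | g :: rs, M, _, _, _, _, _ => by
    haveI : IsNoetherianRing C := Algebra.FiniteType.isNoetherianRing A C
    haveI : Algebra.FinitePresentation A C := Algebra.FinitePresentation.of_finiteType.1 inferInstance
    haveI : Module.FinitePresentation C M := Module.finitePresentation_of_finite C M
    let K := LinearMap.ker (LinearMap.lsmul C M g)
    have hreg : IsOpen {q : PrimeSpectrum C | IsSMulRegular (Localization.AtPrime q.asIdeal ⊗[C] M) g} := by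
      convert (Module.isClosed_support (R := C) (M := K)).isOpen_compl using 1
      ext q
      let ℓ := LinearMap.lsmul C M g
      rw [Set.mem_compl_iff, Module.mem_support_iff, not_nontrivial_iff_subsingleton,
        (LocalizedModule.equivTensorProduct q.asIdeal.primeCompl K).toEquiv.subsingleton_congr, Set.mem_ofPred_eq]
      have hex : Function.Exact (K.subtype.lTensor (Localization.AtPrime q.asIdeal))
          (ℓ.lTensor (Localization.AtPrime q.asIdeal)) :=
        Module.Flat.lTensor_exact _ (LinearMap.exact_subtype_ker_map ℓ)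
      have hKinj : Function.Injective (K.subtype.lTensor (Localization.AtPrime q.asIdeal)) :=
        Module.Flat.lTensor_preserves_injective_linearMap _ K.subtype_injective
      have hsmul : ∀ x, ℓ.lTensor (Localization.AtPrime q.asIdeal) x = g • x := fun x => by
        induction x using TensorProduct.induction_on with
        | zero => simp
        | add a b ha hb => simp only [map_add, ha, hb, smul_add]
        | tmul c m => rw [LinearMap.lTensor_tmul, LinearMap.lsmul_apply, TensorProduct.tmul_smul]
      constructor
      · intro h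
        refine ⟨fun a b => hKinj ?_⟩
        have h0 : ∀ a, K.subtype.lTensor (Localization.AtPrime q.asIdeal) a = 0 := fun a =>
          (isSMulRegular_iff_right_eq_zero_of_smul (R := C) (M := Localization.AtPrime q.asIdeal ⊗[C] M)).1 h _ ((hsmul _).symm.trans (hex.apply_apply_eq_zero a))
        rw [h0, h0]
      · intro h
        refine (isSMulRegular_iff_right_eq_zero_of_smul (R := C) (M := Localization.AtPrime q.asIdeal ⊗[C] M)).2 fun x hx => ?_
        obtain ⟨a, rfl⟩ := (hex x).1 ((hsmul x).trans hx)
        rw [Subsingleton.elim a 0, map_zero]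
    have hflat : IsOpen {q : PrimeSpectrum C | Module.Flat A (Localization.AtPrime q.asIdeal ⊗[C] M)} := by
      convert Groth.FlatMorOne.isOpen_flatLocus A C M using 1
      ext q
      rw [Set.mem_ofPred_eq, Set.mem_ofPred_eq]
      exact (Module.Flat.equiv_iff ((LocalizedModule.equivTensorProduct q.asIdeal.primeCompl M).restrictScalars A)).symm
    convert (hflat.inter hreg).inter (isOpen_flat_fibreRegular rs (QuotSMulTop g M)) using 1
    ext q
    have e : fibreAt A q (QuotSMulTop g M) ≃ₗ[C] QuotSMulTop g (fibreAt A q M) := by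
      let e1 := QuotSMulTop.tensorQuotSMulTopEquivQuotSMulTop g (Localization.AtPrime q.asIdeal) M
      exact (Submodule.Quotient.equiv _ _ e1 (by
        rw [Submodule.map_smul'', Submodule.map_top, LinearEquiv.range])).trans
        (Groth.EGA41Two.FlatFibre.swapEquiv _ g (Localization.AtPrime q.asIdeal ⊗[C] M))
    simp only [Set.mem_ofPred_eq, Set.mem_inter_iff, isWeaklyRegular_cons_iff, ← e.isWeaklyRegular_congr rs]
    constructor
    · rintro ⟨hf, hg, hrs⟩
      haveI := hf
      obtain ⟨h1, h2⟩ := regular_and_flat_at (A := A) M q g hg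
      exact ⟨⟨hf, h1⟩, h2, hrs⟩
    · rintro ⟨⟨hf, hr⟩, hf', hrs⟩
      haveI := hf'
      haveI : Module.Flat A (QuotSMulTop g (Localization.AtPrime q.asIdeal ⊗[C] M)) :=
        Module.Flat.of_linearEquiv
          ((QuotSMulTop.tensorQuotSMulTopEquivQuotSMulTop g (Localization.AtPrime q.asIdeal) M).symm.restrictScalars A)
      exact ⟨hf, regular_reduction_of_flat (A := A) _ _ g hr, hrs⟩

end Groth.Ega43FP2
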