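import Mathlib
import Groth.Agent.Ega43FP2.DepthConstructible
import Groth.Agent.Calg4.RegularFlat
import Groth.Agent.S6284
import Groth.Agent.Ega4Algebra1.EquidimPolynomial

/-!
# The `(S_k)` locus of the fibres of affine space under base change
-/

set_option autoImplicit false
set_option linter.style.haveILetI false
universe u

open scoped TensorProduct

set_option synthInstance.maxHeartbeats 400000
set_option maxHeartbeats 3200000
set_option linter.unusedSectionVars false

attribute [local instance] MvPolynomial.algebraMvPolynomial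

namespace Groth.Ega43FP2

variable {A : Type u} [CommRing A] {n : ℕ}

/-- The depth of a fibre stalk over affine space. -/
noncomputable abbrev dP (N : Type u) [AddCommGroup N] [Module (MvPolynomial (Fin n) A) N]
    (P : PrimeSpectrum (MvPolynomial (Fin n) A)) : ℕ∞ :=
  LocCoh.depth (FibRing P A) (FibRing P A ⊗[MvPolynomial (Fin n) A] N)

/-- The dimension of the support of a fibre stalk over affine space. -/
noncomputable abbrev sP (N : Type u) [AddCommGroup N] [Module (MvPolynomial (Fin n) A) N]
    (P : PrimeSpectrum (MvPolynomial (Fin n) A)) : WithBot ℕ∞ :=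
  Module.supportDim (FibRing P A) (FibRing P A ⊗[MvPolynomial (Fin n) A] N)

/-- The inequality of `(S_k)` at a point. -/
def SkGood (k : ℕ) (N : Type u) [AddCommGroup N] [Module (MvPolynomial (Fin n) A) N]
    (P : PrimeSpectrum (MvPolynomial (Fin n) A)) : Prop :=
  min (k : WithBot ℕ∞) (sP N P) ≤ (dP N P : WithBot ℕ∞)

/-- The `(S_k)` locus of the fibres of affine space. -/
def skLocus (A : Type u) [CommRing A] (n : ℕ) (N : Type u) [AddCommGroup N] [Module (MvPolynomial (Fin n) A) N]
    (k : ℕ) : Set (PrimeSpectrum (MvPolynomial (Fin n) A)) :=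
  {P | ∀ Q : PrimeSpectrum (MvPolynomial (Fin n) A), Q ≤ P → Q.asIdeal.under A = P.asIdeal.under A → SkGood k N Q}

/-- A prime of the local ring of the fibre from a generization in the fibre. -/
theorem exists_prime_fibRing {B : Type u} [CommRing B] [Algebra A B] (P Q : PrimeSpectrum B) (hQP : Q ≤ P)
    (hu : Q.asIdeal.under A = P.asIdeal.under A) :
    ∃ q : Ideal (FibRing P A), q.IsPrime ∧ q.comap (algebraMap B (FibRing P A)) = Q.asIdeal := by
  let Br := Localization.AtPrime P.asIdeal
  have hd : Disjoint (P.asIdeal.primeCompl : Set B) Q.asIdeal :=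
    Set.disjoint_left.2 fun b hb hbQ => hb (hQP hbQ)
  have hp : (Q.asIdeal.map (algebraMap B Br)).IsPrime :=
    IsLocalization.isPrime_of_isPrime_disjoint P.asIdeal.primeCompl Br Q.asIdeal Q.isPrime hd
  have hle : (P.asIdeal.under A).map (algebraMap A Br) ≤ Q.asIdeal.map (algebraMap B Br) := by
    rw [IsScalarTower.algebraMap_eq A B Br, ← Ideal.map_map, ← hu]
    exact Ideal.map_mono Ideal.map_comap_le
  refine ⟨(Q.asIdeal.map (algebraMap B Br)).map (Ideal.Quotient.mk _), ?_, ?_⟩
  · exact Ideal.map_isPrime_of_surjective Ideal.Quotient.mk_surjective (by rw [Ideal.mk_ker]; exact hle)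
  · rw [IsScalarTower.algebraMap_eq B Br (FibRing P A), ← Ideal.comap_comap, Ideal.Quotient.algebraMap_eq,
      Ideal.comap_map_of_surjective _ Ideal.Quotient.mk_surjective, ← RingHom.ker_eq_comap_bot, Ideal.mk_ker,
      sup_eq_left.2 hle]
    exact IsLocalization.under_map_of_isPrime_disjoint P.asIdeal.primeCompl Br Q.isPrime hd

theorem le_of_comap_le_fibRing {B : Type u} [CommRing B] [Algebra A B] {P : PrimeSpectrum B}
    {q₁ q₂ : Ideal (FibRing P A)} [q₂.IsPrime]
    (h : q₁.comap (algebraMap B (FibRing P A)) ≤ q₂.comap (algebraMap B (FibRing P A))) : q₁ ≤ q₂ := by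
  intro z hz
  obtain ⟨w, rfl⟩ := Ideal.Quotient.mk_surjective z
  obtain ⟨⟨b, s⟩, hbs⟩ := IsLocalization.surj P.asIdeal.primeCompl w
  have hbs' : Ideal.Quotient.mk _ w * algebraMap B (FibRing P A) s.1 = algebraMap B (FibRing P A) b :=
    congrArg (Ideal.Quotient.mk _) hbs
  have hu : IsUnit (algebraMap B (FibRing P A) s.1) :=
    (IsLocalization.map_units (Localization.AtPrime P.asIdeal) s).map (Ideal.Quotient.mk _)
  have hb : algebraMap B (FibRing P A) b ∈ q₂ := h (show _ ∈ q₁ from hbs' ▸ q₁.mul_mem_right _ hz)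
  rw [← hbs'] at hb
  exact (Ideal.IsPrime.mem_or_mem inferInstance hb).resolve_right fun hc =>
    Ideal.IsPrime.ne_top inferInstance (Ideal.eq_top_of_isUnit_mem _ hc hu)

variable {A' : Type u} [CommRing A'] [Algebra A A']
  (N : Type u) [AddCommGroup N] [Module (MvPolynomial (Fin n) A) N] [Module.Finite (MvPolynomial (Fin n) A) N]
  (N' : Type u) [AddCommGroup N'] [Module (MvPolynomial (Fin n) A') N'] [Module.Finite (MvPolynomial (Fin n) A') N']
  (e : MvPolynomial (Fin n) A' ⊗[MvPolynomial (Fin n) A] N ≃ₗ[MvPolynomial (Fin n) A'] N')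

include e in
/-- The rectified depth is invariant under base change. -/
theorem dP_add_eq (P' : PrimeSpectrum (MvPolynomial (Fin n) A')) (P : PrimeSpectrum (MvPolynomial (Fin n) A))
    (hP : P = P'.comap (algebraMap (MvPolynomial (Fin n) A) (MvPolynomial (Fin n) A'))) :
    dP N' P' + fibTr P' = dP N P + fibTr P := by
  have h : ∀ m : ℕ, (m : ℕ∞) ≤ dP N' P' + fibTr P' ↔ (m : ℕ∞) ≤ dP N P + fibTr P := fun m => by
    rw [le_depth_add_iff_pdLT, le_depth_add_iff_pdLT]
    exact pdLT_fibre_baseChange_iff N N' e P' P hP _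
  refine le_antisymm ?_ ?_
  · exact ENat.forall_natCast_le_iff_le.1 fun m hm => (h m).1 hm
  · exact ENat.forall_natCast_le_iff_le.1 fun m hm => (h m).2 hm

/-- A point is minimal over its image among the generizations in its fibre. -/
def MinimalOver (P' : PrimeSpectrum (MvPolynomial (Fin n) A')) (P : PrimeSpectrum (MvPolynomial (Fin n) A)) : Prop :=
  ∀ Q'' : PrimeSpectrum (MvPolynomial (Fin n) A'), Q'' ≤ P' → Q''.asIdeal.under A' = P'.asIdeal.under A' →
    P.asIdeal ≤ Q''.asIdeal.comap (algebraMap (MvPolynomial (Fin n) A) (MvPolynomial (Fin n) A')) → Q'' = P'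

/-- The support dimension of a flat local base change. -/
theorem supportDim_baseChange_eq_add {R R' : Type u} [CommRing R] [CommRing R'] [IsLocalRing R] [IsLocalRing R']
    [IsNoetherianRing R] [IsNoetherianRing R'] [Algebra R R'] [IsLocalHom (algebraMap R R')] [Module.Flat R R']
    [IsLocalRing (R' ⧸ (IsLocalRing.maximalIdeal R).map (algebraMap R R'))]
    (F : Type u) [AddCommGroup F] [Module R F] [Module.Finite R F] :
    Module.supportDim R' (R' ⊗[R] F) = Module.supportDim R F +
      ringKrullDim (R' ⧸ (IsLocalRing.maximalIdeal R).map (algebraMap R R')) := by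
  cases subsingleton_or_nontrivial F with
  | inl hF =>
    rw [Module.supportDim_eq_bot_of_subsingleton R F, Module.supportDim_eq_bot_of_subsingleton R' (R' ⊗[R] F),
      WithBot.bot_add]
  | inr hF =>
    let m := IsLocalRing.maximalIdeal R
    have hJ : Module.annihilator R F ≤ m :=
      IsLocalRing.le_maximalIdeal fun h => not_subsingleton F (Module.annihilator_eq_top_iff.1 h)
    generalize hJdef : Module.annihilator R F = J at hJ
    haveI : Nontrivial (R ⧸ J) := Ideal.Quotient.nontrivial_iff.2
      (ne_top_of_le_ne_top (IsLocalRing.maximalIdeal.isMaximal R).ne_top hJ)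
    haveI : IsLocalRing (R ⧸ J) := .of_surjective' _ Ideal.Quotient.mk_surjective
    have hJ' : J.map (algebraMap R R') ≤ IsLocalRing.maximalIdeal R' :=
      (Ideal.map_mono hJ).trans (((IsLocalRing.local_hom_TFAE (algebraMap R R')).out 0 2 rfl rfl).1 inferInstance)
    haveI : Nontrivial (R' ⧸ J.map (algebraMap R R')) := Ideal.Quotient.nontrivial_iff.2
      (ne_top_of_le_ne_top (IsLocalRing.maximalIdeal.isMaximal R').ne_top hJ')
    haveI : IsLocalRing (R' ⧸ J.map (algebraMap R R')) := .of_surjective' _ Ideal.Quotient.mk_surjective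
    haveI : IsScalarTower R (R ⧸ J) (R' ⧸ J.map (algebraMap R R')) :=
      IsScalarTower.of_algebraMap_eq fun _ => rfl
    haveI : Module.Flat (R ⧸ J) (R' ⧸ J.map (algebraMap R R')) := Groth.Ega4Algebra1.flat_quotient_map J
    haveI : IsLocalHom (algebraMap (R ⧸ J) (R' ⧸ J.map (algebraMap R R'))) := by
      refine ⟨fun z hz => ?_⟩
      obtain ⟨z, rfl⟩ := Ideal.Quotient.mk_surjective z
      haveI : IsLocalHom (Ideal.Quotient.mk (J.map (algebraMap R R'))) :=
        IsLocalHom.of_surjective _ Ideal.Quotient.mk_surjective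
      exact ((IsUnit.of_map (algebraMap R R') z (IsUnit.of_map (Ideal.Quotient.mk _) _ hz))).map _
    have hm : (IsLocalRing.maximalIdeal (R ⧸ J)).map (algebraMap (R ⧸ J) (R' ⧸ J.map (algebraMap R R'))) =
        (m.map (algebraMap R R')).map (Ideal.Quotient.mk (J.map (algebraMap R R'))) := by
      rw [← IsLocalRing.map_maximalIdeal_of_surjective (Ideal.Quotient.mk J) Ideal.Quotient.mk_surjective,
        Ideal.map_map, Ideal.map_map]
      rfl
    let ec := ((Ideal.quotEquivOfEq hm).trans
      (DoubleQuot.quotQuotEquivQuotSup (J.map (algebraMap R R')) (m.map (algebraMap R R')))).trans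
        (Ideal.quotEquivOfEq (sup_eq_right.2 (Ideal.map_mono hJ)))
    haveI : IsLocalRing ((R' ⧸ J.map (algebraMap R R')) ⧸
        (IsLocalRing.maximalIdeal (R ⧸ J)).map (algebraMap (R ⧸ J) (R' ⧸ J.map (algebraMap R R')))) :=
      ec.symm.isLocalRing
    have h1 := Groth.Calg4.ringKrullDim_eq_add_of_flat (R ⧸ J) (R' ⧸ J.map (algebraMap R R'))
    rw [ringKrullDim_eq_of_ringEquiv ec] at h1
    rw [Module.supportDim_eq_ringKrullDim_quotient_annihilator R F, hJdef, ← h1, Module.supportDim,
      Groth.Agent.S6284.result, Module.support_eq_zeroLocus, ringKrullDim_quotient,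
      PrimeSpectrum.preimage_comap_zeroLocus, hJdef]
    exact Order.krullDim_eq_of_orderIso (OrderIso.setCongr _ _ (by rw [Ideal.map, PrimeSpectrum.zeroLocus_span]))

include e in
/-- Height and support dimension grow by the dimension of the fibre of the base change. -/
theorem exists_defect (P' : PrimeSpectrum (MvPolynomial (Fin n) A')) (P : PrimeSpectrum (MvPolynomial (Fin n) A))
    (hP : P = P'.comap (algebraMap (MvPolynomial (Fin n) A) (MvPolynomial (Fin n) A'))) :
    ∃ δ : ℕ, fibHt P' = fibHt P + δ ∧ sP N' P' = sP N P + (δ : WithBot ℕ∞) ∧ (MinimalOver P' P → δ = 0) := by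
  obtain ⟨φ, hloc, hflat, hcomp⟩ := exists_fibRing_baseChange P' P hP
  let B := MvPolynomial (Fin n) A
  let B' := MvPolynomial (Fin n) A'
  let R := FibRing P A
  let R' := FibRing P' A'
  letI : Algebra R R' := φ.toAlgebra
  haveI : IsLocalHom (algebraMap R R') := hloc
  haveI : Module.Flat R R' := hflat
  haveI : Module.FaithfullyFlat R R' := Module.FaithfullyFlat.of_flat_of_isLocalHom
  haveI : IsScalarTower B B' R' := inferInstance
  haveI : IsScalarTower B R R' := IsScalarTower.of_algebraMap_eq' (R := B) (S := R) (A := R')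
    ((IsScalarTower.algebraMap_eq B B' R').trans hcomp.symm)
  let E : R' ⊗[R] (R ⊗[B] N) ≃ₗ[R'] R' ⊗[B'] N' :=
    (TensorProduct.AlgebraTensorModule.cancelBaseChange B R R' R' N).trans
      ((TensorProduct.AlgebraTensorModule.cancelBaseChange B B' R' R' N).symm.trans
        (TensorProduct.AlgebraTensorModule.congr (LinearEquiv.refl R' R') e))
  let m := IsLocalRing.maximalIdeal R
  haveI : Nontrivial (R' ⧸ m.map (algebraMap R R')) := Ideal.Quotient.nontrivial_iff.2
    (ne_top_of_le_ne_top (IsLocalRing.maximalIdeal.isMaximal R').ne_top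
      (((IsLocalRing.local_hom_TFAE (algebraMap R R')).out 0 2 rfl rfl).1 hloc))
  haveI : IsLocalRing (R' ⧸ m.map (algebraMap R R')) := .of_surjective' _ Ideal.Quotient.mk_surjective
  haveI : IsNoetherianRing (FibRing P' A') := inferInstance
  obtain ⟨δ, hδ⟩ : ∃ δ : ℕ, ringKrullDim (R' ⧸ m.map (algebraMap R R')) = (δ : WithBot ℕ∞) := by
    have hne : ringKrullDim (R' ⧸ m.map (algebraMap R R')) ≠ ⊥ := by
      intro h
      exact absurd (ringKrullDim_nonneg_of_nontrivial (R := R' ⧸ m.map (algebraMap R R'))) (by rw [h]; exact not_le.2 (WithBot.bot_lt_coe 0))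
    obtain ⟨d, hd⟩ := WithBot.ne_bot_iff_exists.1 hne
    have hfin : ringKrullDim (R' ⧸ m.map (algebraMap R R')) ≤ (fibHt P' : ℕ) :=
      ringKrullDim_fibRing P' ▸ ringKrullDim_quotient_le _
    rw [← hd] at hfin ⊢
    cases d using ENat.recTopCoe with
    | top => exact absurd hfin (by rw [not_le]; exact WithBot.coe_lt_coe.2 (ENat.natCast_lt_top _))
    | coe d => exact ⟨d, rfl⟩
  have hdim := Groth.Calg4.ringKrullDim_eq_add_of_flat R R'
  rw [ringKrullDim_fibRing, ringKrullDim_fibRing, hδ] at hdim
  refine ⟨δ, by exact_mod_cast hdim, ?_, fun hmin => ?_⟩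
  · rw [sP, ← Module.supportDim_eq_of_equiv E, sP, supportDim_baseChange_eq_add, hδ]
  · by_contra h0
    have : (0 : WithBot ℕ∞) < ringKrullDim (R' ⧸ m.map (algebraMap R R')) := by
      rw [hδ]
      exact_mod_cast Nat.pos_of_ne_zero h0
    refine not_le.2 this (Order.krullDim_nonpos_iff_forall_isMax.2 fun c d hcd => ?_)
    let q' : Ideal R' := c.asIdeal.comap (Ideal.Quotient.mk _)
    let Q'' : PrimeSpectrum B' := ⟨q'.comap (algebraMap B' R'), Ideal.IsPrime.comap _⟩
    have hmax : (IsLocalRing.maximalIdeal R').comap (algebraMap B' R') = P'.asIdeal := by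
      ext b
      have hbr : algebraMap B' R' b = Ideal.Quotient.mk _ (algebraMap B' (Localization.AtPrime P'.asIdeal) b) := rfl
      rw [Ideal.mem_comap, hbr]
      show Ideal.Quotient.mk _ _ ∈ IsLocalRing.maximalIdeal R' ↔ _
      rw [← IsLocalRing.map_maximalIdeal_of_surjective _ Ideal.Quotient.mk_surjective,
        Ideal.mem_map_iff_of_surjective _ Ideal.Quotient.mk_surjective,
        ← IsLocalization.AtPrime.to_map_mem_maximal_iff (Localization.AtPrime P'.asIdeal) P'.asIdeal b]
      refine ⟨fun ⟨w, hw, hwb⟩ => ?_, fun h => ⟨_, h, rfl⟩⟩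
      rw [Ideal.Quotient.mk_eq_mk_iff_sub_mem] at hwb
      have hle' : (P'.asIdeal.under A').map (algebraMap A' (Localization.AtPrime P'.asIdeal)) ≤
          IsLocalRing.maximalIdeal (Localization.AtPrime P'.asIdeal) := Ideal.map_le_iff_le_comap.2 fun a ha => by
        show algebraMap A' (Localization.AtPrime P'.asIdeal) a ∈ IsLocalRing.maximalIdeal (Localization.AtPrime P'.asIdeal)
        rw [IsScalarTower.algebraMap_apply A' B' (Localization.AtPrime P'.asIdeal)]
        exact (IsLocalization.AtPrime.to_map_mem_maximal_iff _ P'.asIdeal _).2 ha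
      have hsub := hle' hwb
      simpa using sub_mem hw hsub
    have hle : Q'' ≤ P' := fun b hb => by
      rw [← hmax]
      exact IsLocalRing.le_maximalIdeal (Ideal.IsPrime.ne_top (inferInstance : q'.IsPrime)) hb
    have hu : Q''.asIdeal.under A' = P'.asIdeal.under A' := by
      refine le_antisymm (Ideal.comap_mono hle) fun a ha => ?_
      show algebraMap B' R' (algebraMap A' B' a) ∈ q'
      rw [show algebraMap B' R' (algebraMap A' B' a) = 0 from Ideal.Quotient.eq_zero_iff_mem.2 (by
        have h := Ideal.mem_map_of_mem (algebraMap A' (Localization.AtPrime P'.asIdeal)) ha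
        rwa [IsScalarTower.algebraMap_apply A' B' (Localization.AtPrime P'.asIdeal)] at h)]
      exact q'.zero_mem
    have hPle : P.asIdeal ≤ Q''.asIdeal.comap (algebraMap B B') := by
      intro b hb
      show algebraMap B' R' (algebraMap B B' b) ∈ q'
      refine (congrArg (· ∈ q') (RingHom.congr_fun hcomp b)).mp ?_
      show Ideal.Quotient.mk _ (algebraMap R R' (algebraMap B R b)) ∈ c.asIdeal
      rw [Ideal.Quotient.eq_zero_iff_mem.2 (Ideal.mem_map_of_mem _ ?_)]
      · exact c.asIdeal.zero_mem
      · show algebraMap B R b ∈ m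
        rw [IsScalarTower.algebraMap_apply B (Localization.AtPrime P.asIdeal) R]
        show Ideal.Quotient.mk _ _ ∈ IsLocalRing.maximalIdeal R
        rw [← IsLocalRing.map_maximalIdeal_of_surjective (Ideal.Quotient.mk
          ((P.asIdeal.under A).map (algebraMap A (Localization.AtPrime P.asIdeal)))) Ideal.Quotient.mk_surjective]
        exact Ideal.mem_map_of_mem _ ((IsLocalization.AtPrime.to_map_mem_maximal_iff _ P.asIdeal _).2 hb)
    have hQ := hmin Q'' hle hu hPle
    have hq : IsLocalRing.maximalIdeal R' ≤ q' := le_of_comap_le_fibRing (by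
      rw [hmax]; exact (congrArg PrimeSpectrum.asIdeal hQ).ge)
    intro z hz
    obtain ⟨z, rfl⟩ := Ideal.Quotient.mk_surjective z
    exact hq (IsLocalRing.le_maximalIdeal (Ideal.IsPrime.ne_top (Ideal.IsPrime.comap (hK := d.2) (Ideal.Quotient.mk _))) hz)

/-- Generizations in a fibre lift minimally. -/
theorem exists_minimal_lift (P' : PrimeSpectrum (MvPolynomial (Fin n) A')) (P Q : PrimeSpectrum (MvPolynomial (Fin n) A))
    (hP : P = P'.comap (algebraMap (MvPolynomial (Fin n) A) (MvPolynomial (Fin n) A'))) (hQP : Q ≤ P)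
    (hu : Q.asIdeal.under A = P.asIdeal.under A) :
    ∃ Q' : PrimeSpectrum (MvPolynomial (Fin n) A'), Q' ≤ P' ∧ Q'.asIdeal.under A' = P'.asIdeal.under A' ∧
      Q = Q'.comap (algebraMap (MvPolynomial (Fin n) A) (MvPolynomial (Fin n) A')) ∧ MinimalOver Q' Q := by
  obtain ⟨φ, hloc, hflat, hcomp⟩ := exists_fibRing_baseChange P' P hP
  let B := MvPolynomial (Fin n) A
  let B' := MvPolynomial (Fin n) A'
  let R := FibRing P A
  let R' := FibRing P' A'
  letI : Algebra R R' := φ.toAlgebra
  haveI : IsLocalHom (algebraMap R R') := hloc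
  haveI : Module.Flat R R' := hflat
  haveI : Module.FaithfullyFlat R R' := Module.FaithfullyFlat.of_flat_of_isLocalHom
  obtain ⟨q, hq, hqQ⟩ := exists_prime_fibRing P Q hQP hu
  obtain ⟨⟨q₀, hq₀⟩, hq₀q⟩ := PrimeSpectrum.comap_surjective_of_faithfullyFlat (B := R') ⟨q, hq⟩
  have hq₀q' : q₀.comap (algebraMap R R') = q := congrArg PrimeSpectrum.asIdeal hq₀q
  obtain ⟨q', hq', hle⟩ := Ideal.exists_minimalPrimes_le (I := q.map (algebraMap R R')) (J := q₀)
    (Ideal.map_le_iff_le_comap.2 hq₀q'.ge)
  haveI : q'.IsPrime := hq'.1.1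
  have hq'q : q'.comap (algebraMap R R') = q :=
    le_antisymm ((Ideal.comap_mono hle).trans hq₀q'.le) (Ideal.map_le_iff_le_comap.1 hq'.1.2)
  have hmaxle : ∀ b, b ∈ q'.comap (algebraMap B' R') → b ∈ P'.asIdeal := by
    intro b hb
    by_contra hbP
    exact Ideal.IsPrime.ne_top (inferInstance : q'.IsPrime) (Ideal.eq_top_of_isUnit_mem _ hb
      ((IsLocalization.map_units (Localization.AtPrime P'.asIdeal) (⟨b, hbP⟩ : P'.asIdeal.primeCompl)).map
        (Ideal.Quotient.mk _)))
  let Q' : PrimeSpectrum B' := ⟨q'.comap (algebraMap B' R'), Ideal.IsPrime.comap _⟩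
  have hu' : Q'.asIdeal.under A' = P'.asIdeal.under A' := by
    refine le_antisymm (Ideal.comap_mono hmaxle) fun a ha => ?_
    show algebraMap B' R' (algebraMap A' B' a) ∈ q'
    rw [show algebraMap B' R' (algebraMap A' B' a) = 0 from Ideal.Quotient.eq_zero_iff_mem.2 (by
      have h := Ideal.mem_map_of_mem (algebraMap A' (Localization.AtPrime P'.asIdeal)) ha
      rwa [IsScalarTower.algebraMap_apply A' B' (Localization.AtPrime P'.asIdeal)] at h)]
    exact q'.zero_mem
  refine ⟨Q', hmaxle, hu', PrimeSpectrum.ext ?_, fun Q'' hle'' hu'' hQle => ?_⟩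
  · rw [← hqQ, ← hq'q]
    show _ = Ideal.comap (algebraMap B B') (q'.comap (algebraMap B' R'))
    rw [Ideal.comap_comap, Ideal.comap_comap]
    exact congrArg (fun g => Ideal.comap g q') hcomp
  · obtain ⟨q'', hq'', hq''Q⟩ := exists_prime_fibRing P' Q'' (fun b hb => hmaxle b (hle'' hb)) (hu''.trans hu')
    haveI := hq''
    have h1 : q'' ≤ q' := le_of_comap_le_fibRing (by rw [hq''Q]; exact hle'')
    have h2 : q.map (algebraMap R R') ≤ q'' := by
      refine Ideal.map_le_iff_le_comap.2 (le_of_comap_le_fibRing (q₂ := q''.comap (algebraMap R R')) ?_)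
      rw [hqQ, Ideal.comap_comap]
      intro b hb
      show (algebraMap R R').comp (algebraMap B R) b ∈ q''
      rw [show (algebraMap R R').comp (algebraMap B R) b = algebraMap B' R' (algebraMap B B' b) from
        RingHom.congr_fun hcomp b]
      show algebraMap B B' b ∈ q''.comap (algebraMap B' R')
      rw [hq''Q]
      exact hQle hb
    have : q' ≤ q'' := hq'.2 ⟨hq'', h2⟩ h1
    refine PrimeSpectrum.ext (le_antisymm hle'' ?_)
    rw [← hq''Q]
    exact Ideal.comap_mono this

include e in
/-- The `(S_k)` locus commutes with base change. -/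
theorem preimage_skLocus (k : ℕ) :
    PrimeSpectrum.comap (algebraMap (MvPolynomial (Fin n) A) (MvPolynomial (Fin n) A')) ⁻¹' skLocus A n N k =
      skLocus A' n N' k := by
  let σ := algebraMap (MvPolynomial (Fin n) A) (MvPolynomial (Fin n) A')
  ext P'
  have hbad : ∀ Q' Q, Q = PrimeSpectrum.comap σ Q' → (SkGood k N Q → SkGood k N' Q') ∧
      (MinimalOver Q' Q → SkGood k N' Q' → SkGood k N Q) := by
    intro Q' Q hQ
    obtain ⟨δ, hh, hs, hmin⟩ := exists_defect N N' e Q' Q hQ
    have hr := dP_add_eq N N' e Q' Q hQ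
    have hn := fibHt_le Q'
    have ht : fibTr Q = fibTr Q' + δ := by simp only [fibTr]; omega
    rw [ht] at hr
    unfold SkGood
    rw [hs]
    revert hr
    generalize dP N Q = d
    generalize dP N' Q' = d'
    intro hr
    have hd : d' = d + δ := by
      cases d' using ENat.recTopCoe with
      | top =>
        cases d using ENat.recTopCoe with
        | top => rw [top_add]
        | coe d => rw [top_add] at hr; exact absurd hr.symm (by norm_cast)
      | coe d' =>
        cases d using ENat.recTopCoe with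
        | top => rw [top_add] at hr; exact absurd hr (by norm_cast)
        | coe d => norm_cast at hr ⊢; omega
    subst hd
    refine ⟨fun hg => ?_, fun hm hg => ?_⟩
    · rcases min_le_iff.1 hg with hg | hg
      · refine (min_le_left _ _).trans (hg.trans ?_)
        exact WithBot.coe_le_coe.2 le_self_add
      · refine (min_le_right _ _).trans ?_
        rw [WithBot.coe_add]
        exact add_le_add hg le_rfl
    · rw [hmin hm] at hg
      simpa using hg
  show PrimeSpectrum.comap σ P' ∈ skLocus A n N k ↔ P' ∈ skLocus A' n N' k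
  constructor
  · intro h Q' hQ' hu'
    refine (hbad Q' _ rfl).1 (h _ (Ideal.comap_mono hQ') ?_)
    have hσ : ∀ a, σ (algebraMap A _ a) = algebraMap A' (MvPolynomial (Fin n) A') (algebraMap A A' a) := fun a => by
      show algebraMap (MvPolynomial (Fin n) A) (MvPolynomial (Fin n) A') (MvPolynomial.C a) = MvPolynomial.C _
      rw [MvPolynomial.algebraMap_def, MvPolynomial.map_C]
    ext a
    show σ (algebraMap A _ a) ∈ Q'.asIdeal ↔ σ (algebraMap A _ a) ∈ P'.asIdeal
    rw [hσ]
    exact SetLike.ext_iff.1 hu' (algebraMap A A' a)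
  · intro h Q hQ hu
    obtain ⟨Q', hQ', hu', hQQ', hmin⟩ := exists_minimal_lift P' _ Q rfl hQ hu
    exact (hbad Q' Q hQQ').2 hmin (h Q' hQ' hu')

end Groth.Ega43FP2
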