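import Mathlib
import Groth.Agent.Ega43FP2.SkInvariance
import Groth.Agent.Ega43FP2.SkScheme
import Groth.Agent.Ega43FP2.DepthConstructible

/-!
# Constructibility of the `(S_k)` locus in the fibres of affine space
-/

set_option autoImplicit false
set_option linter.style.haveILetI false
universe u

open CategoryTheory AlgebraicGeometry Topology
open scoped TensorProduct

set_option synthInstance.maxHeartbeats 400000
set_option maxHeartbeats 3200000

attribute [local instance] MvPolynomial.algebraMvPolynomial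

namespace Groth.Ega43FP2

section Flat

variable {Y : Scheme.{u}} {O : Y.Opens} {n : ℕ}

/-- Closedness of the points with a generization in the fibre of large residual transcendence degree. -/
theorem isClosed_exists_le_fibTr (hO : IsAffineOpen O) {E : Set (PrimeSpectrum (MvPolynomial (Fin n) Γ(Y, O)))}
    (hE : IsClosed E) (τ : ℕ) :
    IsClosed {P : PrimeSpectrum (MvPolynomial (Fin n) Γ(Y, O)) | ∃ Q ∈ E, Q ≤ P ∧
      Q.asIdeal.under Γ(Y, O) = P.asIdeal.under Γ(Y, O) ∧ τ ≤ fibTr Q} := by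
  let B := MvPolynomial (Fin n) Γ(Y, O)
  let T := CommRingCat.of B
  let φ : Γ(Y, O) ⟶ T := CommRingCat.ofHom (algebraMap Γ(Y, O) B)
  let g : Spec T ⟶ Y := Spec.map φ ≫ hO.fromSpec
  have hWO : (⊤ : (Spec T).Opens) ≤ g ⁻¹ᵁ O := fun x _ => hO.range_fromSpec.subset ⟨_, rfl⟩
  have hW : IsAffineOpen (⊤ : (Spec T).Opens) := isAffineOpen_top _
  have : LocallyOfFiniteType (Spec.map φ) := by
    rw [HasRingHomProperty.Spec_iff (P := @LocallyOfFiniteType)]
    exact RingHom.finiteType_algebraMap.2 (inferInstance : Algebra.FiniteType Γ(Y, O) B)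
  have : LocallyOfFiniteType g := inferInstanceAs (LocallyOfFiniteType (_ ≫ _))
  let π : B →+* Γ(Spec T, ⊤) := (Scheme.ΓSpecIso T).inv.hom
  have hπ : Function.Surjective π :=
    (ConcreteCategory.bijective_of_isIso (Scheme.ΓSpecIso T).inv).2
  have hC : ∀ a, π (algebraMap Γ(Y, O) B a) = (g.appLE O ⊤ hWO).hom a := fun a =>
    (appLE_specMap_comp_fromSpec hO φ hWO a).symm
  have hfs : ∀ Q, hW.fromSpec Q = (PrimeSpectrum.comap π Q : PrimeSpectrum B) := by
    intro Q
    rw [IsAffineOpen.fromSpec_top, Scheme.isoSpec_Spec_inv]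
    rfl
  have hht : ∀ P : Spec T, Order.height (g.asFiber P) = (fibTr (A := Γ(Y, O)) (n := n) P : ℕ∞) := by
    intro P
    have hz : g.fiberι (g.base P) (g.asFiber P) ∈ (⊤ : (Spec T).Opens) := trivial
    rw [height_eq_fibTr g hO hW hWO π hπ hC _ _ hz]
    congr 2
    show PrimeSpectrum.comap π (hW.primeIdealOf ⟨_, hz⟩) = P
    rw [← hfs, hW.fromSpec_primeIdealOf]
    exact g.fiberι_asFiber P
  have h := isClosed_exists_height_le g (Z := (E : Set (Spec T))) hE τ
  suffices heq : {P : PrimeSpectrum B | ∃ Q ∈ E, Q ≤ P ∧ Q.asIdeal.under Γ(Y, O) = P.asIdeal.under Γ(Y, O) ∧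
      τ ≤ fibTr Q} = {x : Spec T | ∃ w ∈ (E : Set (Spec T)), w ⤳ x ∧ g w = g x ∧ (τ : ℕ∞) ≤ Order.height (g.asFiber w)} by
    exact heq.symm ▸ h
  ext P
  simp only [Set.mem_ofPred_eq, hht, Nat.cast_le]
  refine exists_congr fun Q => and_congr_right fun _ => and_congr (PrimeSpectrum.le_iff_specializes Q P) ?_
  refine and_congr ?_ Iff.rfl
  show _ ↔ hO.fromSpec (Spec.map φ Q) = hO.fromSpec (Spec.map φ P)
  rw [hO.fromSpec.isOpenEmbedding.injective.eq_iff]
  exact ⟨fun h => PrimeSpectrum.ext h, congrArg PrimeSpectrum.asIdeal⟩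

theorem isOpen_skLocus_of_flat_sections (hO : IsAffineOpen O)
    (N : FPFlat Γ(Y, O) (MvPolynomial (Fin n) Γ(Y, O))) (k : ℕ) :
    IsOpen (skLocus Γ(Y, O) n N.carrier k) := by
  let B := MvPolynomial (Fin n) Γ(Y, O)
  let G₁ : Set (PrimeSpectrum B) := {Q | sP N.carrier Q ≤ (dP N.carrier Q : WithBot ℕ∞) + (0 : ℕ)}
  let G₂ : ℕ → Set (PrimeSpectrum B) := fun τ =>
    {Q | ((τ + k : ℕ) : WithBot ℕ∞) ≤ (dP N.carrier Q : WithBot ℕ∞) + (fibTr Q : WithBot ℕ∞)}
  have hE : ∀ τ, IsClosed (G₁ ∪ G₂ τ)ᶜ := fun τ =>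
    (((openOverAffine_coprof_le 0).isOpen hO n N).union
      ((openOverAffine_le_depth_add (τ + k)).isOpen hO n N)).isClosed_compl
  let C : ℕ → Set (PrimeSpectrum B) := fun τ =>
    {P | ∃ Q ∈ (G₁ ∪ G₂ τ)ᶜ, Q ≤ P ∧ Q.asIdeal.under Γ(Y, O) = P.asIdeal.under Γ(Y, O) ∧ τ ≤ fibTr Q}
  have hbad : ∀ (Q : PrimeSpectrum B), ¬ SkGood k N.carrier Q ↔
      ∃ τ, τ ≤ fibTr Q ∧ Q ∈ (G₁ ∪ G₂ τ)ᶜ := by
    intro Q
    simp only [G₁, G₂, Set.mem_compl_iff, Set.mem_union, Set.mem_ofPred_eq, SkGood, min_le_iff, Nat.cast_zero,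
      add_zero, not_or]
    generalize fibTr Q = t
    generalize dP N.carrier Q = d
    cases d using ENat.recTopCoe with
    | top => exact iff_of_false (fun h => h.1 (by simp)) fun ⟨τ, _, h⟩ => h.2 (by rw [← WithBot.coe_natCast, ← WithBot.coe_natCast, ← WithBot.coe_add]; exact WithBot.coe_le_coe.2 (by simp))
    | coe d =>
      constructor
      · rintro ⟨h1, h2⟩
        refine ⟨t, le_rfl, h2, fun h => h1 ?_⟩
        norm_cast at h ⊢
        omega
      · rintro ⟨τ, hτ, h1, h2⟩
        refine ⟨fun h => h2 ?_, h1⟩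
        norm_cast at h ⊢
        omega
  have : (skLocus Γ(Y, O) n N.carrier k)ᶜ = ⋃ τ ∈ Set.Iic n, C τ := by
    ext P
    simp only [skLocus, Set.mem_compl_iff, Set.mem_ofPred_eq, not_forall, exists_prop, hbad, Set.mem_iUnion,
      Set.mem_Iic, C]
    constructor
    · rintro ⟨Q, hQP, hu, τ, hτ, hQ⟩
      exact ⟨τ, hτ.trans (Nat.sub_le n _), Q, hQ, hQP, hu, hτ⟩
    · rintro ⟨τ, -, Q, hQ, hQP, hu, hτ⟩
      exact ⟨Q, hQP, hu, τ, hτ, hQ⟩
  rw [← isClosed_compl_iff, this]
  exact (Set.finite_Iic n).isClosed_biUnion fun τ _ => isClosed_exists_le_fibTr hO (hE τ) τ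

end Flat

variable {A : Type u} [CommRing A] {n : ℕ}

theorem isOpen_skLocus_of_flat (N : FPFlat A (MvPolynomial (Fin n) A)) (k : ℕ) :
    IsOpen (skLocus A n N.carrier k) := by
  let Y := Spec (CommRingCat.of A)
  let A' : Type u := Γ(Y, ⊤)
  let ι : A →+* A' := (Scheme.ΓSpecIso (CommRingCat.of A)).inv.hom
  letI : Algebra A A' := ι.toAlgebra
  let B := MvPolynomial (Fin n) A
  let B' := MvPolynomial (Fin n) A'
  let N' := B' ⊗[B] N.carrier
  haveI : Module.Flat A' N' :=
    Module.Flat.of_linearEquiv (Algebra.IsPushout.cancelBaseChange A A' B B' N.carrier)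
  haveI : Module.FinitePresentation B' N' := inferInstance
  let NF : FPFlat A' B' := ⟨N'⟩
  have h : IsOpen (skLocus A' n N' k) := isOpen_skLocus_of_flat_sections (isAffineOpen_top Y) NF k
  rw [← preimage_skLocus N.carrier N' (LinearEquiv.refl B' _) k] at h
  have hbij : Function.Bijective (algebraMap B B') := by
    rw [MvPolynomial.algebraMap_def]
    have := ConcreteCategory.bijective_of_isIso (Scheme.ΓSpecIso (CommRingCat.of A)).inv
    exact ⟨MvPolynomial.map_injective _ this.1, MvPolynomial.map_surjective _ this.2⟩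
  exact ((PrimeSpectrum.isHomeomorph_comap_of_bijective hbij).isQuotientMap.isOpen_preimage).1 h

theorem isConstructible_skLocus_noetherian [IsNoetherianRing A] (N : Type u) [AddCommGroup N]
    [Module (MvPolynomial (Fin n) A) N] [Module.Finite (MvPolynomial (Fin n) A) N] (k : ℕ) :
    IsConstructible (skLocus A n N k) := by
  letI : Module A N := Module.compHom N (algebraMap A (MvPolynomial (Fin n) A))
  haveI : IsScalarTower A (MvPolynomial (Fin n) A) N := IsScalarTower.of_algebraMap_smul fun _ _ => rfl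
  refine Groth.SpectralTopology.isConstructible_of_forall_irreducible fun Z hZ hirr => ?_
  obtain ⟨ζ, hζ⟩ := QuasiSober.sober hirr hZ
  have hζZ : ζ ∈ Z := hζ.def ▸ subset_closure rfl
  let p := ζ.asIdeal.under A
  obtain ⟨a, hap, hflat⟩ := Groth.FlatMorOne.exists_notMem_algStratFlat (M := N)
    (MvPolynomial (Fin n) A) p (Ideal.IsPrime.isRadical inferInstance) (Ideal.IsPrime.ne_top inferInstance)
  let A' := Localization.Away (Ideal.Quotient.mk p a)
  let B' := MvPolynomial (Fin n) A'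
  let N' := B' ⊗[MvPolynomial (Fin n) A] N
  haveI : Module.Flat A' (A' ⊗[A] N) := by
    refine hflat A' ?_ ?_
    · refine eq_bot_iff.2 (Ideal.map_le_iff_le_comap.2 fun x hx => ?_)
      rw [Ideal.mem_comap, Ideal.mem_bot, IsScalarTower.algebraMap_apply A (A ⧸ p) A',
        Ideal.Quotient.algebraMap_eq, Ideal.Quotient.eq_zero_iff_mem.2 hx, map_zero]
    · refine Ideal.eq_top_of_isUnit_mem _ (Ideal.mem_map_of_mem _ (Ideal.mem_sup_right (Ideal.mem_span_singleton_self a))) ?_
      rw [IsScalarTower.algebraMap_apply A (A ⧸ p) A']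
      exact IsLocalization.Away.algebraMap_isUnit (S := A') (Ideal.Quotient.mk p a)
  haveI : Module.Flat A' N' :=
    Module.Flat.of_linearEquiv (Algebra.IsPushout.cancelBaseChange A A' (MvPolynomial (Fin n) A) B' N)
  haveI : Module.FinitePresentation B' N' := Module.finitePresentation_of_finite B' N'
  let NF : FPFlat A' B' := ⟨N'⟩
  obtain ⟨O, hO, hOpre⟩ := exists_isOpen_preimage_eq a p _ (isOpen_skLocus_of_flat NF k)
  rw [← preimage_skLocus N N' (LinearEquiv.refl B' _) k] at hOpre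
  let D : Set (PrimeSpectrum (MvPolynomial (Fin n) A)) :=
    PrimeSpectrum.basicOpen (algebraMap A (MvPolynomial (Fin n) A) a)
  have hD : IsOpen D := PrimeSpectrum.isOpen_basicOpen
  have hmem : ∀ P ∈ Z, P ∈ D → (P ∈ skLocus A n N k ↔ P ∈ O) := by
    intro P hP hPD
    obtain ⟨P', rfl⟩ := exists_point_over a p P
      (Ideal.comap_mono ((PrimeSpectrum.le_iff_specializes _ _).2 (hζ.specializes hP))) hPD
    exact (Set.ext_iff.1 hOpre P').symm
  have hζD : ζ ∈ D := hap
  by_cases hE : ζ ∈ O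
  · exact Or.inr ⟨O ∩ D, hO.inter hD, ⟨ζ, ⟨hE, hζD⟩, hζZ⟩, fun P hP => (hmem P hP.2 hP.1.2).2 hP.1.1⟩
  · left
    rw [IsNowhereDense, Set.eq_empty_iff_forall_notMem]
    intro z hz
    obtain ⟨V, hVsub, hV, hzV⟩ := mem_interior.1 hz
    obtain ⟨V', hV', rfl⟩ := isOpen_induced_iff.1 hV
    have hζV : ζ ∈ V' := (hζ.specializes z.2).mem_open hV' hzV
    obtain ⟨w, hwD, hw⟩ := mem_closure_iff.1 (hVsub (show (⟨ζ, hζZ⟩ : Z) ∈ Subtype.val ⁻¹' V' from hζV))
      (Subtype.val ⁻¹' D) (hD.preimage continuous_subtype_val) hζD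
    exact hE ((hζ.specializes w.2).mem_open hO ((hmem w.1 w.2 hwD).1 hw))

/-- The `(S_k)` locus in the fibres of affine space over any ring is constructible. -/
theorem isConstructible_skLocus (N : Type u) [AddCommGroup N] [Module (MvPolynomial (Fin n) A) N]
    [Module.FinitePresentation (MvPolynomial (Fin n) A) N] (k : ℕ) :
    IsConstructible (skLocus A n N k) := by
  classical
  let B := MvPolynomial (Fin n) A
  obtain ⟨m, K, e, hK⟩ := Module.FinitePresentation.exists_fin (R := B) (M := N)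
  obtain ⟨t, ht⟩ := hK
  let coe : Set A := ⋃ (v ∈ (t : Set (Fin m → B))) (i : Fin m), ((v i).coeffs : Set A)
  have hfin : coe.Finite := t.finite_toSet.biUnion fun v _ => Set.finite_iUnion fun i => Finset.finite_toSet _
  let A₀ : Subalgebra ℤ A := Algebra.adjoin ℤ coe
  haveI : Algebra.FiniteType ℤ A₀ := .adjoin_of_finite hfin
  haveI : IsNoetherianRing A₀ := Algebra.FiniteType.isNoetherianRing ℤ A₀
  let B₀ := MvPolynomial (Fin n) A₀
  have hrange : ∀ v ∈ t, ∀ i, ∃ b₀ : B₀, algebraMap B₀ B b₀ = v i := by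
    intro v hv i
    have : v i ∈ Set.range (MvPolynomial.map (algebraMap A₀ A)) := by
      rw [MvPolynomial.mem_range_map_iff_coeffs_subset]
      intro x hx
      exact ⟨⟨x, Algebra.subset_adjoin (Set.mem_biUnion hv (Set.mem_iUnion.mpr ⟨i, hx⟩))⟩, rfl⟩
    exact this
  choose! v₀ hv₀ using hrange
  let k₀ : t → Fin m → B₀ := fun v i => v₀ v.1 i
  have hK' : K = Submodule.span B (Set.range fun j => fun i => algebraMap B₀ B (k₀ j i)) := by
    rw [← ht]
    refine congrArg (Submodule.span B) ?_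
    ext v
    exact ⟨fun hv => ⟨⟨v, hv⟩, funext fun i => hv₀ v hv i⟩, by
      rintro ⟨⟨w, hw⟩, rfl⟩
      have : (fun i => algebraMap B₀ B (k₀ ⟨w, hw⟩ i)) = w := funext fun i => hv₀ w hw i
      simp only [this]
      exact Finset.mem_coe.mpr hw⟩
  letI : Module B₀ N := Module.compHom N (algebraMap B₀ B)
  haveI : IsScalarTower B₀ B N := IsScalarTower.of_algebraMap_smul fun _ _ => rfl
  obtain ⟨f, hf⟩ := Groth.FlatMorOne.isBaseChange_quotient_span k₀ K e hK'
  haveI : Module.FinitePresentation B₀ ((Fin m → B₀) ⧸ Submodule.span B₀ (Set.range k₀)) :=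
    Module.finitePresentation_of_finite _ _
  rw [← preimage_skLocus _ N hf.equiv k]
  exact (AlgebraicGeometry.Spec.map (CommRingCat.ofHom (algebraMap B₀ B))).isConstructible_preimage (isConstructible_skLocus_noetherian _ k)

end Groth.Ega43FP2

namespace Groth.Ega43FP2

variable {X Y : Scheme.{u}} (f : X ⟶ Y)

/-- The points whose fibre satisfies `(S_k)` form a locally constructible set. -/
theorem isLocallyConstructible_hasSk [LocallyOfFinitePresentation f] (k : ℕ) :
    IsLocallyConstructible {x : X | LocCoh.HasSk k ((f.fiber (f.base x)).presheaf.stalk (f.asFiber x))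
      ((f.fiber (f.base x)).presheaf.stalk (f.asFiber x))} := by
  refine isLocallyConstructible_of_charts f _ fun {W} hW {O} hO hWO => ?_
  let : Algebra Γ(Y, O) Γ(X, W) := (f.appLE O W hWO).hom.toAlgebra
  have : Algebra.FinitePresentation Γ(Y, O) Γ(X, W) := f.finitePresentation_appLE hO hW hWO
  obtain ⟨n, φ, hφ, hker⟩ := Algebra.FinitePresentation.out (R := Γ(Y, O)) (A := Γ(X, W))
  let B := MvPolynomial (Fin n) Γ(Y, O)
  let : Algebra B Γ(X, W) := φ.toRingHom.toAlgebra
  have hAlg : ∀ a : Γ(Y, O), φ (algebraMap Γ(Y, O) B a) = algebraMap Γ(Y, O) Γ(X, W) a := fun a => φ.commutes a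
  have : Module.FinitePresentation B Γ(X, W) :=
    Module.finitePresentation_of_surjective (Algebra.linearMap B Γ(X, W)) hφ (by exact hker)
  let j : PrimeSpectrum Γ(X, W) → PrimeSpectrum B := PrimeSpectrum.comap φ.toRingHom
  have hgood : ∀ (y : Y) (z : f.fiber y) (hz : f.fiberι y z ∈ W),
      (Groth.Ega4b.SkLoc k ((f.fiber y).presheaf.stalk z) ↔
        SkGood k Γ(X, W) (j (hW.primeIdealOf ⟨f.fiberι y z, hz⟩))) := by
    intro y z hz
    obtain ⟨μ, hμ, hcomm, hkerμ⟩ := exists_fibRing_hom f hO hW hWO φ.toRingHom hφ hAlg y z hz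
    let := Groth.SchDom.secAlg (f.fiberι y) z hz
    have h := depth_supportDim_transfer (G := Γ(X, W))
      (F := FibRing (chartPt f hW φ.toRingHom y z hz) Γ(Y, O)) hφ μ hμ hcomm hkerμ
    let R0 := (f.fiber y).presheaf.stalk z
    have e := TensorProduct.AlgebraTensorModule.rid Γ(X, W) R0 R0
    rw [Groth.Ega4b.depth_congr' e, Module.supportDim_eq_of_equiv e, Module.supportDim_self_eq_ringKrullDim] at h
    unfold Groth.Ega4b.SkLoc SkGood
    rw [h.1, h.2]
    rfl
  have hbase : ∀ v : Spec Γ(X, W), f (hW.fromSpec v) =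
      hO.fromSpec (PrimeSpectrum.comap (algebraMap Γ(Y, O) B) (j v) : PrimeSpectrum Γ(Y, O)) := by
    intro v
    rw [← Scheme.Hom.comp_apply, ← IsAffineOpen.SpecMap_appLE_fromSpec f hO hW hWO]
    show hO.fromSpec (PrimeSpectrum.comap (f.appLE O W hWO).hom v) = _
    refine congrArg _ (PrimeSpectrum.ext (Ideal.ext fun a => ?_))
    show algebraMap Γ(Y, O) Γ(X, W) a ∈ v.asIdeal ↔ φ (algebraMap Γ(Y, O) B a) ∈ v.asIdeal
    rw [hAlg]
  convert! (Spec.map (CommRingCat.ofHom φ.toRingHom)).isConstructible_preimage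
    (isConstructible_skLocus Γ(X, W) k) using 1
  ext w
  show LocCoh.HasSk _ _ _ ↔ j w ∈ skLocus Γ(Y, O) n Γ(X, W) k
  have hxW : hW.fromSpec w ∈ W := hW.range_fromSpec.subset ⟨w, rfl⟩
  rw [hasSk_stalk_iff]
  constructor
  · intro h Q hQ hu
    by_cases hsupp : Q ∈ Module.support B Γ(X, W)
    · obtain ⟨v, rfl⟩ : Q ∈ Set.range j := by
        rw [Module.support_eq_zeroLocus] at hsupp
        rw [range_comap_of_surjective _ _ hφ]
        refine PrimeSpectrum.zeroLocus_anti_mono (s := (RingHom.ker φ.toRingHom : Set B)) ?_ hsupp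
        intro b hb
        rw [SetLike.mem_coe, Module.mem_annihilator]
        intro m
        rw [Algebra.smul_def]
        show φ b * m = 0
        rw [show φ b = 0 from hb, zero_mul]
      have hvw : v ⤳ w :=
        (PrimeSpectrum.isClosedEmbedding_comap_of_surjective _ φ.toRingHom hφ).toIsInducing.specializes_iff.1
          ((PrimeSpectrum.le_iff_specializes _ _).1 hQ)
      have hf : f (hW.fromSpec v) = f (hW.fromSpec w) := by
        rw [hbase, hbase]
        exact congrArg _ (PrimeSpectrum.ext hu)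
      obtain ⟨z, hz⟩ : hW.fromSpec v ∈ Set.range (f.fiberι (f (hW.fromSpec w))) :=
        (f.range_fiberι _).ge hf
      have hzW : f.fiberι _ z ∈ W := hz ▸ hW.range_fromSpec.subset ⟨v, rfl⟩
      have hsp : z ⤳ f.asFiber (hW.fromSpec w) := by
        refine (f.fiberι _).isEmbedding.toIsInducing.specializes_iff.1 ?_
        rw [f.fiberι_asFiber, hz]
        exact hvw.map hW.fromSpec.continuous
      have hg := (hgood _ z hzW).1 (h z hsp)
      rwa [show hW.primeIdealOf ⟨f.fiberι _ z, hzW⟩ = v from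
        hW.fromSpec.isOpenEmbedding.injective (by rw [hW.fromSpec_primeIdealOf]; exact hz)] at hg
    · have : Module.support (FibRing Q Γ(Y, O)) (FibRing Q Γ(Y, O) ⊗[B] Γ(X, W)) = ∅ := by
        rw [Groth.Agent.S6284.result, Set.eq_empty_iff_forall_notMem]
        intro q hq
        refine hsupp ((Module.mem_support_mono ?_) hq)
        intro b hb
        by_contra hbP
        exact q.2.ne_top (Ideal.eq_top_of_isUnit_mem _ hb
          ((IsLocalization.map_units (Localization.AtPrime Q.asIdeal) (⟨b, hbP⟩ : Q.asIdeal.primeCompl)).map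
            (Ideal.Quotient.mk _)))
      unfold SkGood
      rw [sP, (Module.supportDim_eq_bot_iff_subsingleton _ _).2 (Module.support_eq_empty_iff.1 this)]
      exact (min_le_right _ _).trans bot_le
  · intro h z hz
    have hsp : f.fiberι _ z ⤳ hW.fromSpec w := by
      have := hz.map (f.fiberι _).continuous
      rwa [f.fiberι_asFiber] at this
    have hzW : f.fiberι _ z ∈ W := hsp.mem_open W.isOpen hxW
    refine (hgood _ z hzW).2 (h _ ?_ ?_)
    · refine (PrimeSpectrum.le_iff_specializes _ _).2 (((hW.fromSpec.isOpenEmbedding.toIsInducing.specializes_iff).1 ?_).map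
        (PrimeSpectrum.continuous_comap _))
      rw [hW.fromSpec_primeIdealOf]
      exact hsp
    · refine congrArg PrimeSpectrum.asIdeal (hO.fromSpec.isOpenEmbedding.injective (a₁ := (PrimeSpectrum.comap
        (algebraMap Γ(Y, O) B) (j (hW.primeIdealOf ⟨_, hzW⟩)) : Spec Γ(Y, O)))
        (a₂ := (PrimeSpectrum.comap (algebraMap Γ(Y, O) B) (j w) : Spec Γ(Y, O))) ?_)
      rw [← hbase, ← hbase, hW.fromSpec_primeIdealOf]
      exact Groth.FibreDim.apply_fiberι f _ z

end Groth.Ega43FP2
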