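import Mathlib
import Groth.Agent.EtaleAlgebra.TorDimAscend
import Groth.Agent.EGA41Two.FlatRegularFibre
import Groth.Agent.FlatMor2.FibCrit.SchemeNoeth
import Groth.Agent.Misc6.FlatInj
import Groth.Agent.DAlg.TorDim
import Groth.Agent.Ega4Algebra1.GlobalDim

/-!
# Tor dimension from the fibre over the base
-/

set_option autoImplicit false
set_option linter.style.haveILetI false
universe u

open IsLocalRing TensorProduct Groth.EtaleAlgebra

set_option synthInstance.maxHeartbeats 400000
set_option maxHeartbeats 1600000

namespace Groth.Ega43FP2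

variable {A R P : Type u} [CommRing A] [CommRing R] [CommRing P]
  [IsLocalRing A] [IsLocalRing R] [IsLocalRing P] [IsNoetherianRing R] [IsNoetherianRing P]
  [Algebra A R] [IsLocalHom (algebraMap A R)] [Algebra R P] [IsLocalHom (algebraMap R P)]
  [Algebra A P] [IsScalarTower A R P] [Module.Flat A R] [Module.Flat R P]

/-- For a finite module flat over the base the tor dimension is bounded by that of the fibre. -/
theorem hasTorDimLE_of_fibre : ∀ (j : ℕ) (M : Type u) [AddCommGroup M] [Module P M] [Module R M] [Module A M]
    [IsScalarTower R P M] [IsScalarTower A R M] [IsScalarTower A P M] [Module.Finite P M] [Module.Flat A M],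
    DRing.HasTorDimLE (R ⧸ (maximalIdeal A).map (algebraMap A R)) j
      (M ⧸ ((maximalIdeal A).map (algebraMap A R) • (⊤ : Submodule R M))) →
    DRing.HasTorDimLE R j M := by
  let J := (maximalIdeal A).map (algebraMap A R)
  intro j
  induction j with
  | zero =>
    intro M _ _ _ _ _ _ _ _ _ h
    haveI : Module.Flat (R ⧸ J) (M ⧸ (J • (⊤ : Submodule R M))) := flat_of_hasTorDimLE_zero _ h
    rcases subsingleton_or_nontrivial M with hs | hs
    · haveI : Module.Flat R M := Module.Flat.of_linearEquiv
        (LinearEquiv.ofSubsingleton M (Fin 0 → R))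
      exact hasTorDimLE_of_flat 0 M
    · haveI : Module.Flat R M :=
        ((Groth.FlatMor2.FibCrit.noetherian_local_iff (A := A) (Br := R) (Cq := P) (Mq := M)).1
          ⟨inferInstance, inferInstance⟩).2
      exact hasTorDimLE_of_flat 0 M
  | succ j ih =>
    intro M _ _ _ _ _ _ _ _ _ h
    obtain ⟨k, g, hg⟩ := Module.Finite.exists_fin' P M
    let F := Fin k → P
    let K := LinearMap.ker g
    haveI : Module.Flat A P := Module.Flat.trans A R P
    haveI : Module.Flat A (Fin k → P) := Module.Flat.trans A P _
    haveI : Module.Flat R (Fin k → P) := Module.Flat.trans R P _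
    have hexA : Function.Exact (K.subtype.restrictScalars A) (g.restrictScalars A) :=
      LinearMap.exact_subtype_ker_map g
    haveI : Module.Flat A K := flat_of_hasTorDimLE_zero K
      (hasTorDimLE_kernel (K.subtype.restrictScalars A) (g.restrictScalars A) Subtype.val_injective hexA hg
        (hasTorDimLE_of_flat 1 M))
    haveI : Module.Finite P K := Module.Finite.iff_fg.2 (IsNoetherian.noetherian K)
    have hexR : Function.Exact (K.subtype.restrictScalars R) (g.restrictScalars R) :=
      LinearMap.exact_subtype_ker_map g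
    refine hasTorDimLE_cokernel (K.subtype.restrictScalars R) (g.restrictScalars R) Subtype.val_injective hexR hg
      (ih K ?_)
    let f' : (K ⧸ (J • (⊤ : Submodule R K))) →ₗ[R] F ⧸ (J • (⊤ : Submodule R F)) :=
      Submodule.mapQ _ _ (K.subtype.restrictScalars R) (Submodule.map_le_iff_le_comap.1 (by
        rw [Submodule.map_smul'']
        exact Submodule.smul_mono le_rfl le_top))
    let g' : (F ⧸ (J • (⊤ : Submodule R F))) →ₗ[R] M ⧸ (J • (⊤ : Submodule R M)) :=
      Submodule.mapQ _ _ (g.restrictScalars R) (Submodule.map_le_iff_le_comap.1 (by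
        rw [Submodule.map_smul'']
        exact Submodule.smul_mono le_rfl le_top))
    haveI : Module.Flat (R ⧸ J) (F ⧸ (J • (⊤ : Submodule R F))) := by
      refine Groth.FlatMor2.FibCrit.flat_of_addEquiv (TensorProduct.quotTensorEquivQuotSMul F J).toAddEquiv fun z m => ?_
      obtain ⟨z, rfl⟩ := Ideal.Quotient.mk_surjective z
      rw [← Ideal.Quotient.algebraMap_eq, algebraMap_smul, algebraMap_smul]
      exact map_smul (TensorProduct.quotTensorEquivQuotSMul F J) z m
    have hinjA := Groth.Misc6.flatInj (A ⧸ maximalIdeal A) (K.subtype.restrictScalars A) (g.restrictScalars A)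
      Subtype.val_injective hexA hg
    let eK := TensorProduct.quotTensorEquivQuotSMul K (maximalIdeal A)
    let eF := TensorProduct.quotTensorEquivQuotSMul F (maximalIdeal A)
    have hmem : ∀ x : K, (x : F) ∈ J • (⊤ : Submodule R F) → x ∈ J • (⊤ : Submodule R K) := by
      intro x hx
      have hxA : (x : F) ∈ maximalIdeal A • (⊤ : Submodule A F) := by
        rw [← Groth.EGA41Two.FlatFibre.smul_restrictScalars_eq (B := R)]
        exact hx
      have h0 : (K.subtype.restrictScalars A).lTensor (A ⧸ maximalIdeal A) (1 ⊗ₜ x) = 0 := by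
        apply eF.injective
        rw [map_zero, LinearMap.lTensor_tmul]
        show eF (1 ⊗ₜ (x : F)) = 0
        rw [show eF ((1 : A ⧸ maximalIdeal A) ⊗ₜ (x : F)) = Submodule.Quotient.mk (x : F) from by
          show eF (Ideal.Quotient.mk _ 1 ⊗ₜ (x : F)) = _
          simp [eF], Submodule.Quotient.mk_eq_zero]
        exact hxA
      have h1 := congrArg eK (hinjA (h0.trans (map_zero _).symm))
      rw [map_zero, show eK ((1 : A ⧸ maximalIdeal A) ⊗ₜ x) = Submodule.Quotient.mk x from by
        show eK (Ideal.Quotient.mk _ 1 ⊗ₜ x) = _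
        simp [eK], Submodule.Quotient.mk_eq_zero,
        ← Groth.EGA41Two.FlatFibre.smul_restrictScalars_eq (B := R)] at h1
      exact h1
    have hf' : Function.Injective f' := by
      rw [injective_iff_map_eq_zero]
      intro x hx
      obtain ⟨x, rfl⟩ := Submodule.Quotient.mk_surjective _ x
      exact (Submodule.Quotient.mk_eq_zero _).2 (hmem x ((Submodule.Quotient.mk_eq_zero _).1 hx))
    have hg' : Function.Surjective g' := fun y => by
      obtain ⟨y, rfl⟩ := Submodule.Quotient.mk_surjective _ y
      obtain ⟨x, rfl⟩ := hg y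
      exact ⟨Submodule.Quotient.mk x, rfl⟩
    have hex' : Function.Exact f' g' := by
      intro y
      obtain ⟨y, rfl⟩ := Submodule.Quotient.mk_surjective _ y
      constructor
      · intro hy
        have hy' : g y ∈ (J • (⊤ : Submodule R F)).map (g.restrictScalars R) := by
          rw [Submodule.map_smul'', Submodule.map_top, LinearMap.range_eq_top.2 (show Function.Surjective (g.restrictScalars R) from hg)]
          exact (Submodule.Quotient.mk_eq_zero _).1 hy
        obtain ⟨z, hz, hzy⟩ := hy'
        refine ⟨Submodule.Quotient.mk ⟨y - z, ?_⟩, ?_⟩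
        · show g (y - z) = 0
          rw [map_sub, sub_eq_zero]
          exact hzy.symm
        · show (Submodule.Quotient.mk (y - z) : F ⧸ (J • (⊤ : Submodule R F))) = _
          rw [Submodule.Quotient.eq]
          rw [sub_sub_cancel_left]
          exact neg_mem hz
      · rintro ⟨x, hx⟩
        obtain ⟨x, rfl⟩ := Submodule.Quotient.mk_surjective _ x
        rw [← hx]
        show (Submodule.Quotient.mk (g (x : F)) : M ⧸ (J • (⊤ : Submodule R M))) = 0
        rw [x.2]
        rfl
    exact hasTorDimLE_kernel (f'.extendScalarsOfSurjective (S := R ⧸ J) Ideal.Quotient.mk_surjective)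
      (g'.extendScalarsOfSurjective (S := R ⧸ J) Ideal.Quotient.mk_surjective) hf' hex' hg' h

end Groth.Ega43FP2

namespace Groth.Ega43FP2

open CategoryTheory in
attribute [local instance] HasDerivedCategory.standard in
/-- Tor dimension of an essentially finite type algebra flat over the base, with regular fibre below. -/
theorem hasTorDimLE_essFiniteType {A R O : Type u} [CommRing A] [CommRing R] [CommRing O]
    [IsLocalRing A] [IsLocalRing R] [IsLocalRing O] [IsNoetherianRing R]
    [Algebra A R] [IsLocalHom (algebraMap A R)] [Algebra R O] [IsLocalHom (algebraMap R O)]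
    [Algebra A O] [IsScalarTower A R O] [Module.Flat A R] [Module.Flat A O] (n r : ℕ)
    [IsRegularLocalRing (R ⧸ (IsLocalRing.maximalIdeal A).map (algebraMap A R))]
    (hr : ringKrullDim (R ⧸ (IsLocalRing.maximalIdeal A).map (algebraMap A R)) = (r : WithBot ℕ∞)) (hrn : r ≤ n)
    (m : ℕ) (t : Fin m → O) (ht : ∀ z : O, ∃ b c : MvPolynomial (Fin m) R,
      IsUnit (MvPolynomial.aeval t c) ∧ z * MvPolynomial.aeval t c = MvPolynomial.aeval t b) :
    DRing.HasTorDimLE R n O := by
  let B := MvPolynomial (Fin m) R
  let φ : B →ₐ[R] O := MvPolynomial.aeval t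
  let Q : Ideal B := (IsLocalRing.maximalIdeal O).comap φ.toRingHom
  haveI : Q.IsPrime := Ideal.IsPrime.comap _
  let P := Localization.AtPrime Q
  have hu : ∀ s : Q.primeCompl, IsUnit (φ.toRingHom s) := fun s =>
    IsLocalRing.notMem_maximalIdeal.1 fun h => s.2 h
  let μ : P →+* O := IsLocalization.lift hu
  letI : Algebra P O := μ.toAlgebra
  haveI : IsScalarTower R P O := IsScalarTower.of_algebraMap_eq fun a => by
    show algebraMap R O a = μ (algebraMap R P a)
    rw [IsScalarTower.algebraMap_apply R B P]
    show _ = IsLocalization.lift hu _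
    rw [IsLocalization.lift_eq]
    exact (φ.commutes a).symm
  haveI : IsScalarTower A R P := inferInstance
  haveI : IsScalarTower A P O := IsScalarTower.of_algebraMap_eq fun a => by
    show algebraMap A O a = algebraMap P O (algebraMap R P (algebraMap A R a))
    rw [← IsScalarTower.algebraMap_apply R P O, ← IsScalarTower.algebraMap_apply A R O]
  have hμ : Function.Surjective μ := fun z => by
    obtain ⟨b, c, hc, hz⟩ := ht z
    have hcQ : c ∈ Q.primeCompl := fun h => IsLocalRing.notMem_maximalIdeal.2 hc h
    refine ⟨IsLocalization.mk' _ b ⟨c, hcQ⟩, ?_⟩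
    show IsLocalization.lift hu _ = z
    rw [IsLocalization.lift_mk'_spec]
    show φ b = φ c * z
    rw [mul_comm]
    exact hz.symm
  haveI : Module.Finite P O := Module.Finite.of_surjective (Algebra.linearMap P O) hμ
  haveI : Module.Flat R P := Module.Flat.trans R B P
  haveI : IsLocalHom (algebraMap R P) := ⟨fun a ha => by
    have h1 := ha.map μ
    rw [show μ (algebraMap R P a) = algebraMap R O a from (IsScalarTower.algebraMap_apply R P O a).symm] at h1
    exact IsUnit.of_map (algebraMap R O) a h1⟩
  refine hasTorDimLE_of_fibre (A := A) (R := R) (P := P) n O ?_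
  let J := (IsLocalRing.maximalIdeal A).map (algebraMap A R)
  let M := O ⧸ (J • (⊤ : Submodule R O))
  refine (Groth.DAlg.hasTorDimLE_iff (R := R ⧸ J) M n).2 ?_
  refine Groth.DAlg.torAmp_of_projectiveDimension n (ModuleCat.of (R ⧸ J) M) ?_
  have h := Groth.Ega4Algebra1.pdLT_all_of_isRegularLocalRing (R ⧸ J) r hr (ModuleCat.of (R ⧸ J) M)
  exact hasProjectiveDimensionLT_of_ge _ (r + 1) (n + 1) (by omega)

end Groth.Ega43FP2
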